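import Mathlib
import Cfsg.Prelude.Def_LocalEven
import Cfsg.Agent.H9.SFreeCore

/-!
An element `y` of prime power order `r ^ e`, inverted by an involution, whose prime `r` only divides
`2 ^ j - 1` for `j` large against a parameter `k`: on any elementary abelian 2-group moved by `y` the
involution gains at least `k ^ 2`.
-/

set_option autoImplicit false

namespace H74.Pair

open Subgroup
open Cfsg.Agent.H9.SFree (Elem dispHom dispHom_range_le card_dispHom_range conj_mem conj_mem'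
  disp_fpf fpf_structure mem_centralizer_singleton')

/-- `y` has order a power of a prime `r ≥ 5` such that `k ^ 4 ≤ 2 * 2 ^ j` whenever `r ∣ 2 ^ j - 1`,
and `k` is a power of two. -/
def Good {G : Type*} [Group G] (k : ℕ) (y : G) : Prop :=
  (∃ i, k = 2 ^ i) ∧ ∃ r : ℕ, r.Prime ∧ 5 ≤ r ∧ (∃ e, y ^ r ^ e = 1) ∧
    ∀ j, 0 < j → r ∣ 2 ^ j - 1 → k ^ 4 ≤ 2 * 2 ^ j

section good

variable {G H : Type*} [Group G] [Group H] {k : ℕ} {y : G}

theorem Good.map (h : Good k y) (f : G →* H) : Good k (f y) := by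
  obtain ⟨hk, r, hr, h5, ⟨e, he⟩, hj⟩ := h
  exact ⟨hk, r, hr, h5, ⟨e, by rw [← map_pow, he, map_one]⟩, hj⟩

theorem Good.of_pow_eq {y' : H} (h : Good k y) (h' : ∀ n, y ^ n = 1 → y' ^ n = 1) : Good k y' := by
  obtain ⟨hk, r, hr, h5, ⟨e, he⟩, hj⟩ := h
  exact ⟨hk, r, hr, h5, ⟨e, h' _ he⟩, hj⟩

theorem Good.coprime_six (h : Good k y) : Nat.Coprime (orderOf y) 6 := by
  obtain ⟨-, r, hr, h5, ⟨e, he⟩, -⟩ := h
  refine Nat.Coprime.coprime_dvd_left (orderOf_dvd_of_pow_eq_one he) (Nat.Coprime.pow_left e ?_)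
  rw [hr.coprime_iff_not_dvd]
  intro hd
  have := Nat.le_of_dvd (by norm_num) hd
  interval_cases r <;> norm_num at *

theorem Good.coprime_two (h : Good k y) : Nat.Coprime (orderOf y) 2 :=
  h.coprime_six.coprime_dvd_right (by norm_num)

theorem Good.pos (h : Good k y) : 0 < k := by
  obtain ⟨⟨i, rfl⟩, -⟩ := h
  positivity

/-- An element of prime order `r ≥ 5` is good for `k ≤ 2`. -/
theorem good_two {r e : ℕ} (hr : r.Prime) (h5 : 5 ≤ r) (hy : y ^ r ^ e = 1)
    (hk : k = 1 ∨ k = 2) : Good k y := by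
  refine ⟨?_, r, hr, h5, ⟨e, hy⟩, fun j hj hd => ?_⟩
  · rcases hk with rfl | rfl
    exacts [⟨0, rfl⟩, ⟨1, rfl⟩]
  · have h3 : 3 ≤ j := by
      by_contra hlt
      have := Nat.le_of_dvd (by have := Nat.one_lt_two_pow hj.ne'; omega) hd
      interval_cases j <;> omega
    have h8 : 2 ^ 3 ≤ 2 ^ j := Nat.pow_le_pow_right (by norm_num) h3
    rcases hk with rfl | rfl <;> omega

end good

variable {G : Type*} [Group G]

/-- A nontrivial fixed point free part of a good element has at least `k ^ 2` fixed points of `a`. -/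
theorem sq_le_card_fixed {K : Subgroup G} [Finite K] (hK : Elem K) {y a : G} {k : ℕ} (hgood : Good k y)
    (hy : y ∈ normalizer (K : Set G)) (ha : a ∈ normalizer (K : Set G))
    (hd : a * y * a⁻¹ * y ∈ centralizer (K : Set G)) (ha2 : a * a ∈ centralizer (K : Set G))
    (hfix : ∀ x ∈ K, y * x * y⁻¹ = x → x = 1) (hne : K ≠ ⊥) :
    k ^ 2 ≤ Nat.card ↥(K ⊓ centralizer ({a} : Set G)) := by
  obtain ⟨-, -, hsq, -⟩ := fpf_structure hK hy ha hgood.coprime_six hd ha2 hfix
  obtain ⟨⟨i, rfl⟩, r, hr, h5, ⟨e, he⟩, hj⟩ := hgood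
  set t := Nat.card ↥(K ⊓ centralizer ({a} : Set G)) with ht
  haveI : Fact (Nat.Prime 2) := ⟨Nat.prime_two⟩
  haveI : Fact r.Prime := ⟨hr⟩
  have hK2 : IsPGroup 2 K := fun x => ⟨1, Subtype.ext (by rw [pow_one, pow_two]; exact hK.sq x x.2)⟩
  obtain ⟨j, hcard⟩ := IsPGroup.iff_card.mp hK2
  obtain ⟨s, -, hts⟩ := (Nat.dvd_prime_pow Nat.prime_two).mp
    (hcard ▸ Subgroup.card_dvd_of_le (inf_le_left : K ⊓ centralizer ({a} : Set G) ≤ K))
  rw [← ht] at hts
  have hj0 : 0 < j := by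
    rcases Nat.eq_zero_or_pos j with h | h
    · exact absurd (eq_bot_of_card_eq K (by rw [hcard, h, pow_zero])) hne
    · exact h
  have hrj : r ∣ 2 ^ j - 1 := by
    have hzN : zpowers y ≤ normalizer (K : Set G) := zpowers_le.mpr hy
    have hZ : IsPGroup r (zpowers y) := by
      rintro ⟨z, hz⟩
      obtain ⟨n, rfl⟩ := mem_zpowers_iff.mp hz
      refine ⟨e, Subtype.ext ?_⟩
      show (y ^ n) ^ r ^ e = 1
      rw [← zpow_natCast, ← zpow_mul, mul_comm, zpow_mul, zpow_natCast, he, one_zpow]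
    letI : MulAction (zpowers y) K :=
      { smul := fun z x => ⟨(z : G) * x * (z : G)⁻¹, conj_mem (hzN z.2) x.2⟩
        one_smul := fun x => Subtype.ext (by show (1 : G) * x * (1 : G)⁻¹ = x; group)
        mul_smul := fun z w x => Subtype.ext (by
          show ((z : G) * w) * x * ((z : G) * w)⁻¹ = z * (w * x * (w : G)⁻¹) * (z : G)⁻¹
          group) }
    have h1 : Nat.card (MulAction.fixedPoints (zpowers y) K) = 1 := by
      rw [Nat.card_eq_one_iff_unique]
      refine ⟨⟨fun x x' => ?_⟩, ⟨⟨1, fun z => Subtype.ext (by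
        show (z : G) * ((1 : K) : G) * (z : G)⁻¹ = (1 : K); simp)⟩⟩⟩
      have h : ∀ x : MulAction.fixedPoints (zpowers y) K, (x : K) = 1 := fun x =>
        Subtype.ext (hfix _ (x : K).2 (congrArg Subtype.val (x.2 ⟨y, mem_zpowers y⟩)))
      exact Subtype.ext ((h x).trans (h x').symm)
    have h2 := hZ.card_modEq_card_fixedPoints K
    rw [h1, hcard] at h2
    exact (Nat.modEq_iff_dvd' Nat.one_le_two_pow).mp h2.symm
  have h4 := hj j hj0 hrj
  rw [← hcard, hsq, hts, ← pow_mul, ← pow_mul, ← pow_succ'] at h4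
  have h6 := (Nat.pow_le_pow_iff_right (by norm_num : 1 < 2)).mp h4
  rw [hts, ← pow_mul]
  exact Nat.pow_le_pow_right (by norm_num) (by omega)

/-- A good element moving `X` makes `[X, a]` large. -/
theorem sq_le_card_range {X : Subgroup G} [Finite X] (hX : Elem X) {y a : G} {k : ℕ}
    (hgood : Good k y) (hy : y ∈ normalizer (X : Set G)) (ha : a ∈ normalizer (X : Set G))
    (hd : a * y * a⁻¹ * y ∈ centralizer (X : Set G)) (ha2 : a * a ∈ centralizer (X : Set G))
    {x0 : G} (hx0 : x0 ∈ X) (hne : y * x0 * y⁻¹ ≠ x0) :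
    k ^ 2 ≤ Nat.card (dispHom hX ha).range := by
  set K := (dispHom hX hy).range with hKdef
  have hKX : K ≤ X := dispHom_range_le hX hy
  obtain ⟨hyK, haK, hfix⟩ := disp_fpf hX hy ha hgood.coprime_six hd
  haveI : Finite K := Finite.of_injective (Subgroup.inclusion hKX) (Subgroup.inclusion_injective _)
  have hK0 : K ≠ ⊥ := fun h => hne (mul_inv_eq_one.mp (mem_bot.mp (h ▸ (⟨⟨x0, hx0⟩, rfl⟩ :
    y * x0 * y⁻¹ * x0⁻¹ ∈ K))))
  have hd' : a * y * a⁻¹ * y ∈ centralizer (K : Set G) :=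
    centralizer_le (SetLike.coe_subset_coe.mpr hKX) hd
  have ha2' : a * a ∈ centralizer (K : Set G) := centralizer_le (SetLike.coe_subset_coe.mpr hKX) ha2
  obtain ⟨-, hT, -, -⟩ := fpf_structure (hX.mono hKX) hyK haK hgood.coprime_six hd' ha2' hfix
  refine le_trans (sq_le_card_fixed (hX.mono hKX) hgood hyK haK hd' ha2' hfix hK0) ?_
  rw [← hT]
  haveI : Finite (dispHom hX ha).range :=
    Finite.of_surjective _ (dispHom hX ha).rangeRestrict_surjective
  refine Subgroup.card_le_of_le ?_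
  rintro _ ⟨s, rfl⟩
  exact ⟨⟨s, hKX s.2⟩, rfl⟩

end H74.Pair
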