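import Mathlib
import Cfsg.Prelude.Def_LocalEven
import Cfsg.Agent.H74.Pair.Basic
import Cfsg.Agent.H74.Rank1Sz
import Cfsg.Agent.H57.SzAut
import Cfsg.Agent.H57.SzTwo
import Cfsg.Agent.H57.SzForm
import Cfsg.Agent.H55.PSLAut
import Cfsg.Agent.H55.PSLAutUnique
import Cfsg.Agent.H70.AutPSLTwoKlein
import Cfsg.Agent.H39.InvolTor
import Cfsg.Agent.H39.KleinNormalizer
import Cfsg.Agent.H37.Card
import Cfsg.Agent.H65.BaerSuzuki
import Cfsg.Agent.H65.Order12
import Cfsg.Agent.H32.FewSylows
import Cfsg.Agent.H1.Cores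

/-!
An elementary abelian 2-group of automorphisms of a Suzuki group or of `PSL₂(3^odd)` in which no
involution inverts an element of order three: a hyperplane-like subgroup fixes a good element
inverted by the rest.
-/

set_option autoImplicit false
set_option linter.all false

namespace H74.Pair

open Subgroup
open Cfsg.Agent.H9.SFree (Elem)

/-- A subgroup of `E`, an element of `E` and a good element fixed by the former, inverted by the
latter. -/
def HasPair {T : Type*} [Group T] (E : Subgroup (MulAut T)) : Prop :=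
  ∃ B, B ≤ E ∧ ∃ α ∈ E, ∃ t : T, t ≠ 1 ∧ (∀ β ∈ B, β t = t) ∧ α t = t⁻¹ ∧
    Good (B.relIndex E) t

/-- No element of `E` inverts an element of order three. -/
def NoThree {T : Type*} [Group T] (E : Subgroup (MulAut T)) : Prop :=
  ∀ α ∈ E, ∀ t : T, orderOf t = 3 → α t ≠ t⁻¹

theorem hasPair_transport {T T' : Type*} [Group T] [Group T'] (e : T ≃* T')
    {E : Subgroup (MulAut T)}
    (h : HasPair (E.map (MulAut.congr e).toMonoidHom)) : HasPair E := by
  obtain ⟨B, hB, _, ⟨α, hα, rfl⟩, t, ht, hfix, hinv, hg⟩ := h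
  set c := (MulAut.congr e).toMonoidHom with hc
  have hinj : Function.Injective c := (MulAut.congr e).injective
  refine ⟨B.comap c, fun x hx => ?_, α, hα, e.symm t, ?_, fun β hβ => ?_, ?_, ?_⟩
  · obtain ⟨x', hx', he⟩ := hB hx
    exact hinj he ▸ hx'
  · simpa using ht
  · have := hfix _ hβ
    change e (β (e.symm t)) = t at this
    exact e.eq_symm_apply.mpr this
  · change e (α (e.symm t)) = t⁻¹ at hinv
    rw [← map_inv]
    exact e.eq_symm_apply.mpr hinv
  · rw [relIndex_comap]
    exact hg.map e.symm.toMonoidHom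

theorem NoThree.map {T T' : Type*} [Group T] [Group T'] {E : Subgroup (MulAut T)} (h : NoThree E)
    (e : T ≃* T') : NoThree (E.map (MulAut.congr e).toMonoidHom) := by
  rintro _ ⟨α, hα, rfl⟩ t ht hinv
  change e (α (e.symm t)) = t⁻¹ at hinv
  refine h α hα (e.symm t) (by rw [MulEquiv.orderOf_eq, ht]) ?_
  rw [← map_inv]
  exact e.eq_symm_apply.mpr hinv

/-- An element of odd order inverted by `a` gives one of prime order at least five. -/
theorem exists_prime_power {T : Type*} [Group T] [Finite T] {h : T} (f : T →* T) (h1 : h ≠ 1)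
    (hodd : Odd (orderOf h)) (hinv : f h = h⁻¹) (h3 : ∀ t : T, orderOf t = 3 → f t ≠ t⁻¹) :
    ∃ n r : ℕ, r.Prime ∧ 5 ≤ r ∧ orderOf (h ^ n) = r ∧ f (h ^ n) = (h ^ n)⁻¹ := by
  obtain ⟨r, hr, hd⟩ := Nat.exists_prime_and_dvd (n := orderOf h)
    (fun e => h1 (orderOf_eq_one_iff.mp e))
  have hord : orderOf (h ^ (orderOf h / r)) = r := orderOf_pow_orderOf_div (orderOf_pos h).ne' hd
  have hinv' : f (h ^ (orderOf h / r)) = (h ^ (orderOf h / r))⁻¹ := by rw [map_pow, hinv, inv_pow]
  refine ⟨_, r, hr, ?_, hord, hinv'⟩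
  have h2 : r ≠ 2 := by
    rintro rfl
    exact (Nat.not_even_iff_odd.mpr hodd) (even_iff_two_dvd.mpr hd)
  have h3' : r ≠ 3 := by
    rintro rfl
    exact h3 _ hord hinv'
  have := hr.two_le
  have : r ≠ 4 := fun e => by rw [e] at hr; norm_num at hr
  omega

/-- An involutory automorphism of a non-abelian simple group inverts an element of prime order. -/
theorem exists_prime_inverted {T : Type*} [Group T] [Finite T] [IsSimpleGroup T]
    (hn : ¬ IsMulCommutative T) {α : MulAut T} (hα2 : α * α = 1) (hα1 : α ≠ 1)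
    (h3 : ∀ t : T, orderOf t = 3 → α t ≠ t⁻¹) :
    ∃ (t : T) (r : ℕ), r.Prime ∧ 5 ≤ r ∧ orderOf t = r ∧ α t = t⁻¹ := by
  have hC : center T = ⊥ := by
    rcases (inferInstance : (center T).Normal).eq_bot_or_eq_top with h | h
    · exact h
    · exact absurd (⟨⟨fun x y => Subgroup.mem_center_iff.mp (h ▸ mem_top y) x⟩⟩) hn
  have hinj : Function.Injective (MulAut.conj : T →* MulAut T) := by
    rw [← MonoidHom.ker_eq_bot_iff, eq_bot_iff]
    intro x hx
    rw [← hC, Subgroup.mem_center_iff]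
    intro g
    have h' : x * g * x⁻¹ = g := DFunLike.congr_fun (MonoidHom.mem_ker.mp hx) g
    exact (mul_inv_eq_iff_eq_mul.mp h').symm
  have hconj : ∀ t, α * MulAut.conj t * α⁻¹ = MulAut.conj (α t) := fun t => by
    ext g
    show α (t * α⁻¹ g * t⁻¹) = α t * g * (α t)⁻¹
    rw [map_mul, map_mul, map_inv, MulAut.apply_inv_self]
  have hainv : α⁻¹ = α := inv_eq_of_mul_eq_one_right hα2
  set I := (MulAut.conj : T →* MulAut T).range with hI
  have hnI : zpowers α ≤ normalizer (I : Set (MulAut T)) := zpowers_le.mpr (by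
    apply mem_normalizer_fintype
    rintro _ ⟨t, rfl⟩
    exact ⟨α t, (hconj t).symm⟩)
  set H := I ⊔ zpowers α with hH
  let a : H := ⟨α, mem_sup_right (mem_zpowers α)⟩
  have haO : a ∉ Cfsg.pCore 2 H := by
    intro ha
    apply hα1
    have hO := H1.pCore_normal' 2 H
    have hfix : ∀ t, α t = t := by
      set φ : T →* H := (MulAut.conj : T →* MulAut T).codRestrict H
        (fun t => mem_sup_left ⟨t, rfl⟩) with hφ
      have hker : (Cfsg.pCore 2 H).comap φ = ⊥ := by
        rcases (hO.comap φ).eq_bot_or_eq_top with h | h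
        · exact h
        · exfalso
          have hp : IsPGroup 2 T := by
            intro t
            obtain ⟨k, hk⟩ := H1.isPGroup_pCore 2 H ⟨φ t, (h ▸ mem_top t : t ∈ (Cfsg.pCore 2 H).comap φ)⟩
            refine ⟨k, hinj ?_⟩
            rw [map_pow, map_one]
            exact congrArg (fun z : Cfsg.pCore 2 H => ((z : H) : MulAut T)) hk
          haveI := hp.isNilpotent
          exact hn ⟨⟨IsSimpleGroup.comm_iff_isSolvable.mpr inferInstance⟩⟩
      intro t
      have hmem : a * φ t * a⁻¹ * (φ t)⁻¹ ∈ Cfsg.pCore 2 H := by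
        rw [show a * φ t * a⁻¹ * (φ t)⁻¹ = a * (φ t * a⁻¹ * (φ t)⁻¹) by group]
        exact mul_mem ha (hO.conj_mem _ (inv_mem ha) _)
      have he : a * φ t * a⁻¹ * (φ t)⁻¹ = φ (α t * t⁻¹) := Subtype.ext (by
        show α * MulAut.conj t * α⁻¹ * (MulAut.conj t)⁻¹ = MulAut.conj (α t * t⁻¹)
        rw [hconj, map_mul, map_inv])
      rw [he] at hmem
      have h1 : α t * t⁻¹ ∈ (Cfsg.pCore 2 H).comap φ := hmem
      rw [hker, mem_bot, mul_inv_eq_one] at h1
      exact h1
    exact MulEquiv.ext fun t => hfix t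
  have ha : orderOf a = 2 := orderOf_eq_prime (Subtype.ext (by rw [pow_two]; exact hα2))
    (fun h => hα1 (congrArg Subtype.val h))
  obtain ⟨h, h1, hodd, hinv⟩ := H65.exists_odd_inverted ha haO
  obtain ⟨t, ht⟩ : (h : MulAut T) ∈ I := by
    -- the index of the inner part is at most two
    obtain ⟨k, hk⟩ := hodd
    obtain ⟨_, ⟨t, rfl⟩, _, ⟨i, rfl⟩, he⟩ := H1.exists_mul_of_mem_sup hnI h.2
    dsimp only at he
    rcases Int.even_or_odd i with ⟨j, rfl⟩ | ⟨j, rfl⟩
    · refine ⟨t, ?_⟩
      rw [he, ← two_mul, zpow_mul, zpow_ofNat, pow_two, hα2, one_zpow, mul_one]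
    · rw [zpow_add, zpow_mul, zpow_ofNat, pow_two, hα2, one_zpow, one_mul, zpow_one] at he
      have hsq : (h : MulAut T) ^ 2 ∈ I := by
        rw [he, pow_two]
        refine ⟨t * α t, ?_⟩
        rw [map_mul, ← hconj, hainv]
        group
      have hp : (h : MulAut T) ^ (2 * k + 1) ∈ I := by
        rw [← hk, ← Subgroup.orderOf_coe, pow_orderOf_eq_one]; exact one_mem _
      rw [pow_succ, pow_mul] at hp
      simpa using mul_mem (inv_mem (pow_mem hsq k)) hp
  have hit : α t = t⁻¹ := hinj (by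
    rw [← hconj, ht, map_inv, ht]
    exact congrArg Subtype.val hinv)
  have ht1 : t ≠ 1 := fun e => h1 (Subtype.ext (by rw [← ht, e, map_one]; rfl))
  obtain ⟨n, r, hr, h5, hord, hinv'⟩ := exists_prime_power α.toMonoidHom ht1 (by
    rwa [← Subgroup.orderOf_coe, ← ht, orderOf_injective _ hinj] at hodd) hit h3
  exact ⟨t ^ n, r, hr, h5, hord, hinv'⟩

/-- A subgroup of exponent two of `MulAut T` all of whose elements are inner comes from `T`. -/
theorem exists_inner {T : Type*} [Group T] {E : Subgroup (MulAut T)} (hE : Elem E)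
    (hinn : ∀ α ∈ E, ∃ t, MulAut.conj t = α)
    (hinj : Function.Injective (MulAut.conj : T →* MulAut T)) :
    ∃ E0 : Subgroup T, E0.map MulAut.conj = E ∧ Elem E0 := by
  refine ⟨E.comap MulAut.conj, ?_, ?_, ?_⟩
  · refine le_antisymm (map_comap_le _ _) fun α hα => ?_
    obtain ⟨t, rfl⟩ := hinn α hα
    exact ⟨t, hα, rfl⟩
  · intro x hx y hy
    exact hinj (by rw [map_mul, map_mul]; exact hE.comm _ hx _ hy)
  · intro x hx
    exact hinj (by rw [map_mul, map_one]; exact hE.sq _ hx)

theorem conj_injective_of_simple {T : Type*} [Group T] [IsSimpleGroup T]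
    (hn : ¬ IsMulCommutative T) : Function.Injective (MulAut.conj : T →* MulAut T) := by
  rw [← MonoidHom.ker_eq_bot_iff]
  rcases (inferInstance : (MulAut.conj : T →* MulAut T).ker.Normal).eq_bot_or_eq_top with h | h
  · exact h
  · exfalso
    refine hn ⟨⟨fun x y => ?_⟩⟩
    have h' : x * y * x⁻¹ = y := DFunLike.congr_fun (MonoidHom.mem_ker.mp (h ▸ mem_top x :
      x ∈ (MulAut.conj : T →* MulAut T).ker)) y
    exact mul_inv_eq_iff_eq_mul.mp h'

section sz

variable {F : Type} [Field F] [Fintype F] {m : ℕ}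

theorem sz_sigma (hF : Fintype.card F = 2 ^ (2 * m + 1)) {σ : F ≃+* F} (h : σ * σ = 1) :
    σ = 1 := by
  haveI := H57.charTwo hF
  by_contra hne
  obtain ⟨b, hb⟩ : ∃ b, σ b ≠ b := by
    by_contra hcon
    push Not at hcon
    exact hne (RingEquiv.ext hcon)
  have hσσ : ∀ x, σ (σ x) = x := fun x => DFunLike.congr_fun h x
  have hd : b + σ b ≠ 0 := fun e => hb (CharTwo.add_eq_zero.mp e).symm
  let f : F → {x : F // σ x = x} × {x : F // σ x = x} := fun x =>
    (⟨x + σ x, by rw [map_add, hσσ, add_comm]⟩,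
     ⟨σ b * x + b * σ x, by rw [map_add, map_mul, map_mul, hσσ, hσσ, add_comm]⟩)
  have hf : Function.Bijective f := by
    refine ⟨fun x y hxy => ?_, ?_⟩
    · have e1 : x + σ x = y + σ y := congrArg Subtype.val (Prod.mk.inj hxy).1
      have e2 : σ b * x + b * σ x = σ b * y + b * σ y := congrArg Subtype.val (Prod.mk.inj hxy).2
      refine mul_left_cancel₀ hd ?_
      linear_combination b * e1 + e2 + (b * σ y - b * σ x) * (CharTwo.two_eq_zero : (2 : F) = 0)
    · rintro ⟨⟨u, hu⟩, ⟨v, hv⟩⟩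
      have hds : σ (b + σ b) = b + σ b := by rw [map_add, hσσ, add_comm]
      have hx : σ ((b * u + v) / (b + σ b)) = (σ b * u + v) / (b + σ b) := by
        rw [map_div₀, map_add, map_mul, hu, hv, hds]
      refine ⟨(b * u + v) / (b + σ b), Prod.ext (Subtype.ext ?_) (Subtype.ext ?_)⟩
      · show (b * u + v) / (b + σ b) + σ ((b * u + v) / (b + σ b)) = u
        rw [hx, ← add_div, div_eq_iff hd]
        linear_combination v * (CharTwo.two_eq_zero : (2 : F) = 0)
      · show σ b * ((b * u + v) / (b + σ b)) + b * σ ((b * u + v) / (b + σ b)) = v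
        rw [hx, ← mul_div_assoc, ← mul_div_assoc, ← add_div, div_eq_iff hd]
        linear_combination (b * σ b * u) * (CharTwo.two_eq_zero : (2 : F) = 0)
  have hc := Nat.card_eq_of_bijective f hf
  rw [Nat.card_eq_fintype_card, hF, Nat.card_prod] at hc
  obtain ⟨l, -, hl⟩ := (Nat.dvd_prime_pow Nat.prime_two).mp (Dvd.intro _ hc.symm)
  rw [hl, ← pow_add] at hc
  have := Nat.pow_right_injective le_rfl hc
  omega

theorem sz_not_comm (hm : 1 ≤ m) (hF : Fintype.card F = 2 ^ (2 * m + 1)) :
    ¬ IsMulCommutative (Cfsg.Sz F m) := by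
  intro h
  haveI := H57.sz_simple hm hF
  have h1 : commutator (Cfsg.Sz F m) = ⊥ := by
    rw [_root_.commutator, Subgroup.commutator_eq_bot_iff_le_centralizer]
    intro x _
    rw [mem_centralizer_iff]
    exact fun y _ => h.is_comm.comm y x
  rw [H57.sz_perfect hm hF] at h1
  exact top_ne_bot h1

theorem sz_inner (hm : 1 ≤ m) (hF : Fintype.card F = 2 ^ (2 * m + 1))
    {α : MulAut (Cfsg.Sz F m)} (hα : α * α = 1) : ∃ g, MulAut.conj g = α := by
  obtain ⟨g, σ, rfl⟩ := H57.aut_decomp hm hF α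
  refine ⟨g, ?_⟩
  set f := H57.fieldAut hm hF σ with hf
  have hconj : ∀ t, f * MulAut.conj t = MulAut.conj (f t) * f := fun t => by
    ext x
    simp
  have h1 : MulAut.conj (g * f g) * (f * f) = 1 := by
    rw [map_mul, mul_assoc, ← mul_assoc _ f f, ← hconj, ← hα]
    simp only [mul_assoc]
  have h2 : MulAut.conj ((g * f g)⁻¹) = H57.fieldAut hm hF (σ * σ) := by
    rw [H57.fieldAut_mul hm hF, map_inv, inv_eq_iff_mul_eq_one]
    exact h1
  have hσ : σ * σ = 1 := H57.fieldAut_not_inner hm hF h2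
  have h3 : σ = 1 := sz_sigma hF hσ
  subst h3
  have hf1 : H57.fieldAut hm hF (1 : F ≃+* F) = 1 := by
    have := H57.fieldAut_mul hm hF (1 : F ≃+* F) 1
    rw [one_mul] at this
    exact (left_eq_mul.mp this)
  rw [hf, hf1, mul_one]

theorem sz_elem_card (hm : 1 ≤ m) (hF : Fintype.card F = 2 ^ (2 * m + 1))
    {E : Subgroup (Cfsg.Sz F m)} (hE : Elem E) : Nat.card E ≤ Fintype.card F := by
  haveI : Fact (Nat.Prime 2) := ⟨Nat.prime_two⟩
  have hp : IsPGroup 2 E := fun x => ⟨1, Subtype.ext (by rw [pow_one, pow_two]; exact hE.sq x x.2)⟩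
  obtain ⟨P, hP⟩ := hp.exists_le_sylow
  obtain ⟨s, hs⟩ := MulAction.exists_smul_eq (Cfsg.Sz F m) P (H57.tSylow hm hF)
  have hin : ∀ x ∈ E, s * x * s⁻¹ ∈ H57.tSub (m := m) hF := by
    intro x hx
    have h2 := congrArg (fun Q : Sylow 2 (Cfsg.Sz F m) => (Q : Subgroup (Cfsg.Sz F m))) hs
    simp only [Sylow.coe_subgroup_smul, H57.coe_tSylow] at h2
    rw [← h2]
    exact ⟨x, hP hx, rfl⟩
  have key : ∀ x : E, ∃ b : F, s * (x : Cfsg.Sz F m) * s⁻¹ = H57.tEl hF 0 b := by
    intro x
    obtain ⟨a, b, hab⟩ := hin x x.2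
    refine ⟨b, ?_⟩
    have h2 : (s * (x : Cfsg.Sz F m) * s⁻¹) ^ 2 = 1 := by
      rw [conj_pow, pow_two (x : Cfsg.Sz F m), hE.sq x x.2, mul_one, mul_inv_cancel]
    rw [hab, H57.tEl_sq, ← H57.tEl_zero hF] at h2
    have h3 := (H57.tEl_inj hF h2).2
    rcases mul_eq_zero.mp h3 with h | h
    · rw [hab, H57.th_eq_zero.mp h]
    · rw [hab, h]
  choose b hb using key
  rw [← Nat.card_eq_fintype_card]
  refine Nat.card_le_card_of_injective b fun x y hxy => Subtype.ext ?_
  have h := (hb x).trans ((congrArg (H57.tEl hF 0) hxy).trans (hb y).symm)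
  exact mul_left_cancel (mul_right_cancel h)

theorem sz_pair (hm : 1 ≤ m) (hF : Fintype.card F = 2 ^ (2 * m + 1))
    {E : Subgroup (MulAut (Cfsg.Sz F m))} (hE : Elem E) (hne : E ≠ ⊥) : HasPair E := by
  haveI := H57.sz_simple hm hF
  haveI : Fact (Nat.Prime 2) := ⟨Nat.prime_two⟩
  have hinj : Function.Injective (MulAut.conj : Cfsg.Sz F m →* MulAut (Cfsg.Sz F m)) :=
    conj_injective_of_simple (sz_not_comm hm hF)
  obtain ⟨E0, hE0, hE0e⟩ := exists_inner hE (fun α hα => sz_inner hm hF (hE.sq α hα)) hinj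
  obtain ⟨v, hv, hv1⟩ : ∃ v ∈ E0, v ≠ 1 := by
    by_contra h
    push Not at h
    apply hne
    rw [← hE0, (Subgroup.eq_bot_iff_forall E0).mpr h, Subgroup.map_bot]
  have hvo : orderOf v = 2 := orderOf_eq_prime (by rw [pow_two]; exact hE0e.sq v hv) hv1
  obtain ⟨r, x, z, hr, hr2, hx, hz, hzx, hk⟩ := H74.Rank1.sz_exists_inv_pair hm hF
  obtain ⟨c, hc⟩ := isConj_iff.mp ((H57.inv_isConj hm hF hz).symm.trans (H57.inv_isConj hm hF hvo))
  have hzinv : z * x * z⁻¹ = x⁻¹ := by
    have h := pow_orderOf_eq_one (z * x)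
    rw [hzx, pow_two] at h
    have hz' : z⁻¹ = z := inv_eq_of_mul_eq_one_right (by rw [← pow_two, ← hz, pow_orderOf_eq_one])
    rw [hz']
    exact eq_inv_of_mul_eq_one_left (by rwa [← mul_assoc] at h)
  refine ⟨⊥, bot_le, MulAut.conj v, hE0 ▸ mem_map_of_mem _ hv, c * x * c⁻¹, ?_, ?_, ?_, ?_⟩
  · intro h
    rw [conj_eq_one_iff] at h
    rw [h, orderOf_one] at hx
    exact hr.ne_one hx.symm
  · intro β hβ
    rw [mem_bot] at hβ
    rw [hβ]
    rfl
  · rw [MulAut.conj_apply, ← hc]
    calc c * z * c⁻¹ * (c * x * c⁻¹) * (c * z * c⁻¹)⁻¹ = c * (z * x * z⁻¹) * c⁻¹ := by group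
      _ = _ := by rw [hzinv]; group
  · rw [relIndex_bot_left, ← hE0, card_map_of_injective hinj]
    have hp : IsPGroup 2 E0 := fun x => ⟨1, Subtype.ext (by rw [pow_one, pow_two]; exact hE0e.sq x x.2)⟩
    obtain ⟨i, hi⟩ := IsPGroup.iff_card.mp hp
    have hiq : i ≤ 2 * m + 1 := by
      have h := sz_elem_card hm hF hE0e
      rw [hi, hF] at h
      exact (Nat.pow_le_pow_iff_right (by norm_num)).mp h
    have h5 : 5 ≤ r := by
      have h2 := hr.two_le
      have h3 : r ≠ 3 := fun e => by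
        have := Nat.le_of_dvd (by norm_num) (hk 2 (by rw [e]; norm_num))
        omega
      have : r ≠ 4 := fun e => by rw [e] at hr; norm_num at hr
      omega
    refine ⟨⟨i, hi⟩, r, hr, h5, ⟨1, ?_⟩, fun j hj hd => ?_⟩
    · rw [pow_one, conj_pow, ← hx, pow_orderOf_eq_one, mul_one, mul_inv_cancel]
    · have h4 := Nat.le_of_dvd hj (hk j hd)
      rw [hi, ← pow_mul, ← pow_succ']
      exact Nat.pow_le_pow_right (by norm_num) (by omega)

end sz

section psl

variable {F : Type} [Field F] [Fintype F] {n : ℕ}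

local notation "G2" => Matrix.ProjectiveSpecialLinearGroup (Fin 2) F

theorem psl_card_mod (hF : Fintype.card F = 3 ^ (2 * n + 1)) : Fintype.card F % 8 = 3 := by
  rw [hF, pow_succ, pow_mul, Nat.mul_mod, Nat.pow_mod]
  norm_num

theorem psl_sigma (hF : Fintype.card F = 3 ^ (2 * n + 1)) {σ : F ≃+* F} (h : σ * σ = 1) :
    σ = 1 := by
  have hodd : Odd (Fintype.card F) := by rw [hF]; exact (by decide : Odd 3).pow
  by_contra hne
  obtain ⟨k, hk⟩ := H70.isSquare_card_of_involution hodd σ h hne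
  have h8 : ∀ r : ℕ, r < 8 → r * r % 8 ≠ 3 := by decide
  have := h8 (k % 8) (Nat.mod_lt _ (by norm_num))
  rw [← Nat.mul_mod, ← hk, psl_card_mod hF] at this
  exact this rfl

theorem psl_outer {α : MulAut G2} (g : GL (Fin 2) F) (hα : α = H55.conjP g) [CharP F 3]
    (hα2 : α * α = 1) (hneg : ¬ IsSquare (-1 : F))
    (h3 : ∀ t : G2, orderOf t = 3 → α t ≠ t⁻¹) : ∃ t, MulAut.conj t = α := by
  subst hα
  set gm := (g : Matrix (Fin 2) (Fin 2) F) with hgm
  have hdet : gm.det ≠ 0 := by
    rw [hgm, ← Matrix.GeneralLinearGroup.val_det_apply]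
    exact Units.ne_zero _
  by_cases hsq : IsSquare gm.det
  · obtain ⟨d, hd⟩ := hsq
    have hd0 : d ≠ 0 := fun e => hdet (by rw [hd, e, mul_zero])
    let s : Matrix.SpecialLinearGroup (Fin 2) F := ⟨d⁻¹ • gm, by
      rw [Matrix.det_smul, Fintype.card_fin, hd]
      field_simp⟩
    refine ⟨H55.pmk s, ?_⟩
    rw [← H55.conjP_toGL]
    refine H55.conjP_eq_of_smul (c := d⁻¹) (inv_ne_zero hd0) ?_
    rfl
  rw [← map_mul, H55.conjP_eq_one_iff le_rfl] at hα2
  obtain ⟨c, hc⟩ := hα2
  have hsq2 : gm * gm = (c : F) • (1 : Matrix (Fin 2) (Fin 2) F) := by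
    have := congrArg (fun M : GL (Fin 2) F => (M : Matrix (Fin 2) (Fin 2) F)) hc
    simpa [Matrix.smul_one_eq_diagonal, hgm] using this
  have e00 := congrFun (congrFun hsq2 0) 0
  have e01 := congrFun (congrFun hsq2 0) 1
  have e10 := congrFun (congrFun hsq2 1) 0
  have e11 := congrFun (congrFun hsq2 1) 1
  simp only [Matrix.mul_apply, Fin.sum_univ_two, Matrix.smul_apply, Matrix.one_apply_eq,
    Matrix.one_apply_ne (show (0 : Fin 2) ≠ 1 by decide),
    Matrix.one_apply_ne (show (1 : Fin 2) ≠ 0 by decide), smul_eq_mul, mul_one, mul_zero] at e00 e01 e10 e11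
  have htr : gm 0 0 + gm 1 1 = 0 := by
    by_contra htr
    apply hsq
    have h01 : gm 0 1 = 0 := by
      refine (mul_eq_zero.mp (?_ : gm 0 1 * (gm 0 0 + gm 1 1) = 0)).resolve_right htr
      linear_combination e01
    have h10 : gm 1 0 = 0 := by
      refine (mul_eq_zero.mp (?_ : gm 1 0 * (gm 0 0 + gm 1 1) = 0)).resolve_right htr
      linear_combination e10
    have hd : gm 0 0 = gm 1 1 := by
      refine sub_eq_zero.mp ((mul_eq_zero.mp (?_ : (gm 0 0 - gm 1 1) * (gm 0 0 + gm 1 1) = 0)).resolve_right htr)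
      linear_combination e00 - e11
    exact ⟨gm 0 0, by rw [Matrix.det_fin_two, h01, h10, ← hd]; ring⟩
  have hcd : -gm.det = c := by
    rw [Matrix.det_fin_two]
    linear_combination e00 - gm 0 0 * htr
  obtain ⟨s, hs⟩ : IsSquare (c : F) := by
    rw [← hcd]
    haveI : DecidablePred (IsSquare : F → Prop) := Classical.decPred _
    by_contra hns
    classical
    have h2 : ringChar F ≠ 2 := by
      rw [ringChar.eq F 3]; norm_num
    have hm1 : quadraticChar F (-1) = -1 := quadraticChar_neg_one_iff_not_isSquare.mpr hneg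
    have hd1 : quadraticChar F gm.det = -1 := quadraticChar_neg_one_iff_not_isSquare.mpr hsq
    have hp : quadraticChar F (-gm.det) = -1 := quadraticChar_neg_one_iff_not_isSquare.mpr hns
    rw [show -gm.det = (-1) * gm.det by ring, map_mul, hm1, hd1] at hp
    norm_num at hp
  have hs0 : s ≠ 0 := fun e => c.ne_zero (by rw [hs, e, mul_zero])
  have h2 : (2 : F) ≠ 0 := by
    intro e
    have h' : ((2 : ℕ) : F) = 0 := by exact_mod_cast e
    rw [CharP.cast_eq_zero_iff F 3] at h'
    norm_num at h'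
  set P := gm + s • (1 : Matrix (Fin 2) (Fin 2) F) with hP
  set M := gm - s • (1 : Matrix (Fin 2) (Fin 2) F) with hM
  have hscal : ∀ a : F, gm ≠ a • (1 : Matrix (Fin 2) (Fin 2) F) := fun a ha =>
    hsq ⟨a, by rw [ha, Matrix.det_smul, Fintype.card_fin, Matrix.det_one]; ring⟩
  have hPM : P * M = 0 ∧ M * P = 0 := by
    have hcomm : gm * (s • 1) = (s • 1) * gm := by
      rw [Matrix.mul_smul, Matrix.smul_mul, mul_one, one_mul]
    have hss : (s • 1) * (s • 1) = (c : F) • (1 : Matrix (Fin 2) (Fin 2) F) := by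
      rw [Matrix.smul_mul, one_mul, smul_smul, hs]
    constructor
    · rw [hP, hM, add_mul, mul_sub, mul_sub, hcomm, hss, hsq2]
      abel
    · rw [hP, hM, sub_mul, mul_add, mul_add, hcomm, hss, hsq2]
      abel
  obtain ⟨i, j, hij⟩ : ∃ i j, P i j ≠ 0 := by
    by_contra h
    push Not at h
    refine hscal (-s) ?_
    rw [neg_smul, ← add_eq_zero_iff_eq_neg, ← hP]
    exact Matrix.ext h
  obtain ⟨k, l, hkl⟩ : ∃ k l, M k l ≠ 0 := by
    by_contra h
    push Not at h
    refine hscal s ?_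
    rw [← sub_eq_zero, ← hM]
    exact Matrix.ext h
  set N := P * Matrix.single j k (1 : F) * M with hN
  have hN0 : N ≠ 0 := by
    intro h
    have := congrFun (congrFun h i) l
    rw [hN, Matrix.mul_assoc, Matrix.mul_apply, Fin.sum_univ_two] at this
    have hsum : ∀ a, (Matrix.single j k (1 : F) * M) a l = if a = j then M k l else 0 := by
      intro a
      rw [Matrix.mul_apply, Fin.sum_univ_two]
      fin_cases a <;> fin_cases j <;> fin_cases k <;> simp [Matrix.single]
    rw [hsum, hsum] at this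
    fin_cases j <;> simp_all
  have hNN : N * N = 0 := by
    rw [hN]
    calc P * Matrix.single j k (1 : F) * M * (P * Matrix.single j k (1 : F) * M)
        = P * Matrix.single j k (1 : F) * (M * P) * (Matrix.single j k (1 : F) * M) := by
          simp only [Matrix.mul_assoc]
      _ = 0 := by rw [hPM.2]; simp
  have hgN : gm * N = s • N := by
    have : gm * P = s • P := by
      simp only [hP, mul_add, mul_smul_comm, mul_one, hsq2, hs, smul_add, smul_smul]
      abel
    rw [hN, ← Matrix.mul_assoc, ← Matrix.mul_assoc, this, Matrix.smul_mul, Matrix.smul_mul]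
  have hNg : N * gm = (-s) • N := by
    have : M * gm = (-s) • M := by
      simp only [hM, sub_mul, smul_mul_assoc, one_mul, hsq2, hs, smul_sub, smul_smul, neg_smul, neg_mul]
      abel
    rw [hN, Matrix.mul_assoc, this, Matrix.mul_smul]
  have hdetN : (1 + N).det = 1 ∧ (1 - N).det = 1 := by
    have ht : N.trace = 0 := by
      rw [hN, Matrix.trace_mul_comm, ← Matrix.mul_assoc, hPM.2]
      simp
    have h0 := congrArg Matrix.det hNN
    rw [Matrix.det_mul, Matrix.det_zero, mul_self_eq_zero, Matrix.det_fin_two] at h0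
    rw [Matrix.trace_fin_two] at ht
    constructor <;>
    · rw [Matrix.det_fin_two]
      simp only [Matrix.add_apply, Matrix.sub_apply, Matrix.one_apply_eq,
        Matrix.one_apply_ne (show (0 : Fin 2) ≠ 1 by decide),
        Matrix.one_apply_ne (show (1 : Fin 2) ≠ 0 by decide)]
      first
        | linear_combination h0 + ht
        | linear_combination h0 - ht
  let u : Matrix.SpecialLinearGroup (Fin 2) F := ⟨1 + N, hdetN.1⟩
  let u' : Matrix.SpecialLinearGroup (Fin 2) F := ⟨1 - N, hdetN.2⟩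
  have huu : u * u' = 1 := Subtype.ext (by
    show (1 + N) * (1 - N) = 1
    rw [mul_sub, mul_one, add_mul, one_mul, hNN]
    abel)
  have hu3 : u ^ 3 = 1 := Subtype.ext (by
    show (1 + N) ^ 3 = 1
    have h3 : (3 : F) • N = 0 := by
      rw [show (3 : F) = ((3 : ℕ) : F) by norm_num, CharP.cast_eq_zero F 3, zero_smul]
    calc (1 + N) ^ 3 = 1 + (N + N + N) + (N * N + N * N + N * N + N * N * N) := by noncomm_ring
      _ = 1 := by
        rw [hNN, show N + N + N = (3 : F) • N by rw [show (3 : F) = 1 + 1 + 1 by norm_num, add_smul, add_smul, one_smul], h3]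
        simp)
  have hu1 : H55.pmk u ≠ 1 := by
    intro h
    have hc' : u ∈ center (Matrix.SpecialLinearGroup (Fin 2) F) := (QuotientGroup.eq_one_iff u).mp h
    obtain ⟨a, -, ha⟩ := Matrix.SpecialLinearGroup.mem_center_iff.mp hc'
    have hN' : N = (a - 1) • (1 : Matrix (Fin 2) (Fin 2) F) := by
      have ha' : a • (1 : Matrix (Fin 2) (Fin 2) F) = 1 + N := by
        rw [Matrix.smul_one_eq_diagonal]; exact ha
      rw [sub_smul, one_smul, ha']; abel
    have h0 := congrFun (congrFun hNN 0) 0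
    rw [hN'] at h0
    simp at h0
    apply hN0
    rw [hN', h0, zero_smul]
  have hord : orderOf (H55.pmk u) = 3 :=
    orderOf_eq_prime (by rw [← map_pow, hu3, map_one]) hu1
  exfalso
  refine h3 _ hord ?_
  rw [H55.conjP_pmk, eq_inv_iff_mul_eq_one, ← map_mul]
  have he : H55.conjSL g u = u' := Subtype.ext (by
    rw [H55.coe_conjSL]
    show gm * (1 + N) * ((g⁻¹ : GL (Fin 2) F) : Matrix (Fin 2) (Fin 2) F) = 1 - N
    rw [mul_add, mul_one, hgN, show s • N = -(N * gm) by rw [hNg, neg_smul, neg_neg], add_mul,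
      Matrix.neg_mul, Matrix.mul_assoc, hgm, H55.GL_mul_inv, mul_one, ← sub_eq_add_neg])
  have hu' : u' = u⁻¹ := eq_inv_of_mul_eq_one_right huu
  rw [he, hu', inv_mul_cancel, map_one]

theorem psl_three_not_simple (hF : Fintype.card F = 3 ^ (2 * 0 + 1)) [IsSimpleGroup G2]
    (hn : ¬ IsMulCommutative G2) : False := by
  haveI : Fact (Nat.Prime 2) := ⟨Nat.prime_two⟩
  haveI : Fact (Nat.Prime 3) := ⟨Nat.prime_three⟩
  haveI : CharP F 3 := charP_of_card_eq_prime (by simpa using hF)
  have h3 : Fintype.card F = 3 := by simpa using hF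
  have hodd : Odd (Fintype.card F) := by rw [h3]; decide
  let P : Sylow 2 G2 := default
  have hK := H37.sylow_two_PSL_isKleinFour (F := F) (by rw [Nat.card_eq_fintype_card, h3]; decide) P
  have hc : Nat.card G2 = 12 := by
    rw [H39.card_G2_eq, h3]
    rfl
  have hN := H39.card_normalizer_klein 3 hodd hK
  rw [h3, H39.evenHalf] at hN
  norm_num at hN
  haveI : (P : Subgroup G2).Normal :=
    normalizer_eq_top_iff.mp (eq_top_of_card_eq _ (hN.trans hc.symm))
  rcases (inferInstance : (P : Subgroup G2).Normal).eq_bot_or_eq_top with h | h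
  · have := hK.card_four
    rw [h, card_bot] at this
    omega
  · have := hK.card_four
    rw [h, card_top, hc] at this
    omega

theorem psl_pair (hF : Fintype.card F = 3 ^ (2 * n + 1)) [IsSimpleGroup G2]
    (hn : ¬ IsMulCommutative G2) {E : Subgroup (MulAut G2)} (hE : Elem E) (hne : E ≠ ⊥)
    (h3 : NoThree E) : HasPair E := by
  haveI : Fact (Nat.Prime 2) := ⟨Nat.prime_two⟩
  haveI : Fact (Nat.Prime 3) := ⟨Nat.prime_three⟩
  haveI : CharP F 3 := by
    obtain ⟨p, hp⟩ := CharP.exists F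
    haveI := Fact.mk (CharP.char_is_prime F p)
    obtain ⟨e, hp', he⟩ := FiniteField.card F p
    have h := hF ▸ he
    have : p ∣ 3 ^ (2 * n + 1) := h ▸ dvd_pow_self p e.ne_zero
    have := (Nat.prime_dvd_prime_iff_eq hp' Nat.prime_three).mp (hp'.dvd_of_dvd_pow this)
    subst this
    exact hp
  have h8 := psl_card_mod (n := n) hF
  have hodd : Odd (Fintype.card F) := by rw [Nat.odd_iff]; omega
  have hneg : ¬ IsSquare (-1 : F) := by
    rw [FiniteField.isSquare_neg_one_iff]
    omega
  have hinn : ∀ α ∈ E, ∃ t, MulAut.conj t = α := by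
    intro α hα
    obtain ⟨g, σ, γ, hγ, hαe⟩ := H55.aut_PSL (n := 2) le_rfl α
    rcases hγ with rfl | ⟨h, -⟩
    swap
    · omega
    rw [mul_one] at hαe
    have h2 : α * α = 1 := hE.sq α hα
    have hσ : σ = 1 := psl_sigma (n := n) hF (by
      refine (H55.conjP_fieldP_inj le_rfl (g := g * H55.mapGL σ g) (g' := 1) (σ' := 1) ?_).1
      rw [map_one, map_one, one_mul, map_mul, map_mul, ← h2, hαe, mul_assoc, ← mul_assoc _ (H55.fieldP σ),
        ← H55.fieldP_conjP]
      simp only [mul_assoc])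
    rw [hσ, map_one, mul_one] at hαe
    exact psl_outer g hαe h2 hneg (h3 α hα)
  have hinj := conj_injective_of_simple hn
  obtain ⟨E0, hE0, hE0e⟩ := exists_inner hE hinn hinj
  obtain ⟨P, hP⟩ := (IsPGroup.exists_le_sylow (p := 2) (P := E0)
    (fun x => ⟨1, Subtype.ext (by rw [pow_one, pow_two]; exact hE0e.sq x x.2)⟩))
  have hK := H37.sylow_two_PSL_isKleinFour (F := F) (by rw [Nat.card_eq_fintype_card]; exact Or.inl h8) P
  obtain ⟨v, hv, hv1⟩ : ∃ v ∈ E0, v ≠ 1 := by
    by_contra h
    push Not at h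
    apply hne
    rw [← hE0, (Subgroup.eq_bot_iff_forall E0).mpr h, Subgroup.map_bot]
  have hvo : orderOf v = 2 := orderOf_eq_prime (by rw [pow_two]; exact hE0e.sq v hv) hv1
  have hvE : MulAut.conj v ∈ E := hE0 ▸ mem_map_of_mem _ hv
  have hcard : Nat.card E = Nat.card E0 := by rw [← hE0, card_map_of_injective hinj]
  obtain ⟨i, hi2, hi⟩ := (Nat.dvd_prime_pow Nat.prime_two).mp
    (show Nat.card E0 ∣ 2 ^ 2 from (Subgroup.card_dvd_of_le hP).trans (by rw [hK.card_four]; norm_num))
  have hi0 : i ≠ 0 := by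
    intro h
    rw [h, pow_zero] at hi
    exact hv1 (mem_bot.mp ((Subgroup.eq_bot_of_card_eq E0 hi) ▸ hv))
  have hi12 : i = 1 ∨ i = 2 := by omega
  rcases hi12 with rfl | rfl
  · -- order two
    obtain ⟨t, r, hr, h5, hord, hinv⟩ := exists_prime_inverted hn (hE.sq _ hvE)
      (fun h => hv1 (hinj (h.trans (map_one _).symm))) (h3 _ hvE)
    refine ⟨⊥, bot_le, _, hvE, t, fun e => hr.ne_one (by rw [← hord, e, orderOf_one]), ?_, hinv, ?_⟩
    · intro β hβ
      rw [mem_bot] at hβ
      rw [hβ]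
      rfl
    · rw [relIndex_bot_left, hcard, hi]
      exact good_two (e := 1) hr h5 (by rw [pow_one, ← hord, pow_orderOf_eq_one]) (Or.inr rfl)
  · -- a four group
    have hE4 : Nat.card E0 = 4 := by rw [hi]; norm_num
    have hPE : E0 = (P : Subgroup G2) := eq_of_le_of_card_ge hP (by rw [hK.card_four, hE4])
    obtain ⟨s, hs, hs1, hsv⟩ : ∃ s ∈ E0, s ≠ 1 ∧ s ≠ v := by
      rw [hPE]
      exact H39.exists_klein_nontriv 3 hK v
    have hso : orderOf s = 2 := orderOf_eq_prime (by rw [pow_two]; exact hE0e.sq s hs) hs1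
    set C := centralizer ({s} : Set G2) with hC
    have hvC : v ∈ C := mem_centralizer_singleton_iff.mpr (hE0e.comm v hv s hs)
    have hsC : s ∈ C := mem_centralizer_singleton_iff.mpr rfl
    let t0 : C := ⟨v, hvC⟩
    have ht0 : orderOf t0 = 2 := by rw [← Subgroup.orderOf_coe]; exact hvo
    have hcardC : Nat.card C = Fintype.card F + 1 := by
      rw [hC, H39.card_centralizer_invol 3 hodd hso, H39.evenHalf, if_neg (by omega)]
      omega
    have hnot : t0 ∉ Cfsg.pCore 2 C := by
      intro h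
      set O := Cfsg.pCore 2 C with hO
      haveI hOn : O.Normal := H1.pCore_normal' 2 C
      have hz : zpowers (⟨s, hsC⟩ : C) ≤ O := by
        haveI : (zpowers (⟨s, hsC⟩ : C)).Normal := ⟨fun x hx g => by
          obtain ⟨j, rfl⟩ := mem_zpowers_iff.mp hx
          have hcm : Commute g (⟨s, hsC⟩ : C) :=
            Subtype.ext (mem_centralizer_singleton_iff.mp g.2)
          rw [(hcm.zpow_right j).eq, mul_inv_cancel_right]
          exact hx⟩
        refine H1.le_pCore ?_
        intro x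
        refine ⟨1, Subtype.ext ?_⟩
        obtain ⟨j, hj⟩ := mem_zpowers_iff.mp x.2
        show (x : C) ^ 2 ^ 1 = 1
        rw [← hj, pow_one, ← zpow_natCast, ← zpow_mul, mul_comm, zpow_mul, zpow_natCast,
          show (⟨s, hsC⟩ : C) ^ 2 = 1 from Subtype.ext (orderOf_dvd_iff_pow_eq_one.mp (dvd_of_eq hso)),
          one_zpow]
      have hle : E0 ≤ O.map C.subtype := by
        -- the four group is generated by `s` and `v`
        have h2 : zpowers s ⊔ zpowers v ≤ O.map C.subtype :=
          sup_le (zpowers_le.mpr ⟨⟨s, hsC⟩, hz (mem_zpowers _), rfl⟩)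
            (zpowers_le.mpr ⟨t0, h, rfl⟩)
        refine le_trans (le_of_eq (eq_of_le_of_card_ge
          (sup_le (zpowers_le.mpr hs) (zpowers_le.mpr hv)) ?_).symm) h2
        have hlt : zpowers s < zpowers s ⊔ zpowers v := by
          refine lt_of_le_of_ne le_sup_left fun e => ?_
          have hvs : v ∈ zpowers s := e ▸ mem_sup_right (mem_zpowers v)
          have h2' : Nat.card (zpowers s) = 2 := by rw [Nat.card_zpowers, hso]
          rw [Nat.card_eq_two_iff' 1] at h2'
          obtain ⟨w, -, hw⟩ := h2'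
          have e1 := hw ⟨v, hvs⟩ (fun e => hv1 (congrArg Subtype.val e))
          have e2 := hw ⟨s, mem_zpowers s⟩ (fun e => hs1 (congrArg Subtype.val e))
          exact hsv (congrArg Subtype.val (e2.trans e1.symm))
        have hd := Subgroup.card_dvd_of_le hlt.le
        rw [Nat.card_zpowers, hso] at hd
        have hne2 : Nat.card ↥(zpowers s ⊔ zpowers v) ≠ 2 := fun e =>
          hlt.ne (eq_of_le_of_card_ge hlt.le (by rw [Nat.card_zpowers, hso, e]))
        have := Nat.le_of_dvd Nat.card_pos hd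
        rw [hE4]
        obtain ⟨d, hd'⟩ := hd
        omega
      have heq : E0 = O.map C.subtype := by
        obtain ⟨Q, hQ⟩ := ((H1.isPGroup_pCore 2 C).map C.subtype).exists_le_sylow
        refine eq_of_le_of_card_ge hle ?_
        refine (Subgroup.card_le_of_le hQ).trans ?_
        rw [(H37.sylow_two_PSL_isKleinFour (F := F) (by rw [Nat.card_eq_fintype_card]; exact Or.inl h8) Q).card_four, hE4]
      have hN : C ≤ normalizer (E0 : Set G2) := by
        rw [heq]
        haveI : (O.map C.subtype).subgroupOf C |>.Normal := by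
          rw [show (O.map C.subtype).subgroupOf C = O from comap_map_eq_self_of_injective C.subtype_injective O]
          exact hOn
        exact normal_subgroupOf_iff_le_normalizer (map_subtype_le O) |>.mp inferInstance
      have hle24 := H39.card_normalizer_klein_le 3 hodd (V := E0) (hPE ▸ hK)
      have hq : 27 ≤ Fintype.card F := by
        rw [hF]
        rcases Nat.eq_zero_or_pos n with rfl | hn0
        · exfalso
          exact psl_three_not_simple hF hn
        · exact le_trans (by norm_num) (Nat.pow_le_pow_right (by norm_num : 0 < 3) (show 3 ≤ 2 * n + 1 by omega))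
      have := Subgroup.card_le_of_le hN
      omega
    obtain ⟨h, h1, hoddh, hinv⟩ := H65.exists_odd_inverted ht0 hnot
    have hinv' : MulAut.conj v (h : G2) = (h : G2)⁻¹ := congrArg Subtype.val hinv
    obtain ⟨j, r, hr, h5, hord, hinvj⟩ := exists_prime_power (MulAut.conj v).toMonoidHom
      (show (h : G2) ≠ 1 from fun e => h1 (Subtype.ext e)) (by rwa [Subgroup.orderOf_coe]) hinv'
      (h3 _ hvE)
    have hsh : ∀ k : ℕ, s * (h : G2) ^ k * s⁻¹ = (h : G2) ^ k := fun k => by
      rw [← conj_pow]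
      congr 1
      rw [← mem_centralizer_singleton_iff.mp h.2, mul_inv_cancel_right]
    refine ⟨zpowers (MulAut.conj s), zpowers_le.mpr (hE0 ▸ mem_map_of_mem _ hs), _, hvE,
      (h : G2) ^ j, fun e => hr.ne_one (by rw [← hord, e, orderOf_one]), fun β hβ => ?_, hinvj, ?_⟩
    · exact (show zpowers (MulAut.conj s) ≤ MulAction.stabilizer (MulAut G2) ((h : G2) ^ j) from
        zpowers_le.mpr (hsh j)) hβ
    · refine good_two (e := 1) hr h5 (by rw [pow_one, ← hord, pow_orderOf_eq_one]) (Or.inr ?_)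
      have h1' := relIndex_mul_relIndex ⊥ (zpowers (MulAut.conj s)) E bot_le
        (zpowers_le.mpr (hE0 ▸ mem_map_of_mem _ hs))
      rw [relIndex_bot_left, relIndex_bot_left, Nat.card_zpowers, hcard, hE4,
        orderOf_injective _ hinj, hso] at h1'
      omega

end psl

end H74.Pair
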