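import Mathlib
import Cfsg.Prelude.Def_LocalEven
import Cfsg.Prelude.Def_Local
import Cfsg.Agent.H74.ThompsonA
import Cfsg.Agent.H1.Cores

/-!
The family "Suzuki or `PSL₂(3^odd)`" of composition factors: inheritance to quotients, normal
subgroups and extensions.
-/

set_option autoImplicit false

namespace H74.Pair

open Subgroup

universe u

/-- All non-abelian composition factors are Suzuki groups or `PSL₂(3^odd)`. -/
abbrev CompK (G : Type u) [Group G] : Prop :=
  Cfsg.IsCompositionKGroupWith.{u} Cfsg.IsSuzukiOrPSL2OddPowerThree G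

theorem restricted_of_equiv {X Y : Type u} [Group X] [Group Y] (e : X ≃* Y)
    (h : Cfsg.IsSuzukiOrPSL2OddPowerThree X) : Cfsg.IsSuzukiOrPSL2OddPowerThree Y := by
  rcases h with ⟨F, i1, i2, m, hm, hF, ⟨f⟩⟩ | ⟨F, i1, i2, n, hF, ⟨f⟩⟩
  · exact Or.inl ⟨F, i1, i2, m, hm, hF, ⟨e.symm.trans f⟩⟩
  · exact Or.inr ⟨F, i1, i2, n, hF, ⟨e.symm.trans f⟩⟩

variable {G H : Type u} [Group G] [Group H]

/-- A simple non-abelian image of a subnormal subgroup is in the family. -/
theorem CompK.image (hc : CompK G) {H₀ : Subgroup G} (hH : H₀.IsSubnormal) {Y : Type u} [Group Y]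
    (g : H₀ →* Y) (hg : Function.Surjective g) (hs : IsSimpleGroup Y) (hn : ¬ IsMulCommutative Y) :
    Cfsg.IsSuzukiOrPSL2OddPowerThree Y := by
  let e := QuotientGroup.quotientKerEquivOfSurjective g hg
  haveI := hs
  haveI : IsSimpleGroup (H₀ ⧸ g.ker) := e.isSimpleGroup
  refine restricted_of_equiv e (hc H₀ hH g.ker inferInstance fun h => hn ⟨⟨fun x y => ?_⟩⟩)
  obtain ⟨a, rfl⟩ := e.surjective x
  obtain ⟨b, rfl⟩ := e.surjective y
  rw [← map_mul, ← map_mul, h.is_comm.comm a b]

theorem compK_of_isSolvable [Group.IsSolvable G] : CompK G := by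
  intro H₀ _ N _ hs hn
  haveI := hs
  haveI : Group.IsSolvable (H₀ ⧸ N) :=
    Group.isSolvable_of_surjective (QuotientGroup.mk'_surjective N)
  exact absurd (⟨⟨IsSimpleGroup.comm_iff_isSolvable.mpr inferInstance⟩⟩) hn

theorem CompK.of_surjective (hc : CompK G) (f : G →* H) (hf : Function.Surjective f) : CompK H := by
  intro H₀ hH N _ hs hn
  refine hc.image (hH.comap f) ((QuotientGroup.mk' N).comp (f.subgroupComap H₀))
    ((QuotientGroup.mk'_surjective N).comp fun v => ?_) hs hn
  obtain ⟨a, ha⟩ := hf (v : H)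
  exact ⟨⟨a, show f a ∈ H₀ by rw [ha]; exact v.2⟩, Subtype.ext ha⟩

theorem CompK.of_normal (hc : CompK G) (L : Subgroup G) [hL : L.Normal] : CompK L := by
  intro H₀ hH N _ hs hn
  refine hc.image (hH.trans' hL.isSubnormal) ((QuotientGroup.mk' N).comp
    (H₀.equivMapOfInjective L.subtype L.subtype_injective).symm.toMonoidHom)
    ((QuotientGroup.mk'_surjective N).comp
      (H₀.equivMapOfInjective L.subtype L.subtype_injective).symm.surjective) hs hn

theorem compK_ext (f : G →* H) (hk : CompK f.ker) (hr : CompK f.range) : CompK G := by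
  intro H₀ hH N _ hs hn
  haveI := hs
  set g := QuotientGroup.mk' N with hg
  have hgs : Function.Surjective g := QuotientGroup.mk'_surjective N
  have hM : ((f.comp H₀.subtype).ker.map g).Normal := Subgroup.Normal.map inferInstance g hgs
  rcases hM.eq_bot_or_eq_top with hM | hM
  · -- factors through the image
    set h : H₀ →* (H₀.map f.rangeRestrict : Subgroup f.range) := f.rangeRestrict.subgroupMap H₀
    have hh : Function.Surjective h := f.rangeRestrict.subgroupMap_surjective H₀
    have hle : h.ker ≤ g.ker := by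
      intro x hx
      rw [MonoidHom.mem_ker] at hx ⊢
      rw [← mem_bot, ← hM]
      refine mem_map_of_mem _ ?_
      rw [MonoidHom.mem_ker]
      exact congrArg (fun z : (H₀.map f.rangeRestrict : Subgroup f.range) => ((z : f.range) : H)) hx
    refine hr.image (hH.map f.rangeRestrict_surjective) (h.liftOfSurjective hh ⟨g, hle⟩)
      (fun y => ?_) hs hn
    obtain ⟨x, rfl⟩ := hgs y
    exact ⟨h x, h.liftOfRightInverse_comp_apply _ (Function.rightInverse_surjInv hh) ⟨g, hle⟩ x⟩
  · -- lives in the kernel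
    let ι : (H₀.subgroupOf f.ker) →* H₀ :=
      { toFun := fun x => ⟨((x : f.ker) : G), x.2⟩, map_one' := rfl, map_mul' := fun _ _ => rfl }
    refine hk.image (hH.subgroupOf (K := f.ker)) (g.comp ι) (fun y => ?_) hs hn
    obtain ⟨x, hx, rfl⟩ : y ∈ (f.comp H₀.subtype).ker.map g := hM ▸ mem_top y
    exact ⟨⟨⟨(x : G), hx⟩, x.2⟩, rfl⟩

end H74.Pair
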