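import Mathlib
import Cfsg.Prelude.Def_LocalEven
import Cfsg.Prelude.Def_Local
import Cfsg.Agent.CompLayer
import Cfsg.Agent.H9.SFreeMain
import Cfsg.Agent.H30.SThreeSection
import Cfsg.Agent.H74.Pair.Basic
import Cfsg.Agent.H74.Pair.Inherit
import Cfsg.Agent.H74.Pair.Aut

/-!
In an `S₃`-free group with trivial 2-core whose composition factors are Suzuki groups or
`PSL₂(3^odd)`, every nontrivial elementary abelian 2-subgroup has a subgroup centralizing a good
element inverted by the rest.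
-/

set_option autoImplicit false
set_option linter.all false

namespace H74.Pair

open Subgroup
open scoped commutatorElement
open Cfsg.Agent.H9.SFree (Elem conj_mem conj_mem')

universe u

variable {G : Type u} [Group G] [Finite G]

/-- An involution and an element of order three it inverts. -/
theorem no_three (h3 : ¬ Cfsg.Involves (Equiv.Perm (Fin 3)) G) {a w : G} (ha : a * a = 1)
    (hw : orderOf w = 3) : a * w * a⁻¹ ≠ w⁻¹ := fun hinv =>
  h3 (H74.JA.involves_subgroup (H30.involves_of_inverted (M := (⊤ : Subgroup G)) hw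
    (by rw [pow_two]; exact ha) (mem_top _) (mem_top _) hinv))

theorem Elem.isMulComm {A : Subgroup G} (hA : Elem A) : IsMulCommutative A :=
  ⟨⟨fun x y => Subtype.ext (hA.comm x x.2 y y.2)⟩⟩

/-- The pair coming from a moved odd subgroup. -/
theorem pair_of_odd (h3 : ¬ Cfsg.Involves (Equiv.Perm (Fin 3)) G) {A Y : Subgroup G} (hA : Elem A)
    (hAY : A ≤ normalizer (Y : Set G)) (hY : (Nat.card Y).Coprime 2)
    (hnt : ¬ Y ≤ centralizer (A : Set G)) :
    ∃ B a y, B ≤ A ∧ a ∈ A ∧ y ≠ 1 ∧ (∀ b ∈ B, b * y = y * b) ∧ a * y * a⁻¹ = y⁻¹ ∧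
      Good (B.relIndex A) y := by
  obtain ⟨B, a, w, hBA, haA, haB, htop, -, hwp, hw2, hBw, hinv⟩ :=
    H30.exists_inverted_hyperplane (Elem.isMulComm hA) (fun a ha => by rw [pow_two]; exact hA.sq a ha)
      hAY hY hnt
  have hw3 : orderOf w ≠ 3 := fun h => no_three h3 (hA.sq a haA) h hinv
  refine ⟨B, a, w, hBA, haA, fun e => hwp.ne_one (by rw [e, orderOf_one]), hBw, hinv, ?_⟩
  refine good_two (e := 1) hwp ?_ (by rw [pow_one, pow_orderOf_eq_one]) (Or.inr ?_)
  · have := hwp.two_le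
    have : orderOf w ≠ 4 := fun e => by rw [e] at hwp; norm_num at hwp
    omega
  have hn : a ∈ normalizer (B : Set G) := by
    apply mem_normalizer_fintype
    intro b hb
    rw [hA.comm a haA b (hBA hb), mul_inv_cancel_right]
    exact hb
  refine le_antisymm (Cfsg.Agent.H9.SFree.relIndex_le_two haA fun x hx => ?_) ?_
  · rw [← htop] at hx
    obtain ⟨k, hk, i, rfl⟩ := (H30.mem_sup_zpowers hn).1 hx
    have hsq : a ^ (2 : ℤ) = 1 := by rw [zpow_ofNat, pow_two]; exact hA.sq a haA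
    rcases Int.even_or_odd i with ⟨c, rfl⟩ | ⟨c, rfl⟩
    · exact Or.inl (by rwa [← two_mul, zpow_mul, hsq, one_zpow, mul_one])
    · refine Or.inr ?_
      rw [zpow_add, zpow_mul, hsq, one_zpow, one_mul, zpow_one, hA.comm k (hBA hk) a haA,
        inv_mul_cancel_left]
      exact hk
  · by_contra hlt
    have hpos : 0 < B.relIndex A := Nat.pos_of_ne_zero index_ne_zero_of_finite
    exact haB (relIndex_eq_one.mp (by omega) haA)

theorem fitting_le_pPrimeCore (hO : Cfsg.pCore 2 G = ⊥) :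
    Cfsg.fittingSubgroup G ≤ Cfsg.pPrimeCore 2 G := by
  rw [Cfsg.Comp.fitting_eq_iSup_pCore]
  refine iSup_le fun p => ?_
  haveI := Fact.mk p.2
  by_cases h : (p : ℕ) = 2
  · rw [h, hO]; exact bot_le
  haveI : (Cfsg.pCore (p : ℕ) G).Normal := H1.pCore_normal' _ G
  refine Cfsg.Comp.le_pPrimeCore inferInstance ?_
  obtain ⟨n, hn⟩ := IsPGroup.iff_card.mp (H1.isPGroup_pCore (p : ℕ) G)
  rw [hn]
  exact Nat.Coprime.pow_left n ((Nat.coprime_primes p.2 Nat.prime_two).mpr h)

/-- The centre of a component has odd order. -/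
theorem odd_center (hO : Cfsg.pCore 2 G = ⊥) {L : Subgroup G} (hL : Cfsg.IsComponent L) :
    (Nat.card ((center L).map L.subtype)).Coprime 2 := by
  haveI : Group.IsNilpotent (center L) :=
    @CommGroup.isNilpotent _ { (inferInstance : Group (center L)) with
      mul_comm := fun x y => Subtype.ext ((Subgroup.mem_center_iff.mp y.2) x) }
  have hnil : Group.IsNilpotent ((center L).map L.subtype) :=
    Group.nilpotent_of_mulEquiv ((center L).equivMapOfInjective L.subtype L.subtype_injective)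
  have hsn : ((center L).map L.subtype).IsSubnormal :=
    (inferInstance : (center L).Normal).isSubnormal.trans' hL.1
  refine Nat.Coprime.coprime_dvd_left (card_dvd_of_le
    ((Cfsg.Comp.le_fitting_of_subnormal hsn hnil).trans (fitting_le_pPrimeCore hO))) ?_
  exact H1.card_pPrimeCore_coprime 2 G

/-- An elementary abelian 2-group centralizing the odd core moves a component. -/
theorem exists_moved_component (hO : Cfsg.pCore 2 G = ⊥) {A : Subgroup G} (hA : Elem A)
    (hne : A ≠ ⊥) (hcen : Cfsg.pPrimeCore 2 G ≤ centralizer (A : Set G)) :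
    ∃ L : Subgroup G, Cfsg.IsComponent L ∧ ¬ A ≤ centralizer (L : Set G) := by
  haveI : Fact (Nat.Prime 2) := ⟨Nat.prime_two⟩
  by_contra hcon
  push Not at hcon
  set F := Cfsg.generalizedFittingSubgroup G with hF
  have hAF : A ≤ centralizer (F : Set G) := by
    rw [le_centralizer_iff]
    refine sup_le ?_ ((fitting_le_pPrimeCore hO).trans hcen)
    exact Cfsg.Comp.layer_le_iff.mpr fun L hL => le_centralizer_iff.mp (hcon L hL)
  set Z := centralizer (F : Set G) with hZ
  have hZn : Group.IsNilpotent Z := by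
    refine Cfsg.Comp.isNilpotent_of_commutator_commutator ?_
    have h1 : ⁅Z, Z⁆ = ⊥ := commutator_eq_bot_iff_le_centralizer.mpr
      (Cfsg.Comp.centralizer_fStar_le.trans (le_centralizer_iff.mp le_rfl))
    rw [h1, commutator_bot_left]
  have hle : Z ≤ Cfsg.pPrimeCore 2 G :=
    (Cfsg.Comp.le_fitting_of_subnormal (inferInstance : Z.Normal).isSubnormal hZn).trans
      (fitting_le_pPrimeCore hO)
  have h2 : IsPGroup 2 A := fun x => ⟨1, Subtype.ext (by rw [pow_one, pow_two]; exact hA.sq x x.2)⟩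
  obtain ⟨k, hk⟩ := IsPGroup.iff_card.mp h2
  refine hne (eq_bot_of_card_eq A ?_)
  exact Nat.eq_one_of_dvd_coprimes (Nat.Coprime.pow_left k (H1.card_pPrimeCore_coprime 2 G).symm)
    (hk ▸ dvd_rfl) (card_dvd_of_le (hAF.trans hle))

/-- A complement inside an elementary abelian group. -/
theorem exists_complement {A N : Subgroup G} (hA : Elem A) (hN : N ≤ A) :
    ∃ R, R ≤ A ∧ R ⊓ N = ⊥ ∧ R ⊔ N = A := by
  obtain ⟨R, hR⟩ := (Set.toFinite {R : Subgroup G | R ≤ A ∧ R ⊓ N = ⊥}).exists_maximal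
    ⟨⊥, bot_le, bot_inf_eq _⟩
  obtain ⟨hRA, hRN⟩ := hR.prop
  refine ⟨R, hRA, hRN, le_antisymm (sup_le hRA hN) fun x hx => ?_⟩
  by_contra hxn
  have hn : x ∈ normalizer (R : Set G) := by
    apply mem_normalizer_fintype
    intro b hb
    rw [hA.comm x hx b (hRA hb), mul_inv_cancel_right]
    exact hb
  have h1 : (R ⊔ zpowers x) ⊓ N = ⊥ := by
    rw [eq_bot_iff]
    rintro z ⟨hz1, hz2⟩
    obtain ⟨k, hk, i, rfl⟩ := (H30.mem_sup_zpowers hn).1 hz1
    have hsq : x ^ (2 : ℤ) = 1 := by rw [zpow_ofNat, pow_two]; exact hA.sq x hx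
    rcases Int.even_or_odd i with ⟨c, rfl⟩ | ⟨c, rfl⟩
    · rw [← two_mul, zpow_mul, hsq, one_zpow, mul_one] at hz2 ⊢
      exact hRN.le ⟨hk, hz2⟩
    · rw [zpow_add, zpow_mul, hsq, one_zpow, one_mul, zpow_one] at hz2 ⊢
      refine absurd ?_ hxn
      have h := mul_mem (mem_sup_left (inv_mem hk) : k⁻¹ ∈ R ⊔ N) (mem_sup_right hz2)
      rwa [inv_mul_cancel_left] at h
  exact hxn (mem_sup_left ((hR.2 ⟨sup_le hRA (zpowers_le.mpr hx), h1⟩ le_sup_left)
    (mem_sup_right (mem_zpowers x))))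

/-- Conjugates of a component by elements outside its normaliser commute with it. -/
theorem conj_commute {L : Subgroup G} (hL : Cfsg.IsComponent L) {g x l : G}
    (hg : g ∉ normalizer (L : Set G)) (hx : x ∈ L) (hl : l ∈ L) :
    g * x * g⁻¹ * l = l * (g * x * g⁻¹) := by
  rcases Cfsg.Comp.component_eq_or_commute (Cfsg.Comp.isComponent_conj hL g) hL with h | h
  · exact absurd (mem_normalizer_iff_map_conj_eq.mpr h) hg
  · exact Cfsg.Comp.commute_of_commutator_eq_bot h ⟨x, hx, rfl⟩ hl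

/-- The pair from a component whose stabilizer acts nontrivially on it. -/
theorem pair_of_component (hO : Cfsg.pCore 2 G = ⊥) (h3 : ¬ Cfsg.Involves (Equiv.Perm (Fin 3)) G)
    (hc : CompK G) {A : Subgroup G} (hA : Elem A) {L : Subgroup G} (hL : Cfsg.IsComponent L)
    (hmov : ¬ A ⊓ normalizer (L : Set G) ≤ centralizer (L : Set G)) :
    ∃ B a y, B ≤ A ∧ a ∈ A ∧ y ≠ 1 ∧ (∀ b ∈ B, b * y = y * b) ∧ a * y * a⁻¹ = y⁻¹ ∧
      Good (B.relIndex A) y := by
  classical
  haveI : Fact (Nat.Prime 2) := ⟨Nat.prime_two⟩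
  set NA := A ⊓ normalizer (L : Set G) with hNA
  set N := normalizer (L : Set G) with hN
  set φ : N →* MulAut (L ⧸ center L) := H55.centreQuotAut.comp L.normalizerMonoidHom with hφ
  have hφ_apply : ∀ (g : N) (l : L), φ g (QuotientGroup.mk l) =
      QuotientGroup.mk (⟨(g : G) * l * (g : G)⁻¹, conj_mem g.2 l.2⟩ : L) := fun g l => rfl
  have hfix : ∀ g : N, φ g = 1 → ∀ l : L, (g : G) * l * (g : G)⁻¹ = l := by
    intro g hg
    let U : Subgroup L :=
      { carrier := {l | (g : G) * l * (g : G)⁻¹ = l}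
        one_mem' := by simp
        mul_mem' := fun {x y} hx hy => by
          show (g : G) * ((x : G) * y) * (g : G)⁻¹ = (x : G) * y
          calc (g : G) * ((x : G) * y) * (g : G)⁻¹
              = ((g : G) * x * (g : G)⁻¹) * ((g : G) * y * (g : G)⁻¹) := by group
            _ = _ := by rw [hx, hy]
        inv_mem' := fun {x} hx => by
          show (g : G) * (x : G)⁻¹ * (g : G)⁻¹ = (x : G)⁻¹
          calc (g : G) * (x : G)⁻¹ * (g : G)⁻¹ = ((g : G) * x * (g : G)⁻¹)⁻¹ := by group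
            _ = _ := by rw [hx] }
    have hz : ∀ l : L, ∃ z ∈ center L, (g : G) * l * (g : G)⁻¹ = (l : G) * (z : G) := by
      intro l
      have h := DFunLike.congr_fun hg (QuotientGroup.mk l)
      rw [hφ_apply, MulAut.one_apply, eq_comm, QuotientGroup.eq] at h
      exact ⟨_, h, (mul_inv_cancel_left (l : G) _).symm⟩
    have hle : commutator L ≤ U := by
      rw [_root_.commutator, Subgroup.commutator_le]
      intro x _ y _
      obtain ⟨z, hz1, hzx⟩ := hz x
      obtain ⟨w, hw1, hwy⟩ := hz y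
      show (g : G) * ((⁅x, y⁆ : L) : G) * (g : G)⁻¹ = ((⁅x, y⁆ : L) : G)
      have e : (g : G) * ((⁅x, y⁆ : L) : G) * (g : G)⁻¹ = ((⁅x * z, y * w⁆ : L) : G) := by
        simp only [commutatorElement_def, Subgroup.coe_mul, Subgroup.coe_inv, ← hzx, ← hwy]
        group
      rw [e]
      congr 1
      have cz : ∀ v, Commute z v := fun v => ((Subgroup.mem_center_iff.mp hz1) v).symm
      have cw : ∀ v, Commute w v := fun v => ((Subgroup.mem_center_iff.mp hw1) v).symm
      calc ⁅x * z, y * w⁆ = x * (z * (y * w)) * z⁻¹ * x⁻¹ * (w⁻¹ * y⁻¹) := by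
            rw [commutatorElement_def]; group
        _ = x * (y * w) * (x⁻¹ * w⁻¹) * y⁻¹ := by rw [(cz (y * w)).eq]; group
        _ = x * (y * w) * (w⁻¹ * x⁻¹) * y⁻¹ := by rw [(cw x⁻¹).inv_left.eq]
        _ = ⁅x, y⁆ := by rw [commutatorElement_def]; group
    intro l
    exact hle (Cfsg.Comp.perfect_of_quasisimple hL.2 ▸ mem_top l)
  have hfix' : ∀ g : N, (g : G) ∈ centralizer (L : Set G) → φ g = 1 := by
    intro g hg
    refine MulEquiv.ext fun q => ?_
    induction q using QuotientGroup.induction_on with | H l => ?_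
    rw [hφ_apply, MulAut.one_apply]
    congr 1
    exact Subtype.ext (mul_inv_eq_iff_eq_mul.mpr (mem_centralizer_iff.mp hg l l.2).symm)
  set E := (NA.subgroupOf N).map φ with hE
  have hNAN : NA ≤ N := inf_le_right
  have hEe : Elem E := by
    constructor
    · rintro _ ⟨x, hx, rfl⟩ _ ⟨y, hy, rfl⟩
      rw [← map_mul, ← map_mul]
      congr 1
      exact Subtype.ext (hA.comm _ hx.1 _ hy.1)
    · rintro _ ⟨x, hx, rfl⟩
      rw [← map_mul, show x * x = 1 from Subtype.ext (hA.sq _ hx.1), map_one]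
  have hEne : E ≠ ⊥ := by
    intro h
    apply hmov
    intro x hx
    have h1 : φ ⟨x, hx.2⟩ = 1 := mem_bot.mp (h ▸ mem_map_of_mem φ
      (show (⟨x, hx.2⟩ : N) ∈ NA.subgroupOf N from hx))
    rw [mem_centralizer_iff]
    intro l hl
    exact (mul_inv_eq_iff_eq_mul.mp (hfix _ h1 ⟨l, hl⟩)).symm
  have hsimple : IsSimpleGroup (L ⧸ center L) := hL.2.2
  have hnab : ¬ IsMulCommutative (L ⧸ center L) := by
    intro h
    have h1 : commutator L ≤ center L := by
      rw [_root_.commutator, Subgroup.commutator_le]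
      intro x _ y _
      rw [← QuotientGroup.eq_one_iff, ← QuotientGroup.mk'_apply, map_commutatorElement,
        commutatorElement_eq_one_iff_mul_comm]
      exact h.is_comm.comm _ _
    rw [Cfsg.Comp.perfect_of_quasisimple hL.2] at h1
    exact Cfsg.Comp.center_ne_top_of_quasisimple hL.2 (top_le_iff.mp h1)
  have hno : NoThree E := by
    rintro _ ⟨x, hx, rfl⟩ t ht hinv
    obtain ⟨l, rfl⟩ := QuotientGroup.mk_surjective t
    rw [hφ_apply] at hinv
    set x0 : G := (x : G) with hx0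
    have hxx : x0 * x0 = 1 := hA.sq _ hx.1
    let u : L := l⁻¹ * ⟨x0 * l * x0⁻¹, conj_mem x.2 l.2⟩
    have hu : x0 * (u : G) * x0⁻¹ = (u : G)⁻¹ := by
      simp only [u, Subgroup.coe_mul, Subgroup.coe_inv]
      calc x0 * ((l : G)⁻¹ * (x0 * l * x0⁻¹)) * x0⁻¹
          = (x0 * (l : G)⁻¹ * x0⁻¹) * ((x0 * x0) * l * (x0 * x0)⁻¹) := by group
        _ = _ := by rw [hxx]; group
    have hmu : (QuotientGroup.mk u : L ⧸ center L) = ((QuotientGroup.mk l)⁻¹) ^ 2 := by
      rw [QuotientGroup.mk_mul, QuotientGroup.mk_inv, hinv, pow_two]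
    have h3u : 3 ∣ orderOf (u : G) := by
      rw [Subgroup.orderOf_coe]
      refine Dvd.dvd.trans (dvd_of_eq ?_) (orderOf_map_dvd (QuotientGroup.mk' (center L)) u)
      rw [QuotientGroup.mk'_apply, hmu, Nat.Coprime.orderOf_pow (by rw [orderOf_inv, ht]; norm_num),
        orderOf_inv, ht]
    exact no_three h3 hxx (orderOf_pow_orderOf_div (orderOf_pos (u : G)).ne' h3u)
      (by rw [← conj_pow, hu, inv_pow])
  have hT := hc L hL.1 (center L) hsimple hnab
  have hpair : HasPair E := by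
    rcases hT with ⟨F, i1, i2, m, hm, hF, ⟨f⟩⟩ | ⟨F, i1, i2, n, hF, ⟨f⟩⟩
    · refine hasPair_transport (f.trans (H57.lieSzEquiv hm hF).symm) (sz_pair hm hF ?_ ?_)
      · constructor
        · rintro _ ⟨x, hx, rfl⟩ _ ⟨y, hy, rfl⟩
          rw [← map_mul, ← map_mul, hEe.comm x hx y hy]
        · rintro _ ⟨x, hx, rfl⟩
          rw [← map_mul, hEe.sq x hx, map_one]
      · exact fun h => hEne ((Subgroup.map_eq_bot_iff_of_injective _ (MulAut.congr _).injective).mp h)
    · haveI : IsSimpleGroup (Matrix.ProjectiveSpecialLinearGroup (Fin 2) F) := f.symm.isSimpleGroup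
      refine hasPair_transport f (psl_pair hF ?_ ?_ ?_ (hno.map f))
      · intro h
        apply hnab
        exact ⟨⟨fun x y => f.injective (by rw [map_mul, map_mul, h.is_comm.comm])⟩⟩
      · constructor
        · rintro _ ⟨x, hx, rfl⟩ _ ⟨y, hy, rfl⟩
          rw [← map_mul, ← map_mul, hEe.comm x hx y hy]
        · rintro _ ⟨x, hx, rfl⟩
          rw [← map_mul, hEe.sq x hx, map_one]
      · exact fun h => hEne ((Subgroup.map_eq_bot_iff_of_injective _ (MulAut.congr _).injective).mp h)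
  obtain ⟨Bh, hBh, _, ⟨a', ha', rfl⟩, t, ht1, hfixB, hinv, hgood⟩ := hpair
  set N1 := ((NA.subgroupOf N) ⊓ Bh.comap φ).map N.subtype with hN1
  have hN1NA : N1 ≤ NA := by
    rintro _ ⟨x, hx, rfl⟩
    exact hx.1
  set a : G := (a' : G) with ha
  have haNA : a ∈ NA := ha'
  have haa : a * a = 1 := hA.sq a haNA.1
  -- lift the fixed point
  obtain ⟨l, rfl⟩ := QuotientGroup.mk_surjective t
  set Z := (center L).map L.subtype with hZ
  have hN1Z : N1 ≤ normalizer (Z : Set G) := fun x hx =>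
    Cfsg.Comp.le_normalizer_map_subtype (center L) (hNAN (hN1NA hx))
  have hN12 : IsPGroup 2 N1 := fun x => ⟨1, Subtype.ext (by
    rw [pow_one, pow_two]; exact hA.sq x (hN1NA x.2).1)⟩
  have hcop : (Nat.card Z).Coprime (Nat.card N1) := by
    obtain ⟨k, hk⟩ := IsPGroup.iff_card.mp hN12
    rw [hk]
    exact Nat.Coprime.pow_right k (odd_center hO hL)
  haveI := hN12.isNilpotent
  obtain ⟨c, hcC, hlc⟩ := H1.exists_fixed_mem_coset hN1Z hcop (Or.inr inferInstance) (k := (l : G))
    (by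
      rintro _ ⟨x, hx, rfl⟩
      have h := hfixB _ hx.2
      rw [hφ_apply, eq_comm, QuotientGroup.eq] at h
      exact ⟨_, h, rfl⟩)
  have hcL : c ∈ L := by
    have := mul_mem l.2 ((map_subtype_le (center L) : Z ≤ L) hlc)
    rwa [mul_inv_cancel_left] at this
  let c' : L := ⟨c, hcL⟩
  have hcl : (QuotientGroup.mk c' : L ⧸ center L) = QuotientGroup.mk l := by
    rw [eq_comm, QuotientGroup.eq]
    obtain ⟨z, hz, hze⟩ := hlc
    rwa [show l⁻¹ * c' = z from Subtype.ext hze.symm]
  let u : L := c'⁻¹ * ⟨a * c * a⁻¹, conj_mem (hNAN haNA) hcL⟩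
  have huinv : a * (u : G) * a⁻¹ = (u : G)⁻¹ := by
    simp only [u, c', Subgroup.coe_mul, Subgroup.coe_inv]
    calc a * (c⁻¹ * (a * c * a⁻¹)) * a⁻¹
        = (a * c⁻¹ * a⁻¹) * ((a * a) * c * (a * a)⁻¹) := by group
      _ = _ := by rw [haa]; group
  have hucomm : ∀ b ∈ N1, Commute b (u : G) := by
    intro b hb
    have h1 : Commute b c := mem_centralizer_iff.mp hcC b hb
    have h2 : Commute b a := hA.comm b (hN1NA hb).1 a haNA.1
    exact h1.inv_right.mul_right ((h2.mul_right h1).mul_right h2.inv_right)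
  have hmu : (QuotientGroup.mk u : L ⧸ center L) = (QuotientGroup.mk l)⁻¹ ^ 2 := by
    have h : φ a' (QuotientGroup.mk c') = (QuotientGroup.mk l : L ⧸ center L)⁻¹ := by
      rw [hcl]; exact hinv
    rw [hφ_apply] at h
    rw [QuotientGroup.mk_mul, QuotientGroup.mk_inv, h, hcl, pow_two]
  obtain ⟨⟨i, hi⟩, r, hr, h5, ⟨e, hte⟩, hj⟩ := hgood
  haveI := Fact.mk hr
  obtain ⟨f, m', hm', hord⟩ := Nat.exists_eq_pow_mul_and_not_dvd (orderOf_pos (u : G)).ne' r hr.ne_one
  set y : G := (u : G) ^ m' with hy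
  have hyL : y ∈ L := pow_mem u.2 _
  have hyr : y ^ r ^ f = 1 := by rw [hy, ← pow_mul, mul_comm, ← hord, pow_orderOf_eq_one]
  have hyZ : ∀ (h : y ∈ L), (⟨y, h⟩ : L) ∉ center L := by
    intro h hz
    apply ht1
    have h1 : ((QuotientGroup.mk l : L ⧸ center L)⁻¹ ^ 2) ^ m' = 1 := by
      rw [← hmu, ← QuotientGroup.mk_pow, QuotientGroup.eq_one_iff]
      rwa [show u ^ m' = ⟨y, h⟩ from Subtype.ext rfl]
    rw [← pow_mul] at h1
    have hd1 := orderOf_dvd_of_pow_eq_one h1
    have hd2 : orderOf (QuotientGroup.mk l : L ⧸ center L)⁻¹ ∣ r ^ e :=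
      orderOf_dvd_of_pow_eq_one (by rw [inv_pow, hte, inv_one])
    have hco : Nat.Coprime (r ^ e) (2 * m') := by
      refine Nat.Coprime.pow_left e (hr.coprime_iff_not_dvd.mpr fun hd => ?_)
      rcases hr.dvd_mul.mp hd with h | h
      · have := Nat.le_of_dvd (by norm_num) h
        omega
      · exact hm' h
    exact inv_eq_one.mp (orderOf_eq_one_iff.mp (Nat.eq_one_of_dvd_coprimes hco hd2 hd1))
  have hyinv : a * y * a⁻¹ = y⁻¹ := by rw [hy, ← conj_pow, huinv, inv_pow]
  have hycomm : ∀ b ∈ N1, Commute b y := fun b hb => (hucomm b hb).pow_right _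
  -- symmetrize over a complement
  obtain ⟨R, hRA, hRN, hRtop⟩ := exists_complement hA (inf_le_left : NA ≤ A)
  have hout : ∀ x ∈ R, x ≠ 1 → x ∉ normalizer (L : Set G) := fun x hx hx1 h =>
    hx1 (mem_bot.mp (hRN ▸ (⟨hx, hRA hx, h⟩ : x ∈ R ⊓ NA)))
  set s : Set G := Set.range (fun ρ : R => (ρ : G) * y * (ρ : G)⁻¹) with hs
  have hscomm : ∀ x ∈ s, ∀ x' ∈ s, x * x' = x' * x := by
    rintro _ ⟨ρ, rfl⟩ _ ⟨σ, rfl⟩
    rcases eq_or_ne ρ σ with rfl | hne
    · rfl
    have h := conj_commute hL (g := (σ : G)⁻¹ * ρ) (hout _ (mul_mem (inv_mem σ.2) ρ.2) (fun e => hne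
      (Subtype.ext (inv_mul_eq_one.mp e).symm))) hyL hyL
    calc (ρ : G) * y * (ρ : G)⁻¹ * ((σ : G) * y * (σ : G)⁻¹)
        = (σ : G) * (((σ : G)⁻¹ * ρ) * y * ((σ : G)⁻¹ * ρ)⁻¹ * y) * (σ : G)⁻¹ := by group
      _ = (σ : G) * (y * (((σ : G)⁻¹ * ρ) * y * ((σ : G)⁻¹ * ρ)⁻¹)) * (σ : G)⁻¹ := by rw [h]
      _ = _ := by group
  letI : CommGroup (closure s) :=
    { (inferInstance : Group (closure s)) with
      mul_comm := (Subgroup.isMulCommutative_closure hscomm).is_comm.comm }
  haveI : Fintype R := Fintype.ofFinite R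
  let el : R → closure s := fun ρ => ⟨_, subset_closure ⟨ρ, rfl⟩⟩
  set z := ∏ ρ : R, el ρ with hz
  have hzC : ∀ g : G, (∀ v ∈ s, Commute g v) → Commute g (z : G) := by
    intro g hg
    have : closure s ≤ centralizer ({g} : Set G) := (closure_le _).mpr fun v hv =>
      mem_centralizer_singleton_iff.mpr (hg v hv).symm.eq
    exact (mem_centralizer_singleton_iff.mp (this z.2)).symm
  have hN1R : ∀ b ∈ N1, ∀ ρ : R, Commute b ((ρ : G) * y * (ρ : G)⁻¹) := by
    intro b hb ρ
    have h1 : Commute b (ρ : G) := hA.comm b (hN1NA hb).1 _ (hRA ρ.2)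
    exact (h1.mul_right (hycomm b hb)).mul_right h1.inv_right
  have hzinv : a * (z : G) * a⁻¹ = (z : G)⁻¹ := by
    have h : ∀ v ∈ closure s, v ∈ closure s → a * v * a⁻¹ = v⁻¹ := by
      intro v hv
      induction hv using Subgroup.closure_induction with
      | mem v hv =>
        intro _
        obtain ⟨ρ, rfl⟩ := hv
        have h1 : a * (ρ : G) = (ρ : G) * a := hA.comm _ haNA.1 _ (hRA ρ.2)
        calc a * ((ρ : G) * y * (ρ : G)⁻¹) * a⁻¹ = (a * ρ) * y * (a * ρ)⁻¹ := by group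
          _ = (ρ : G) * (a * y * a⁻¹) * (ρ : G)⁻¹ := by rw [h1]; group
          _ = _ := by rw [hyinv]; group
      | one => intro _; simp
      | mul v w hv hw ihv ihw =>
        intro _
        have hvw : v * w = w * v := congrArg Subtype.val (mul_comm (⟨v, hv⟩ : closure s) ⟨w, hw⟩)
        calc a * (v * w) * a⁻¹ = (a * v * a⁻¹) * (a * w * a⁻¹) := by group
          _ = (v * w)⁻¹ := by rw [ihv hv, ihw hw, hvw, mul_inv_rev]
      | inv v hv ih =>
        intro _
        calc a * v⁻¹ * a⁻¹ = (a * v * a⁻¹)⁻¹ := by group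
          _ = _ := by rw [ih hv]
    exact h _ z.2 z.2
  have hzR : ∀ σ ∈ R, Commute σ (z : G) := by
    intro σ hσ
    have hmem : ∀ v ∈ closure s, σ * v * σ⁻¹ ∈ closure s := by
      have : closure s ≤ (closure s).comap (MulAut.conj σ).toMonoidHom := (closure_le _).mpr (by
        rintro _ ⟨ρ, rfl⟩
        refine subset_closure ⟨⟨σ, hσ⟩ * ρ, ?_⟩
        show σ * ρ * y * (σ * ρ)⁻¹ = σ * ((ρ : G) * y * (ρ : G)⁻¹) * σ⁻¹
        group)
      exact fun v hv => this hv
    let cσ : closure s →* closure s :=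
      { toFun := fun v => ⟨σ * v * σ⁻¹, hmem v v.2⟩
        map_one' := Subtype.ext (by simp)
        map_mul' := fun v w => Subtype.ext (by
          show σ * ((v : G) * w) * σ⁻¹ = σ * v * σ⁻¹ * (σ * w * σ⁻¹)
          group) }
    have h1 : cσ z = z := by
      rw [hz, map_prod]
      refine Fintype.prod_equiv (Equiv.mulLeft ⟨σ, hσ⟩) _ _ fun ρ => Subtype.ext ?_
      show σ * ((ρ : G) * y * (ρ : G)⁻¹) * σ⁻¹ = σ * ρ * y * (σ * ρ)⁻¹
      group
    exact mul_inv_eq_iff_eq_mul.mp (congrArg Subtype.val h1)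
  have hz1 : (z : G) ≠ 1 := by
    intro hz0
    have h1 : el 1 * ∏ ρ ∈ Finset.univ.erase 1, el ρ = z := Finset.mul_prod_erase _ el (Finset.mem_univ _)
    have h2 : (∏ ρ ∈ Finset.univ.erase 1, el ρ) ∈ (centralizer (L : Set G)).subgroupOf (closure s) := by
      refine Subgroup.prod_mem _ fun ρ hρ => ?_
      rw [mem_subgroupOf, mem_centralizer_iff]
      intro x hx
      exact (conj_commute hL (hout _ ρ.2 (fun e => (Finset.mem_erase.mp hρ).1 (Subtype.ext e)))
        hyL hx).symm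
    have h3 : el 1 ∈ (centralizer (L : Set G)).subgroupOf (closure s) := by
      have : el 1 = z * (∏ ρ ∈ Finset.univ.erase 1, el ρ)⁻¹ := eq_mul_inv_of_mul_eq h1
      rw [this, show z = 1 from Subtype.ext hz0, one_mul]
      exact inv_mem h2
    rw [mem_subgroupOf, mem_centralizer_iff] at h3
    refine hyZ hyL (Subgroup.mem_center_iff.mpr fun x => Subtype.ext ?_)
    have := h3 x x.2
    simpa [el] using this
  have hzpow : (z : G) ^ r ^ f = 1 := by
    have : z ^ r ^ f = 1 := by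
      rw [hz, ← Finset.prod_pow]
      refine Finset.prod_eq_one fun ρ _ => Subtype.ext ?_
      show ((ρ : G) * y * (ρ : G)⁻¹) ^ r ^ f = 1
      rw [conj_pow, hyr, mul_one, mul_inv_cancel]
    exact congrArg Subtype.val this
  set B := R ⊔ N1 with hB
  have hnormA : ∀ U : Subgroup G, U ≤ A → A ≤ normalizer (U : Set G) := by
    intro U hU x hx
    apply mem_normalizer_fintype
    intro b hb
    rw [hA.comm x hx b (hU hb), mul_inv_cancel_right]
    exact hb
  have hBA : B ≤ A := sup_le hRA (hN1NA.trans inf_le_left)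
  have hidx : B.relIndex A = Bh.relIndex E := by
    have h1 : N1.relIndex NA = Bh.relIndex E := by
      conv_lhs => rw [show NA = (NA.subgroupOf N).map N.subtype from (map_subgroupOf_eq_of_le hNAN).symm]
      rw [hN1, relIndex_map_map_of_injective _ _ N.subtype_injective, inf_relIndex_left, relIndex_comap]
    have c1 := H10.card_mul_card_inf (H := R) (K := NA) (hRA.trans (hnormA NA inf_le_left))
    have c2 := H10.card_mul_card_inf (H := R) (K := N1) (hRA.trans (hnormA N1 (hN1NA.trans inf_le_left)))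
    rw [hRtop, hRN, card_bot, mul_one] at c1
    rw [eq_bot_iff.mpr ((inf_le_inf_left R hN1NA).trans hRN.le), card_bot, mul_one] at c2
    have c3 := relIndex_mul_relIndex ⊥ B A bot_le hBA
    have c4 := relIndex_mul_relIndex ⊥ N1 NA bot_le hN1NA
    rw [relIndex_bot_left, relIndex_bot_left] at c3 c4
    rw [h1] at c4
    refine Nat.eq_of_mul_eq_mul_left (Nat.card_pos (α := B)) ?_
    rw [c3, hB, c2, c1, ← c4, mul_assoc]
  refine ⟨B, a, (z : G), hBA, haNA.1, hz1, fun b hb => ?_, hzinv, ?_⟩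
  · have : B ≤ centralizer ({(z : G)} : Set G) := sup_le
      (fun σ hσ => mem_centralizer_singleton_iff.mpr (hzR σ hσ).eq)
      (fun b hb => mem_centralizer_singleton_iff.mpr (hzC b (by rintro _ ⟨ρ, rfl⟩; exact hN1R b hb ρ)).eq)
    exact mem_centralizer_singleton_iff.mp (this hb)
  · rw [hidx]
    exact ⟨⟨i, hi⟩, r, hr, h5, ⟨f, hzpow⟩, hj⟩

/-- **Existence of pairs.** -/
theorem exists_pair (hO : Cfsg.pCore 2 G = ⊥) (h3 : ¬ Cfsg.Involves (Equiv.Perm (Fin 3)) G)
    (hc : CompK G) {A : Subgroup G} (hA : Elem A) (hne : A ≠ ⊥) :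
    ∃ B a y, B ≤ A ∧ a ∈ A ∧ y ≠ 1 ∧ (∀ b ∈ B, b * y = y * b) ∧ a * y * a⁻¹ = y⁻¹ ∧
      Good (B.relIndex A) y := by
  classical
  by_cases hcen : Cfsg.pPrimeCore 2 G ≤ centralizer (A : Set G)
  swap
  · haveI := H1.pPrimeCore_normal' 2 G
    exact pair_of_odd h3 hA le_normalizer_of_normal (H1.card_pPrimeCore_coprime 2 G) hcen
  obtain ⟨L, hL, hAL⟩ := exists_moved_component hO hA hne hcen
  by_cases hmov : A ⊓ normalizer (L : Set G) ≤ centralizer (L : Set G)
  swap
  · exact pair_of_component hO h3 hc hA hL hmov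
  -- the stabilizer acts trivially: symmetrize an element of odd order
  obtain ⟨y0, hy0, hodd, hy0Z⟩ : ∃ y0 ∈ L, Odd (orderOf y0) ∧
      ¬ ∀ x ∈ L, x * y0 = y0 * x := by
    by_contra hcon
    push Not at hcon
    apply Cfsg.Comp.center_ne_top_of_quasisimple hL.2
    rw [eq_top_iff]
    intro l _
    obtain ⟨j, m, hm, hjm⟩ := Nat.exists_eq_two_pow_mul_odd (orderOf_pos l).ne'
    have hlm : l ^ 2 ^ j ∈ center L := Subgroup.mem_center_iff.mpr fun x => Subtype.ext
      (hcon _ (l ^ 2 ^ j).2 (by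
        rw [Subgroup.orderOf_coe, orderOf_pow' _ (by positivity), hjm, Nat.gcd_mul_right_left]
        simpa using hm) x x.2)
    have htop : (⊤ : Subgroup (L ⧸ center L)) = ⊤ := rfl
    -- the quotient by the centre would be a 2-group
    have hp : IsPGroup 2 (L ⧸ center L) := by
      intro q
      induction q using QuotientGroup.induction_on with | H x => ?_
      obtain ⟨j', m', hm', hjm'⟩ := Nat.exists_eq_two_pow_mul_odd (orderOf_pos x).ne'
      refine ⟨j', ?_⟩
      rw [← QuotientGroup.mk_pow, QuotientGroup.eq_one_iff]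
      exact Subgroup.mem_center_iff.mpr fun w => Subtype.ext (hcon _ (x ^ 2 ^ j').2 (by
        rw [Subgroup.orderOf_coe, orderOf_pow' _ (by positivity), hjm', Nat.gcd_mul_right_left]
        simpa using hm') w w.2)
    haveI : Fact (Nat.Prime 2) := ⟨Nat.prime_two⟩
    haveI := hL.2.2
    haveI := hp.isNilpotent
    have hcomm : ∀ a b : L ⧸ center L, a * b = b * a := IsSimpleGroup.comm_iff_isSolvable.mpr inferInstance
    have h1 : commutator L ≤ center L := by
      rw [_root_.commutator, Subgroup.commutator_le]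
      intro x _ w _
      rw [← QuotientGroup.eq_one_iff, ← QuotientGroup.mk'_apply, map_commutatorElement,
        commutatorElement_eq_one_iff_mul_comm]
      exact hcomm _ _
    rw [Cfsg.Comp.perfect_of_quasisimple hL.2] at h1
    exact h1 (mem_top l)
  set s : Set G := Set.range (fun x : A => (x : G) * y0 * (x : G)⁻¹) with hs
  have hscomm : ∀ x ∈ s, ∀ x' ∈ s, x * x' = x' * x := by
    rintro _ ⟨ρ, rfl⟩ _ ⟨σ, rfl⟩
    set g := (σ : G)⁻¹ * ρ with hg
    have h : g * y0 * g⁻¹ * y0 = y0 * (g * y0 * g⁻¹) := by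
      by_cases hgn : g ∈ normalizer (L : Set G)
      · have := mem_centralizer_iff.mp (hmov ⟨(show g ∈ A from mul_mem (inv_mem σ.2) ρ.2), hgn⟩) y0 hy0
        rw [← this, mul_inv_cancel_right]
      · exact conj_commute hL hgn hy0 hy0
    calc (ρ : G) * y0 * (ρ : G)⁻¹ * ((σ : G) * y0 * (σ : G)⁻¹)
        = (σ : G) * (g * y0 * g⁻¹ * y0) * (σ : G)⁻¹ := by rw [hg]; group
      _ = (σ : G) * (y0 * (g * y0 * g⁻¹)) * (σ : G)⁻¹ := by rw [h]
      _ = _ := by rw [hg]; group
  letI : CommGroup (closure s) :=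
    { (inferInstance : Group (closure s)) with
      mul_comm := (Subgroup.isMulCommutative_closure hscomm).is_comm.comm }
  refine pair_of_odd h3 hA (Y := closure s) ?_ ?_ ?_
  · intro x hx
    apply mem_normalizer_fintype
    have : closure s ≤ (closure s).comap (MulAut.conj x).toMonoidHom := (closure_le _).mpr (by
      rintro _ ⟨ρ, rfl⟩
      refine subset_closure ⟨⟨x, hx⟩ * ρ, ?_⟩
      show x * ρ * y0 * (x * ρ)⁻¹ = x * ((ρ : G) * y0 * (ρ : G)⁻¹) * x⁻¹
      group)
    exact fun v hv => this hv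
  · have hm : ∀ v : closure s, v ^ orderOf y0 = 1 := by
      have : closure s ≤ ((powMonoidHom (orderOf y0) : closure s →* closure s).ker).map (closure s).subtype :=
        (closure_le _).mpr fun v hv => by
          refine ⟨⟨v, subset_closure hv⟩, ?_, rfl⟩
          obtain ⟨ρ, rfl⟩ := hv
          refine MonoidHom.mem_ker.mpr (Subtype.ext ?_)
          show ((ρ : G) * y0 * (ρ : G)⁻¹) ^ orderOf y0 = 1
          rw [conj_pow, pow_orderOf_eq_one, mul_one, mul_inv_cancel]
      intro v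
      obtain ⟨w, hw, hwv⟩ := this v.2
      rw [← show w = v from Subtype.ext hwv]
      exact MonoidHom.mem_ker.mp hw
    rw [Nat.coprime_comm, Nat.prime_two.coprime_iff_not_dvd]
    intro hd
    haveI : Fact (Nat.Prime 2) := ⟨Nat.prime_two⟩
    obtain ⟨v, hv⟩ := exists_prime_orderOf_dvd_card' (G := closure s) 2 hd
    have := orderOf_dvd_of_pow_eq_one (hm v)
    rw [hv] at this
    exact (Nat.not_even_iff_odd.mpr hodd) (even_iff_two_dvd.mpr this)
  · intro hc'
    obtain ⟨x, hxA, hxn⟩ : ∃ x ∈ A, x ∉ normalizer (L : Set G) := by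
      by_contra h
      push Not at h
      exact hAL (fun x hx => hmov ⟨hx, h x hx⟩)
    apply hy0Z
    intro l hl
    have h1 : x * y0 * x⁻¹ = y0 := by
      have hy : y0 ∈ closure s := subset_closure ⟨1, by simp⟩
      rw [mem_centralizer_iff.mp (hc' hy) x hxA, mul_inv_cancel_right]
    have h := conj_commute hL hxn hy0 hl
    rw [h1] at h
    exact h.symm

end H74.Pair
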