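import Mathlib
import Cfsg.Prelude.Def_LocalEven
import Cfsg.Agent.H9.SFreeMargin
import Cfsg.Agent.H10.SemiModel
import Cfsg.Agent.H1.CoprimeAction2
import Cfsg.Agent.H74.S4Iff
import Cfsg.Agent.H74.Pair.Exists

/-!
The quadratic offender bound for `S₃`-free groups with composition factors Suzuki or `PSL₂(3^odd)`.
-/

set_option autoImplicit false
set_option linter.all false

namespace H74.Pair

open Subgroup
open scoped commutatorElement
open Cfsg.Agent.H9.SFree (Elem dispHom dispHom_range_le card_dispHom_range conj_mem conj_mem'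
  disp_fpf mem_centralizer_singleton')

universe u

variable {G : Type u} [Group G] [Finite G]

theorem elem_isPGroup {A : Subgroup G} (hA : Elem A) : IsPGroup 2 A := fun x =>
  ⟨1, Subtype.ext (by rw [pow_one, pow_two]; exact hA.sq x x.2)⟩

theorem Elem.map {H : Type*} [Group H] {A : Subgroup G} (hA : Elem A) (f : G →* H) :
    Elem (A.map f) := by
  constructor
  · rintro _ ⟨x, hx, rfl⟩ _ ⟨y, hy, rfl⟩
    rw [← map_mul, ← map_mul, hA.comm x hx y hy]
  · rintro _ ⟨x, hx, rfl⟩
    rw [← map_mul, hA.sq x hx, map_one]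

theorem hyperplane_gain {M B : Subgroup G} {y a : G} (hM : Elem M) (hBe : Elem B)
    (hBM : B ≤ normalizer (M : Set G)) {k : ℕ} (hg : Good k y) (hyM : y ∈ normalizer (M : Set G))
    (haM : a ∈ normalizer (M : Set G)) (hya : a * y * a⁻¹ = y⁻¹) (haa : a * a = 1)
    (hBy : ∀ b ∈ B, b * y = y * b) (hBa : ∀ b ∈ B, b * a = a * b)
    (hne : y ∉ centralizer (M : Set G)) :
    k ^ 2 ≤ (M ⊓ centralizer (B : Set G) ⊓ centralizer ({a} : Set G)).relIndex
        (M ⊓ centralizer (B : Set G)) ∧
      ∀ D : Subgroup G, ⁅M, B⁆ ≤ D → (∀ x ∈ M, a * x * a⁻¹ * x⁻¹ ∈ D) →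
        k ^ 2 ≤ (⁅M, B⁆).relIndex D := by
  haveI : Fact (Nat.Prime 2) := ⟨Nat.prime_two⟩
  have hd : a * y * a⁻¹ * y = 1 := by rw [hya, inv_mul_cancel]
  constructor
  · set U := M ⊓ centralizer (B : Set G) with hU
    have hnU : ∀ g : G, g ∈ normalizer (M : Set G) → (∀ b ∈ B, b * g = g * b) →
        g ∈ normalizer (U : Set G) := by
      intro g hgM hgB
      apply mem_normalizer_fintype
      intro x hx
      refine ⟨conj_mem hgM hx.1, mem_centralizer_iff.mpr fun b hb => ?_⟩
      have h1 : Commute b g := hgB b hb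
      have h2 : Commute b x := mem_centralizer_iff.mp hx.2 b hb
      exact ((h1.mul_right h2).mul_right h1.inv_right).eq
    have hyU := hnU y hyM hBy
    have haU := hnU a haM hBa
    have hUe : Elem U := hM.mono inf_le_left
    obtain ⟨x, hx, hxy⟩ : ∃ x ∈ U, y * x * y⁻¹ ≠ x := by
      by_contra hcon
      push Not at hcon
      apply hne
      have hQ : (Nat.card (zpowers y)).Coprime 2 := by rw [Nat.card_zpowers]; exact hg.coprime_two
      refine H1.thompson_P_times_Q (p := 2) (elem_isPGroup hBe) hQ (elem_isPGroup hM) ?_ hBM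
        (zpowers_le.mpr hyM) ?_ (mem_zpowers y)
      · intro b hb
        rw [mem_centralizer_iff]
        intro z hz
        obtain ⟨i, rfl⟩ := mem_zpowers_iff.mp hz
        exact ((show Commute b y from hBy b hb).zpow_right i).eq.symm
      · intro x hx
        rw [mem_centralizer_iff]
        intro z hz
        obtain ⟨i, rfl⟩ := mem_zpowers_iff.mp hz
        exact ((show Commute y x from mul_inv_eq_iff_eq_mul.mp (hcon x hx)).zpow_left i).eq
    rw [← card_dispHom_range hUe haU]
    exact sq_le_card_range hUe hg hyU haU (by rw [hd]; exact one_mem _)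
      (by rw [haa]; exact one_mem _) hx hxy
  · intro D hBD hD
    set M' := ⁅M, B⁆ with hM'
    have hM'M : M' ≤ M := H1.commutator_le_left_of_le_normalizer hBM
    have hMn : M ≤ normalizer (M' : Set G) := fun x hx => by
      apply mem_normalizer_fintype
      intro m hm
      rw [hM.comm x hx m (hM'M hm), mul_inv_cancel_right]
      exact hm
    have hn : ∀ g : G, g ∈ normalizer (M : Set G) → (∀ b ∈ B, b * g = g * b) →
        g ∈ normalizer (M' : Set G) := by
      intro g hgM hgB
      have hgB' : zpowers g ≤ normalizer (B : Set G) := zpowers_le.mpr (by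
        apply mem_normalizer_fintype
        intro b hb
        rw [← hgB b hb, mul_inv_cancel_right]
        exact hb)
      exact H83.le_normalizer_commutator (zpowers_le.mpr hgM) hgB' (mem_zpowers g)
    have hyM' := hn y hyM hBy
    have haM' := hn a haM hBa
    set N := normalizer (M' : Set G) with hN
    haveI : (M'.subgroupOf N).Normal := normal_in_normalizer
    set f := QuotientGroup.mk' (M'.subgroupOf N) with hf
    set X := (M.subgroupOf N).map f with hX
    have hXe : Elem X := by
      constructor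
      · rintro _ ⟨p, hp, rfl⟩ _ ⟨q, hq, rfl⟩
        rw [← map_mul, ← map_mul]
        congr 1
        exact Subtype.ext (hM.comm _ hp _ hq)
      · rintro _ ⟨p, hp, rfl⟩
        rw [← map_mul, show p * p = 1 from Subtype.ext (hM.sq _ hp), map_one]
    have hnX : ∀ g : N, (g : G) ∈ normalizer (M : Set G) → f g ∈ normalizer (X : Set _) := by
      intro g hgM
      apply mem_normalizer_fintype
      rintro _ ⟨p, hp, rfl⟩
      refine ⟨g * p * g⁻¹, conj_mem (X := M) hgM hp, ?_⟩
      rw [map_mul, map_mul, map_inv]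
    let y' : N := ⟨y, hyM'⟩
    let a' : N := ⟨a, haM'⟩
    have hg' : Good k (f y') :=
      (hg.of_pow_eq (y' := y') fun n h => Subtype.ext h).map f
    obtain ⟨x, hx, hxy⟩ : ∃ x ∈ X, f y' * x * (f y')⁻¹ ≠ x := by
      by_contra hcon
      push Not at hcon
      -- the displacement of `y` would lie in `[M, B]`
      apply hne
      set K := (dispHom hM hyM).range with hKdef
      set C := M ⊓ centralizer ({y} : Set G) with hC
      have hKM : K ≤ M := dispHom_range_le hM hyM
      have hKD : K ≤ M' := by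
        rintro _ ⟨s, rfl⟩
        have h := hcon (f ⟨s, hMn s.2⟩) ⟨_, s.2, rfl⟩
        rw [← map_inv, ← map_mul, ← map_mul, hf, QuotientGroup.mk'_apply, QuotientGroup.mk'_apply,
          eq_comm, QuotientGroup.eq] at h
        have h' : (s : G)⁻¹ * (y * s * y⁻¹) ∈ M' := h
        show y * (s : G) * y⁻¹ * (s : G)⁻¹ ∈ M'
        rw [hM.comm _ (conj_mem hyM s.2) _ (inv_mem s.2)]
        exact h'
      obtain ⟨-, -, hfix⟩ := disp_fpf hM hyM haM hg.coprime_six (by rw [hd]; exact one_mem _)
      have hKC : K ⊓ C = ⊥ := eq_bot_iff.mpr fun x hx =>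
        mem_bot.mpr (hfix x hx.1 (mem_centralizer_singleton'.mp hx.2.2))
      have hMn2 : K ≤ normalizer (C : Set G) := fun x hx => by
        apply mem_normalizer_fintype
        intro c hc
        rw [hM.comm x (hKM hx) c hc.1, mul_inv_cancel_right]
        exact hc
      have htop : K ⊔ C = M := by
        refine eq_of_le_of_card_ge (sup_le hKM inf_le_left) ?_
        have h1 := H10.card_mul_card_inf hMn2
        rw [hKC, card_bot, mul_one] at h1
        rw [h1, hKdef, card_dispHom_range hM hyM, ← hC]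
        have h2 := relIndex_mul_relIndex ⊥ C M bot_le inf_le_left
        rw [relIndex_bot_left, relIndex_bot_left] at h2
        rw [← h2, mul_comm]
      have hBK : B ≤ normalizer (K : Set G) := by
        intro b hb
        apply mem_normalizer_fintype
        rintro _ ⟨s, rfl⟩
        refine ⟨⟨b * s * b⁻¹, conj_mem (hBM hb) s.2⟩, ?_⟩
        show y * (b * s * b⁻¹) * y⁻¹ * (b * (s : G) * b⁻¹)⁻¹ = b * (y * s * y⁻¹ * (s : G)⁻¹) * b⁻¹
        calc y * (b * s * b⁻¹) * y⁻¹ * (b * (s : G) * b⁻¹)⁻¹
            = (y * b) * s * (y * b)⁻¹ * (b * (s : G)⁻¹ * b⁻¹) := by group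
          _ = (b * y) * s * (b * y)⁻¹ * (b * (s : G)⁻¹ * b⁻¹) := by rw [hBy b hb]
          _ = _ := by group
      have hK0 : K ≤ ⊥ := by
        refine Cfsg.Agent.H9.SFree.le_of_le_sup_commutator (elem_isPGroup hBe) (hM.mono hKM) hBK bot_le
          (fun b _ => by rw [normalizer_eq_top]; exact mem_top b) ?_
        rw [bot_sup_eq]
        have hle : M' ≤ ⁅K, B⁆ ⊔ C := by
          rw [hM', commutator_le]
          intro m hm b hb
          obtain ⟨u, hu, c, hc, rfl⟩ := H1.exists_mul_of_mem_sup
            (fun c hc => by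
              apply mem_normalizer_fintype
              intro v hv
              rw [hM.comm c hc.1 v (hKM hv), mul_inv_cancel_right]
              exact hv) (htop.symm ▸ hm : m ∈ K ⊔ C)
          have hcb : ⁅c, b⁆ ∈ C := by
            rw [commutatorElement_def, show c * b * c⁻¹ * b⁻¹ = c * (b * c⁻¹ * b⁻¹) by group]
            refine mul_mem hc ⟨conj_mem (hBM hb) (inv_mem hc.1), mem_centralizer_singleton'.mpr ?_⟩
            have h1 : Commute y b := (show Commute b y from hBy b hb).symm
            have h2 : Commute y c := (mem_centralizer_singleton_iff.mp hc.2).symm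
            exact mul_inv_eq_iff_eq_mul.mpr (((h1.mul_right h2.inv_right).mul_right h1.inv_right).eq)
          have hub : ⁅u, b⁆ ∈ ⁅K, B⁆ := commutator_mem_commutator hu hb
          have e : ⁅u * c, b⁆ = u * ⁅c, b⁆ * u⁻¹ * ⁅u, b⁆ := by
            simp only [commutatorElement_def]; group
          rw [e, hM.comm u (hKM hu) _ hcb.1, mul_inv_cancel_right]
          exact mul_mem (mem_sup_right hcb) (mem_sup_left hub)
        intro x hx
        have hKB : ⁅K, B⁆ ≤ K := H1.commutator_le_left_of_le_normalizer hBK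
        obtain ⟨u, hu, c, hc, rfl⟩ := H1.exists_mul_of_mem_sup
          (fun c hc => by
            apply mem_normalizer_fintype
            intro v hv
            rw [hM.comm c hc.1 v (hKM (hKB hv)), mul_inv_cancel_right]
            exact hv) (hle (hKD hx))
        have hc1 : c ∈ K ⊓ C := ⟨by simpa using mul_mem (inv_mem (hKB hu)) hx, hc⟩
        rw [hKC, mem_bot] at hc1
        rw [hc1, mul_one]
        exact hu
      rw [mem_centralizer_iff]
      intro m hm
      have : y * m * y⁻¹ * m⁻¹ ∈ (⊥ : Subgroup G) := hK0 ⟨⟨m, hm⟩, rfl⟩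
      exact (mul_inv_eq_iff_eq_mul.mp (mul_inv_eq_one.mp (mem_bot.mp this))).symm
    have h1 := sq_le_card_range hXe hg' (hnX y' hyM) (hnX a' haM)
      (by
        rw [← map_inv, ← map_mul, ← map_mul, ← map_mul,
          show a' * y' * a'⁻¹ * y' = 1 from Subtype.ext hd, map_one]
        exact one_mem _)
      (by
        rw [← map_mul, show a' * a' = 1 from Subtype.ext haa, map_one]
        exact one_mem _) hx hxy
    refine h1.trans ?_
    have h2 : (dispHom hXe (hnX a' haM)).range ≤ ((D ⊓ N).subgroupOf N).map f := by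
      rintro _ ⟨⟨_, p, hp, rfl⟩, rfl⟩
      have hpM : (p : G) ∈ M := hp
      refine ⟨a' * p * a'⁻¹ * p⁻¹, ⟨hD _ hpM, (a' * p * a'⁻¹ * p⁻¹).2⟩, ?_⟩
      rw [map_mul, map_mul, map_mul, map_inv, map_inv]
      rfl
    refine le_trans (Subgroup.card_le_of_le h2) ?_
    rw [← relIndex_ker, hf, QuotientGroup.ker_mk', relIndex_subgroupOf inf_le_right]
    exact relIndex_le_of_le_right inf_le_left index_ne_zero_of_finite

/-- **The bound.** -/
theorem core_bound {M K : Subgroup G} (hM : Elem M) (hKM : K ≤ normalizer (M : Set G))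
    (hf : K ⊓ centralizer (M : Set G) = ⊥) (hO : Cfsg.pCore 2 K = ⊥)
    (h3 : ¬ Cfsg.Involves (Equiv.Perm (Fin 3)) K) (hc : CompK K) :
    ∀ A : Subgroup G, A ≤ K → Elem A →
      Nat.card A ^ 2 ≤ (M ⊓ centralizer (A : Set G)).relIndex M ∧
        Nat.card A ^ 2 ≤ Nat.card ↥⁅M, A⁆ := by
  intro A
  induction hn : Nat.card A using Nat.strong_induction_on generalizing A with
  | _ n ih =>
  intro hAK hA
  subst hn
  by_cases hbot : A = ⊥
  · subst hbot
    rw [card_bot, one_pow]
    exact ⟨Nat.one_le_iff_ne_zero.mpr index_ne_zero_of_finite, Nat.card_pos⟩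
  have hA' : Elem (A.subgroupOf K) :=
    ⟨fun x hx y hy => Subtype.ext (hA.comm _ hx _ hy), fun x hx => Subtype.ext (hA.sq _ hx)⟩
  have hne : A.subgroupOf K ≠ ⊥ := by
    intro h
    apply hbot
    rw [← map_subgroupOf_eq_of_le hAK, h, Subgroup.map_bot]
  obtain ⟨B', a', y', hB'A, ha', hy1, hB'y, hinv, hgood⟩ := exists_pair hO h3 hc hA' hne
  set B := B'.map K.subtype with hB
  set a : G := (a' : G) with ha
  set y : G := (y' : G) with hy
  have hBA : B ≤ A := by
    rintro _ ⟨b, hb, rfl⟩
    exact hB'A hb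
  have hk : B'.relIndex (A.subgroupOf K) = B.relIndex A := by
    conv_rhs => rw [hB, ← map_subgroupOf_eq_of_le hAK]
    rw [relIndex_map_map_of_injective _ _ K.subtype_injective]
  rw [hk] at hgood
  set k := B.relIndex A with hkdef
  have hgy : Good k y := hgood.map K.subtype
  have hBy : ∀ b ∈ B, b * y = y * b := by
    rintro _ ⟨b, hb, rfl⟩
    exact congrArg Subtype.val (hB'y b hb)
  have haA : a ∈ A := ha'
  have hBa : ∀ b ∈ B, b * a = a * b := fun b hb => hA.comm b (hBA hb) a haA
  have hya : a * y * a⁻¹ = y⁻¹ := congrArg Subtype.val hinv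
  have hyne : y ∉ centralizer (M : Set G) := fun h =>
    hy1 (Subtype.ext (mem_bot.mp (hf ▸ (⟨y'.2, h⟩ : y ∈ K ⊓ centralizer (M : Set G)))))
  obtain ⟨g1, g2⟩ := hyperplane_gain hM (hA.mono hBA) (hBA.trans (hAK.trans hKM)) hgy (hKM y'.2)
    (hKM a'.2) hya (hA.sq a haA) hBy hBa hyne
  have hcA : Nat.card B * k = Nat.card A := by
    rw [hkdef, ← relIndex_bot_left B, relIndex_mul_relIndex ⊥ B A bot_le hBA, relIndex_bot_left]
  have hlt : Nat.card B < Nat.card A := by
    refine lt_of_le_of_ne (Subgroup.card_le_of_le hBA) fun e => hy1 (Subtype.ext ?_)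
    have haB : a ∈ B := (eq_of_le_of_card_ge hBA e.ge).symm ▸ haA
    have h1 : y⁻¹ = y := by rw [← hya, hBy a haB, mul_inv_cancel_right]
    have h2 : y ^ 2 = 1 := by
      rw [pow_two]
      calc y * y = y⁻¹ * y := by rw [h1]
        _ = 1 := inv_mul_cancel y
    exact orderOf_eq_one_iff.mp (Nat.eq_one_of_dvd_coprimes hgy.coprime_two dvd_rfl
      (orderOf_dvd_of_pow_eq_one h2))
  obtain ⟨b1, b2⟩ := ih _ hlt B rfl (hBA.trans hAK) (hA.mono hBA)
  constructor
  · set U := M ⊓ centralizer (B : Set G) with hU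
    have hle : M ⊓ centralizer (A : Set G) ≤ U ⊓ centralizer ({a} : Set G) := by
      intro x hx
      exact ⟨⟨hx.1, centralizer_le (SetLike.coe_subset_coe.mpr hBA) hx.2⟩,
        mem_centralizer_singleton_iff.mpr (mem_centralizer_iff.mp hx.2 a haA).symm⟩
    have h := relIndex_mul_relIndex _ U M (hle.trans inf_le_left) inf_le_left
    rw [← h, ← hcA, mul_pow, mul_comm]
    exact Nat.mul_le_mul (g1.trans (relIndex_le_of_le_left hle index_ne_zero_of_finite)) b1
  · have hD : ⁅M, B⁆ ≤ ⁅M, A⁆ := commutator_mono le_rfl hBA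
    have h := g2 ⁅M, A⁆ hD (fun x hx => by
      have hcm : ⁅a, x⁆ ∈ ⁅A, M⁆ := commutator_mem_commutator haA hx
      rw [commutator_comm, commutatorElement_def] at hcm
      exact hcm)
    have h2 := relIndex_mul_relIndex ⊥ ⁅M, B⁆ ⁅M, A⁆ bot_le hD
    rw [relIndex_bot_left, relIndex_bot_left] at h2
    rw [← h2, ← hcA, mul_pow]
    exact Nat.mul_le_mul b2 h

/-- Both bounds for a reduced elementary abelian normal subgroup of an `S₄`-free group. -/
theorem reduced_bounds (hfree : ¬ Cfsg.Involves (Equiv.Perm (Fin 4)) G) (hc : CompK G)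
    (V : Subgroup G) [V.Normal] (hV : Elem V)
    (hO : Cfsg.pCore 2 (G ⧸ centralizer (V : Set G)) = ⊥) (B : Subgroup G)
    (hsq : ∀ x ∈ B, x * x ∈ centralizer (V : Set G))
    (hcm : ∀ x ∈ B, ∀ y ∈ B, x * y * x⁻¹ * y⁻¹ ∈ centralizer (V : Set G)) :
    (B ⊓ centralizer (V : Set G)).relIndex B ^ 2 ≤ (V ⊓ centralizer (B : Set G)).relIndex V ∧
      (B ⊓ centralizer (V : Set G)).relIndex B ^ 2 ≤ Nat.card ↥⁅V, B⁆ := by
  haveI : Fact (Nat.Prime 2) := ⟨Nat.prime_two⟩
  set C := centralizer (V : Set G) with hC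
  set t := H10.toModel V with ht
  set A := B.map t with hA
  set M := t.range with hM
  have hker : ∀ g, t g = 1 ↔ g ∈ C := fun g => H10.toModel_eq_one_iff
  have hAe : Elem A := by
    constructor
    · rintro _ ⟨x, hx, rfl⟩ _ ⟨y, hy, rfl⟩
      have h := (hker _).mpr (hcm x hx y hy)
      rw [map_mul, map_mul, map_mul, map_inv, map_inv, mul_inv_eq_one, mul_inv_eq_iff_eq_mul] at h
      exact h
    · rintro _ ⟨x, hx, rfl⟩
      rw [← map_mul]
      exact (hker _).mpr (hsq x hx)
  set ι : G ⧸ C →* H10.Model V := SemidirectProduct.inr with hι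
  have hMι : M = ι.range := by
    rw [hM, ht, H10.toModel, MonoidHom.range_comp, MonoidHom.range_eq_map ι]
    congr 1
    exact MonoidHom.range_eq_top.mpr (QuotientGroup.mk'_surjective _)
  let e : (G ⧸ C) ≃* M :=
    (MonoidHom.ofInjective (f := ι) SemidirectProduct.inr_injective).trans (MulEquiv.subgroupCongr hMι.symm)
  have hOM : Cfsg.pCore 2 M = ⊥ := by rw [← H1.map_pCore_equiv 2 e, hO, Subgroup.map_bot]
  have hno : ¬ Cfsg.Involves (Equiv.Perm (Fin 3)) ↥M := by
    intro h
    have h2 : Cfsg.Involves (Equiv.Perm (Fin 3)) (G ⧸ C) := H74.JA.involves_of_equiv e.symm h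
    apply hfree
    refine H74.S4Section.symm_four_of_automizer (T := V) (H10.isPGroup_of_elem (Cfsg.Agent.H9.SFree.Elem.isElem hV)) ?_
    set U := normalizer (V : Set G) with hU
    haveI hn : ((centralizer (V : Set G)).subgroupOf U).Normal :=
      (inferInstance : (centralizer (V : Set G)).Normal).comap _
    refine H74.JA.involves_of_equiv (QuotientGroup.congr _ _ (MulEquiv.trans
      (MulEquiv.subgroupCongr (normalizer_eq_top (H := V))) Subgroup.topEquiv) ?_).symm h2
    ext x
    constructor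
    · rintro ⟨y, hy, rfl⟩
      exact hy
    · intro hx
      exact ⟨⟨x, by rw [normalizer_eq_top]; exact mem_top x⟩, hx, rfl⟩
  have hcM : CompK M := hc.of_surjective ((e.toMonoidHom).comp (QuotientGroup.mk' C))
    (e.surjective.comp (QuotientGroup.mk'_surjective C))
  obtain ⟨h1, h2⟩ := core_bound (M := H10.modelV V) (K := M)
    (Cfsg.Agent.H9.SFree.Elem.of_isElem (H10.modelV_elementaryAbelian (Cfsg.Agent.H9.SFree.Elem.isElem hV)))
    H10.toModel_range_le_normalizer H10.range_inf_centralizer hOM hno hcM A (map_le_range _ _) hAe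
  have hleft : (B ⊓ C).relIndex B = Nat.card A := by
    rw [hA, ← relIndex_ker, show t.ker = C from Subgroup.ext fun g => MonoidHom.mem_ker.trans (hker g),
      inf_relIndex_left]
  have hright : (H10.modelV V ⊓ centralizer (A : Set (H10.Model V))).relIndex (H10.modelV V) =
      (V ⊓ centralizer (B : Set G)).relIndex V := by
    set C1 := H10.modelV V ⊓ centralizer (A : Set (H10.Model V)) with hC1
    set C2 := V ⊓ centralizer (B : Set G) with hC2
    have h1 : Nat.card C1 * C1.relIndex (H10.modelV V) = Nat.card (H10.modelV V) := by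
      rw [← relIndex_bot_left C1, relIndex_mul_relIndex ⊥ C1 _ bot_le inf_le_left, relIndex_bot_left]
    have h2 : Nat.card C2 * C2.relIndex V = Nat.card V := by
      rw [← relIndex_bot_left C2, relIndex_mul_relIndex ⊥ C2 _ bot_le inf_le_left, relIndex_bot_left]
    rw [H10.card_modelV, ← h2, show Nat.card C1 = Nat.card C2 from H10.card_fixed_model B] at h1
    exact Nat.eq_of_mul_eq_mul_left Nat.card_pos h1
  rw [hleft]
  refine ⟨hright ▸ h1, h2.trans ?_⟩
  have hle : ⁅H10.modelV V, A⁆ ≤ ((⁅V, B⁆).subgroupOf V).map (H10.ofV V) := by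
    rw [commutator_le]
    rintro _ ⟨v, rfl⟩ _ ⟨b, hb, rfl⟩
    refine ⟨v * (MulAut.conjNormal b v)⁻¹, ?_, ?_⟩
    · rw [SetLike.mem_coe, mem_subgroupOf, Subgroup.coe_mul, Subgroup.coe_inv, MulAut.conjNormal_apply,
        show (v : G) * (b * v * b⁻¹)⁻¹ = ⁅(v : G), b⁆ by rw [commutatorElement_def]; group]
      exact commutator_mem_commutator v.2 hb
    · rw [map_mul, map_inv, ← H10.toModel_conj, commutatorElement_def]
      group
      rfl
  refine (Subgroup.card_le_of_le hle).trans ?_
  rw [card_map_of_injective H10.ofV_injective, Nat.card_congr (subgroupOfEquivOfLe (commutator_le_left V B)).toEquiv]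

end H74.Pair
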