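import Mathlib
import Cfsg.Prelude.Def_LocalEven
import Cfsg.Agent.H73.Chief
import Cfsg.Agent.H75.Basic
import Cfsg.Agent.H5.PResidual
import Cfsg.Agent.H6.Basic
import Cfsg.Agent.H74.Pair.Bound

/-!
Every chief factor of a 2-subgroup on which the 2-residual acts nontrivially gives the offender bound.
-/

set_option autoImplicit false
set_option linter.all false

namespace H74.Pair

open Subgroup
open scoped commutatorElement
open Cfsg.Agent.H9.SFree (Elem)

universe u

variable {G : Type u} [Group G] [Finite G]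

/-- The elements of `Y` fixed by `A` modulo `Y₁`. -/
def fixMod (Y Y₁ A : Subgroup G) [Y₁.Normal] : Subgroup G :=
  Y ⊓ (centralizer ((A.map (QuotientGroup.mk' Y₁) : Subgroup (G ⧸ Y₁)) : Set (G ⧸ Y₁))).comap
    (QuotientGroup.mk' Y₁)

theorem mem_fixMod {Y Y₁ A : Subgroup G} [Y₁.Normal] {y : G} :
    y ∈ fixMod Y Y₁ A ↔ y ∈ Y ∧ ∀ a ∈ A, a * y * a⁻¹ * y⁻¹ ∈ Y₁ := by
  rw [fixMod, mem_inf, mem_comap, mem_centralizer_iff]
  refine and_congr_right fun _ => ⟨fun h a ha => ?_, fun h => ?_⟩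
  · rw [← QuotientGroup.eq_one_iff, QuotientGroup.mk_mul, QuotientGroup.mk_mul, QuotientGroup.mk_mul,
      QuotientGroup.mk_inv, QuotientGroup.mk_inv, mul_inv_eq_one, mul_inv_eq_iff_eq_mul]
    exact h _ ⟨a, ha, rfl⟩
  · rintro _ ⟨a, ha, rfl⟩
    have h1 := h a ha
    rw [← QuotientGroup.eq_one_iff, QuotientGroup.mk_mul, QuotientGroup.mk_mul, QuotientGroup.mk_mul,
      QuotientGroup.mk_inv, QuotientGroup.mk_inv, mul_inv_eq_one, mul_inv_eq_iff_eq_mul] at h1
    exact h1

/-- A minimal normal 2-subgroup is elementary abelian. -/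
theorem elem_of_minimal {U : Subgroup G} [hU : U.Normal] (hp : IsPGroup 2 U)
    (hmin : ∀ M : Subgroup G, M.Normal → M ≤ U → M = ⊥ ∨ M = U) : Elem U := by
  haveI : Fact (Nat.Prime 2) := ⟨Nat.prime_two⟩
  by_cases hne : U = ⊥
  · subst hne
    exact ⟨fun x hx y hy => by rw [mem_bot.mp hx, mem_bot.mp hy],
      fun x hx => by rw [mem_bot.mp hx, one_mul]⟩
  haveI : Nontrivial U := (nontrivial_iff_ne_bot U).mpr hne
  have hZ : (center U).map U.subtype = U := by
    refine ((hmin _ inferInstance (map_subtype_le _)).resolve_left fun h => ?_)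
    haveI := hp.center_nontrivial
    exact (nontrivial_iff_ne_bot _).mp inferInstance
      ((Subgroup.map_eq_bot_iff_of_injective _ U.subtype_injective).mp h)
  have hcomm : ∀ x ∈ U, ∀ y ∈ U, x * y = y * x := by
    intro x hx y hy
    obtain ⟨z, hz, rfl⟩ := hZ.ge hx
    exact congrArg Subtype.val (Subgroup.mem_center_iff.mp hz ⟨y, hy⟩).symm
  let O : Subgroup G :=
    { carrier := {x | x ∈ U ∧ x * x = 1}
      one_mem' := ⟨one_mem _, one_mul 1⟩
      mul_mem' := by
        rintro x y ⟨hx, hx2⟩ ⟨hy, hy2⟩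
        refine ⟨mul_mem hx hy, ?_⟩
        calc x * y * (x * y) = x * (y * x) * y := by group
          _ = x * (x * y) * y := by rw [hcomm y hy x hx]
          _ = (x * x) * (y * y) := by group
          _ = 1 := by rw [hx2, hy2, one_mul]
      inv_mem' := by
        rintro x ⟨hx, hx2⟩
        exact ⟨inv_mem hx, by rw [← mul_inv_rev, hx2, inv_one]⟩ }
  have hOn : O.Normal := ⟨fun x hx g => ⟨hU.conj_mem x hx.1 g, by
    calc g * x * g⁻¹ * (g * x * g⁻¹) = g * (x * x) * g⁻¹ := by group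
      _ = 1 := by rw [hx.2, mul_one, mul_inv_cancel]⟩⟩
  have hOU : O = U := by
    refine (hmin O hOn (fun x hx => hx.1)).resolve_left fun h => ?_
    obtain ⟨x, hx⟩ := exists_prime_orderOf_dvd_card' (G := U) 2
      ((hp.card_eq_or_dvd).resolve_left Finite.one_lt_card.ne')
    have hmem : (x : G) ∈ O := ⟨x.2, by
      rw [← pow_two, ← hx, ← Subgroup.orderOf_coe, pow_orderOf_eq_one]⟩
    rw [h, mem_bot] at hmem
    rw [← Subgroup.orderOf_coe, hmem, orderOf_one] at hx
    omega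
  exact ⟨hcomm, fun x hx => (hOU.ge hx).2⟩

/-- No normal 2-subgroup acts nontrivially on a minimal normal 2-subgroup. -/
theorem pCore_centralizer_minimal {U : Subgroup G} [U.Normal] (hp : IsPGroup 2 U) (hne : U ≠ ⊥)
    (hmin : ∀ M : Subgroup G, M.Normal → M ≤ U → M = ⊥ ∨ M = U) :
    Cfsg.pCore 2 (G ⧸ centralizer (U : Set G)) = ⊥ := by
  haveI : Fact (Nat.Prime 2) := ⟨Nat.prime_two⟩
  set C := centralizer (U : Set G) with hC
  set O := Cfsg.pCore 2 (G ⧸ C) with hO
  haveI := H1.pCore_normal' 2 (G ⧸ C)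
  set P := O.comap (QuotientGroup.mk' C) with hP
  haveI : Nontrivial U := (nontrivial_iff_ne_bot U).mpr hne
  letI : MulAction O U := MulAction.compHom U ((H10.actHom U).comp O.subtype)
  obtain ⟨v, hv, hv1⟩ := (H1.isPGroup_pCore 2 (G ⧸ C)).exists_fixed_point_of_prime_dvd_card_of_fixed_point
    U ((hp.card_eq_or_dvd).resolve_left Finite.one_lt_card.ne') (a := (1 : U))
    (fun g => map_one (H10.actHom U (g : G ⧸ C)))
  have hPv : (v : G) ∈ U ⊓ centralizer (P : Set G) := by
    refine ⟨v.2, mem_centralizer_iff.mpr fun x hx => ?_⟩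
    have h : (H10.actHom U (QuotientGroup.mk' C x)) v = v := hv ⟨_, hx⟩
    have h' := congrArg Subtype.val h
    exact mul_inv_eq_iff_eq_mul.mp h'
  have hUP : U ⊓ centralizer (P : Set G) = U := by
    refine (hmin _ inferInstance inf_le_left).resolve_left fun h => hv1 ?_
    rw [h, mem_bot] at hPv
    exact Subtype.ext hPv.symm
  rw [eq_bot_iff]
  intro q hq
  obtain ⟨x, rfl⟩ := QuotientGroup.mk'_surjective C q
  rw [mem_bot, QuotientGroup.mk'_apply, QuotientGroup.eq_one_iff]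
  exact (le_centralizer_iff.mp (inf_eq_left.mp hUP)) hq

variable (hfree : ¬ Cfsg.Involves (Equiv.Perm (Fin 4)) G) (hc : CompK G) (S : Sylow 2 G)
  (hP : ∀ N : Subgroup G, N.Normal → Cfsg.pCore 2 G ≤ N → N ⊔ (S : Subgroup G) ≠ ⊤ →
    N ⊓ (S : Subgroup G) ≤ Cfsg.pCore 2 G)

include hfree hc hP in
/-- The bound on a chief factor. -/
theorem chief_gain {A : Subgroup G} (hA : A ≤ (S : Subgroup G)) (hAe : Elem A) {Y₁ Y : Subgroup G}
    [Y₁.Normal] [Y.Normal] (h1 : Y₁ ≤ Y) (hYQ : Y ≤ Cfsg.pCore 2 G)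
    (hmin : ∀ M : Subgroup G, M.Normal → Y₁ ≤ M → M ≤ Y → M = Y₁ ∨ M = Y) :
    (∀ o : G, ∀ v ∈ Y, ⁅v, o⁆ ∈ Y₁) ∨
      ((A ⊓ Cfsg.pCore 2 G).relIndex A ^ 2 ≤ Y₁.relIndex ⁅Y, A⁆ ∧
        (A ⊓ Cfsg.pCore 2 G).relIndex A ^ 2 ≤ (fixMod Y Y₁ A).relIndex Y) := by
  haveI : Fact (Nat.Prime 2) := ⟨Nat.prime_two⟩
  set Q := Cfsg.pCore 2 G with hQdef
  haveI := H1.pCore_normal' 2 G
  set f := QuotientGroup.mk' Y₁ with hf
  have hfs : Function.Surjective f := QuotientGroup.mk'_surjective Y₁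
  set U := Y.map f with hU
  haveI : U.Normal := Subgroup.Normal.map inferInstance f hfs
  have hUp : IsPGroup 2 U := ((H1.isPGroup_pCore 2 G).to_le hYQ).map f
  have hker : f.ker = Y₁ := QuotientGroup.ker_mk' Y₁
  have hmin' : ∀ M : Subgroup (G ⧸ Y₁), M.Normal → M ≤ U → M = ⊥ ∨ M = U := by
    intro M hM hMU
    have hle : M.comap f ≤ Y := by
      refine (comap_mono hMU).trans (le_of_eq ?_)
      rw [hU, comap_map_eq, hker, sup_eq_left.mpr h1]
    rcases hmin (M.comap f) inferInstance (fun x hx => by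
      rw [mem_comap, show f x = 1 from (QuotientGroup.eq_one_iff x).mpr hx]; exact one_mem _) hle with h | h
    · left
      rw [← map_comap_eq_self_of_surjective hfs M, h, hf]
      exact (QuotientGroup.map_mk'_self Y₁)
    · right
      rw [← map_comap_eq_self_of_surjective hfs M, h]
  set C := centralizer (U : Set (G ⧸ Y₁)) with hC
  set K0 := C.comap f with hK0
  have htriv : C = ⊤ → ∀ o : G, ∀ v ∈ Y, ⁅v, o⁆ ∈ Y₁ := by
    intro hCt o v hv
    rw [← QuotientGroup.eq_one_iff, ← QuotientGroup.mk'_apply, map_commutatorElement,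
      commutatorElement_eq_one_iff_mul_comm]
    exact mem_centralizer_iff.mp (hCt ▸ mem_top (f o) : f o ∈ C) _ ⟨v, hv, rfl⟩
  by_cases hUne : U = ⊥
  · left
    refine htriv (eq_top_iff.mpr fun x _ => ?_)
    rw [hC, hUne, mem_centralizer_iff]
    intro z hz
    rw [mem_bot.mp hz, one_mul, mul_one]
  have hUe : Elem U := elem_of_minimal hUp hmin'
  have hO := pCore_centralizer_minimal hUp hUne hmin'
  by_cases hKS : K0 ⊔ (S : Subgroup G) = ⊤
  · left
    refine htriv ?_
    have htop : Cfsg.pCore 2 ((G ⧸ Y₁) ⧸ C) = ⊤ := by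
      rw [eq_top_iff]
      refine H1.le_pCore ?_
      set g := (QuotientGroup.mk' C).comp f with hg
      have hgs : Function.Surjective g := (QuotientGroup.mk'_surjective C).comp hfs
      have h : (S : Subgroup G).map g = ⊤ := by
        have h2 := congrArg (Subgroup.map g) hKS
        rw [Subgroup.map_sup, Subgroup.map_top_of_surjective g hgs] at h2
        rw [← h2, eq_comm, sup_eq_right]
        rintro _ ⟨x, hx, rfl⟩
        refine ⟨1, one_mem _, ?_⟩
        rw [map_one, eq_comm]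
        exact (QuotientGroup.eq_one_iff (f x)).mpr hx
      rw [← h]
      exact S.isPGroup'.map g
    rw [hO] at htop
    rw [eq_top_iff]
    intro x _
    exact (QuotientGroup.eq_one_iff x).mp (mem_bot.mp (htop ▸ mem_top _))
  right
  have hQK : Q ≤ K0 := by
    set g := (QuotientGroup.mk' C).comp f with hg
    have hgs : Function.Surjective g := (QuotientGroup.mk'_surjective C).comp hfs
    haveI : (Q.map g).Normal := Subgroup.Normal.map inferInstance g hgs
    have h := H1.le_pCore (N := Q.map g) ((H1.isPGroup_pCore 2 G).map g)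
    rw [hO] at h
    intro x hx
    exact (QuotientGroup.eq_one_iff (f x)).mp (mem_bot.mp (h ⟨x, hx, rfl⟩))
  have hAK : A ⊓ K0 = A ⊓ Q := le_antisymm
    (le_inf inf_le_left ((le_inf inf_le_right (inf_le_left.trans hA)).trans (hP K0 inferInstance hQK hKS)))
    (inf_le_inf_left _ hQK)
  have hAe' : Elem (A.map f) := Elem.map hAe f
  obtain ⟨b1, b2⟩ := reduced_bounds (fun h => hfree (H74.JA.involves_quotient h))
    (hc.of_surjective f hfs) U hUe hO (A.map f)
    (fun x hx => by rw [hAe'.sq x hx]; exact one_mem _)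
    (fun x hx y hy => by
      rw [hAe'.comm x hx y hy, mul_inv_cancel_right, mul_inv_cancel]; exact one_mem _)
  have hk : (A.map f ⊓ C).relIndex (A.map f) = (A ⊓ Q).relIndex A := by
    rw [inf_relIndex_left, ← relIndex_comap, ← hK0, ← hAK, inf_relIndex_left]
  rw [hk] at b1 b2
  refine ⟨?_, ?_⟩
  · rw [← map_commutator, ← relIndex_ker, hker] at b2
    exact b2
  · rw [← relIndex_comap, comap_inf, hU, comap_map_eq, hker, sup_eq_left.mpr h1] at b1
    exact b1

include hfree hc hP in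
/-- Either the 2-residual stabilizes `Y / Y₁` or both bounds hold. -/
theorem layer_gain {A : Subgroup G} (hA : A ≤ (S : Subgroup G)) (hAe : Elem A) :
    ∀ (Y₁ Y : Subgroup G) [Y₁.Normal] [Y.Normal], Y₁ ≤ Y → Y ≤ Cfsg.pCore 2 G →
    (∀ o ∈ Cfsg.pResidual 2 G, ∀ v ∈ Y, ⁅v, o⁆ ∈ Y₁) ∨
      ((A ⊓ Cfsg.pCore 2 G).relIndex A ^ 2 ≤ Y₁.relIndex ⁅Y, A⁆ ∧
        (A ⊓ Cfsg.pCore 2 G).relIndex A ^ 2 ≤ (fixMod Y Y₁ A).relIndex Y) := by
  haveI : Fact (Nat.Prime 2) := ⟨Nat.prime_two⟩
  intro Y₁ Y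
  induction hn : Nat.card Y - Nat.card Y₁ using Nat.strong_induction_on generalizing Y₁ Y with
  | _ n ih =>
  intro _ _ h1 hYQ
  subst hn
  by_cases hmin : ∀ M : Subgroup G, M.Normal → Y₁ ≤ M → M ≤ Y → M = Y₁ ∨ M = Y
  · rcases chief_gain hfree hc S hP hA hAe h1 hYQ hmin with h | h
    · exact Or.inl fun o _ => h o
    · exact Or.inr h
  push Not at hmin
  obtain ⟨M, hMn, hM1, hM2, hne1, hne2⟩ := hmin
  haveI := hMn
  have hlt1 : Nat.card Y₁ < Nat.card M :=
    lt_of_le_of_ne (card_le_of_le hM1) fun e => hne1 (eq_of_le_of_card_ge hM1 e.ge).symm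
  have hlt2 : Nat.card M < Nat.card Y :=
    lt_of_le_of_ne (card_le_of_le hM2) fun e => hne2 (eq_of_le_of_card_ge hM2 e.ge)
  rcases ih _ (by omega) M Y rfl hM2 hYQ with htop | ⟨t1, t2⟩
  swap
  · refine Or.inr ⟨t1.trans (relIndex_le_of_le_left hM1 index_ne_zero_of_finite), t2.trans ?_⟩
    refine relIndex_le_of_le_left ?_ index_ne_zero_of_finite
    intro y hy
    rw [mem_fixMod] at hy ⊢
    exact ⟨hy.1, fun a ha => hM1 (hy.2 a ha)⟩
  rcases ih _ (by omega) Y₁ M rfl hM1 (hM2.trans hYQ) with hbot | ⟨t1, t2⟩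
  swap
  · refine Or.inr ⟨t1.trans (relIndex_le_of_le_right (commutator_mono hM2 le_rfl) index_ne_zero_of_finite),
      t2.trans ?_⟩
    have he : fixMod M Y₁ A = M ⊓ fixMod Y Y₁ A := by
      ext y
      rw [mem_inf, mem_fixMod, mem_fixMod]
      exact ⟨fun h => ⟨h.1, hM2 h.1, h.2⟩, fun h => ⟨h.1, h.2.2⟩⟩
    rw [he, inf_relIndex_left]
    exact relIndex_le_of_le_right hM2 index_ne_zero_of_finite
  left
  -- both factors are stabilized: coprime elements centralize
  suffices h : Cfsg.pResidual 2 G ≤ H73.factorCentralizer Y Y₁ from fun o ho v hv => h ho v hv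
  refine (closure_le _).mpr fun o ho v hv => ?_
  set f := QuotientGroup.mk' Y₁ with hf
  have ho' : o ∈ Cfsg.pResidual 2 G := subset_closure ho
  have hcm := H75.commute_of_stabilize (p := 2) (A := Y.map f) (B := M.map f)
    (((H1.isPGroup_pCore 2 G).to_le (hM2.trans hYQ)).map f) (x := f o)
    (Nat.Coprime.coprime_dvd_left (orderOf_map_dvd f o) ho)
    (by
      rintro _ ⟨a, ha, rfl⟩
      refine ⟨⁅o, a⁆, ?_, map_commutatorElement f o a⟩
      rw [← commutatorElement_inv]
      exact inv_mem (htop o ho' a ha))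
    (by
      rintro _ ⟨b, hb, rfl⟩
      have h := hbot o ho' b hb
      rw [← QuotientGroup.eq_one_iff, ← QuotientGroup.mk'_apply, map_commutatorElement,
        commutatorElement_eq_one_iff_mul_comm] at h
      exact h.symm) (f v) ⟨v, hv, rfl⟩
  rw [← QuotientGroup.eq_one_iff, ← QuotientGroup.mk'_apply, map_commutatorElement,
    commutatorElement_eq_one_iff_mul_comm]
  exact hcm.symm.eq

end H74.Pair
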