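import Mathlib
import Cfsg.Prelude.Def_LocalEven
import Cfsg.Agent.H9.SFreeMain
import Cfsg.Agent.H1.ThompsonTools
import Cfsg.Agent.H74.SylIn
import Cfsg.Agent.H83.TrivAction

/-!
E-groups, the margin property of elementary abelian subgroups and the subgroup generated by E-groups.
-/

set_option autoImplicit false
set_option linter.all false

namespace H74.Pair

open Subgroup
open scoped commutatorElement
open Cfsg.Agent.H9.SFree (Elem offender_bound)

universe u

variable {G H : Type u} [Group G] [Group H]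

/-- The margin `|R̄| ^ 3 < |W / C_W(R)| ^ 2` for all `R ≤ S` inducing a nontrivial elementary abelian
group. -/
def Marg (W S : Subgroup G) : Prop :=
  ∀ R ≤ S, (∀ x ∈ R, x * x ∈ centralizer (W : Set G)) →
    (∀ x ∈ R, ∀ y ∈ R, x * y * x⁻¹ * y⁻¹ ∈ centralizer (W : Set G)) →
    (R ⊓ centralizer (W : Set G)).relIndex R = 1 ∨
      (R ⊓ centralizer (W : Set G)).relIndex R ^ 3 < (W ⊓ centralizer (R : Set G)).relIndex W ^ 2

/-- Both inequalities in the definition of an E-group. -/
def EProp (V T : Subgroup G) : Prop :=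
  ∀ R ≤ T, (∀ x ∈ R, x * x ∈ centralizer (V : Set G)) →
    (∀ x ∈ R, ∀ y ∈ R, x * y * x⁻¹ * y⁻¹ ∈ centralizer (V : Set G)) →
    ¬ R ≤ centralizer (V : Set G) →
      (R ⊓ centralizer (V : Set G)).relIndex R ^ 3 < (V ⊓ centralizer (R : Set G)).relIndex V ^ 2 ∧
        (R ⊓ centralizer (V : Set G)).relIndex R < Nat.card ↥⁅V, R⁆

theorem EProp.marg {V T : Subgroup G} (h : EProp V T) : Marg V T := by
  intro R hR hsq hcm
  by_cases hc : R ≤ centralizer (V : Set G)
  · left
    rw [inf_eq_left.mpr hc, relIndex_self]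
  · exact Or.inr (h R hR hsq hcm hc).1

theorem EProp.mono {V T T' : Subgroup G} (h : EProp V T) (hle : T' ≤ T) : EProp V T' :=
  fun R hR => h R (hR.trans hle)

/-- The definition, through relative indices. -/
theorem isEGroup_iff {P : Type u} [Group P] [Finite P] :
    Cfsg.IsEGroup P ↔ ∀ V : Subgroup P, V.Normal → Elem V → EProp V (⊤ : Subgroup P) →
      V ≤ center P := by
  constructor
  · intro h V hVn hV hE
    refine h V hVn (Cfsg.Agent.H9.SFree.Elem.isElem hV) fun R hcm hsq hR => ?_
    obtain ⟨h1, h2⟩ := hE R le_top (fun x hx => by rw [← pow_two]; exact hsq x hx)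
      (fun x hx y hy => by
        rw [← commutatorElement_def]; exact hcm (commutator_mem_commutator hx hy)) hR
    set c := (R ⊓ centralizer (V : Set P)).relIndex R with hc
    set i := (V ⊓ centralizer (R : Set P)).relIndex V with hi
    have e1 : Nat.card ↥(R ⊓ centralizer (V : Set P)) * c = Nat.card R := by
      rw [hc, ← relIndex_bot_left (R ⊓ _), relIndex_mul_relIndex ⊥ _ R bot_le inf_le_left, relIndex_bot_left]
    have e2 : Nat.card ↥(V ⊓ centralizer (R : Set P)) * i = Nat.card V := by
      rw [hi, ← relIndex_bot_left (V ⊓ _), relIndex_mul_relIndex ⊥ _ V bot_le inf_le_left, relIndex_bot_left]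
    constructor
    · rw [gt_iff_lt, ← e1, ← e2, mul_pow, mul_pow]
      calc _ = c ^ 3 * (Nat.card ↥(R ⊓ centralizer (V : Set P)) ^ 3 *
            Nat.card ↥(V ⊓ centralizer (R : Set P)) ^ 2) := by ring
        _ < i ^ 2 * (Nat.card ↥(R ⊓ centralizer (V : Set P)) ^ 3 *
            Nat.card ↥(V ⊓ centralizer (R : Set P)) ^ 2) :=
          Nat.mul_lt_mul_of_pos_right h1 (Nat.mul_pos (pow_pos Nat.card_pos 3) (pow_pos Nat.card_pos 2))
        _ = _ := by ring
    · rw [gt_iff_lt, ← e1, mul_comm _ c]
      exact Nat.mul_lt_mul_of_pos_right h2 Nat.card_pos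
  · intro h V hVn hV hE
    refine h V hVn (Cfsg.Agent.H9.SFree.Elem.of_isElem hV) fun R _ hsq hcm hR => ?_
    obtain ⟨h1, h2⟩ := hE R (commutator_le.mpr fun x hx y hy => by
        rw [commutatorElement_def]; exact hcm x hx y hy)
      (fun x hx => by rw [pow_two]; exact hsq x hx) hR
    set c := (R ⊓ centralizer (V : Set P)).relIndex R with hc
    set i := (V ⊓ centralizer (R : Set P)).relIndex V with hi
    have e1 : Nat.card ↥(R ⊓ centralizer (V : Set P)) * c = Nat.card R := by
      rw [hc, ← relIndex_bot_left (R ⊓ _), relIndex_mul_relIndex ⊥ _ R bot_le inf_le_left, relIndex_bot_left]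
    have e2 : Nat.card ↥(V ⊓ centralizer (R : Set P)) * i = Nat.card V := by
      rw [hi, ← relIndex_bot_left (V ⊓ _), relIndex_mul_relIndex ⊥ _ V bot_le inf_le_left, relIndex_bot_left]
    constructor
    · rw [gt_iff_lt, ← e1, ← e2, mul_pow, mul_pow] at h1
      refine lt_of_mul_lt_mul_right (a := Nat.card ↥(R ⊓ centralizer (V : Set P)) ^ 3 *
        Nat.card ↥(V ⊓ centralizer (R : Set P)) ^ 2) ?_ (Nat.zero_le _)
      calc _ = Nat.card ↥(R ⊓ centralizer (V : Set P)) ^ 3 * c ^ 3 *
            Nat.card ↥(V ⊓ centralizer (R : Set P)) ^ 2 := by ring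
        _ < _ := h1
        _ = _ := by ring
    · rw [gt_iff_lt, ← e1, mul_comm _ c] at h2
      exact lt_of_mul_lt_mul_right h2 (Nat.zero_le _)

theorem elem_map_iff (f : G →* H) (hf : Function.Injective f) (V : Subgroup G) :
    Elem (V.map f) ↔ Elem V := by
  constructor
  · intro h
    exact ⟨fun x hx y hy => hf (by
      rw [map_mul, map_mul]; exact h.comm _ ⟨x, hx, rfl⟩ _ ⟨y, hy, rfl⟩),
      fun x hx => hf (by rw [map_mul, map_one]; exact h.sq _ ⟨x, hx, rfl⟩)⟩
  · intro h
    constructor
    · rintro _ ⟨x, hx, rfl⟩ _ ⟨y, hy, rfl⟩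
      rw [← map_mul, ← map_mul, h.comm x hx y hy]
    · rintro _ ⟨x, hx, rfl⟩
      rw [← map_mul, h.sq x hx, map_one]

theorem mem_centralizer_map {f : G →* H} (hf : Function.Injective f) {V : Subgroup G} {x : G} :
    f x ∈ centralizer ((V.map f : Subgroup H) : Set H) ↔ x ∈ centralizer (V : Set G) := by
  constructor
  · intro h
    exact mem_centralizer_iff.mpr fun v hv => hf (by
      rw [map_mul, map_mul]; exact mem_centralizer_iff.mp h _ ⟨v, hv, rfl⟩)
  · intro h
    rw [mem_centralizer_iff]
    rintro _ ⟨v, hv, rfl⟩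
    rw [← map_mul, ← map_mul, mem_centralizer_iff.mp h v hv]

theorem eProp_map_iff [Finite G] [Finite H] (f : G →* H) (hf : Function.Injective f)
    (V T : Subgroup G) : EProp (V.map f) (T.map f) ↔ EProp V T := by
  have key : ∀ R : Subgroup G,
      (R.map f ⊓ centralizer ((V.map f : Subgroup H) : Set H)).relIndex (R.map f) =
        (R ⊓ centralizer (V : Set G)).relIndex R ∧
      (V.map f ⊓ centralizer ((R.map f : Subgroup H) : Set H)).relIndex (V.map f) =
        (V ⊓ centralizer (R : Set G)).relIndex V ∧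
      Nat.card ↥⁅V.map f, R.map f⁆ = Nat.card ↥⁅V, R⁆ := by
    intro R
    refine ⟨?_, ?_, ?_⟩
    · rw [← H74.inf_centralizer_map R V f hf, relIndex_map_map_of_injective _ _ hf]
    · rw [← H74.inf_centralizer_map V R f hf, relIndex_map_map_of_injective _ _ hf]
    · rw [← Subgroup.map_commutator, card_map_of_injective hf]
  constructor
  · intro h R hR hsq hcm hne
    obtain ⟨k1, k2, k3⟩ := key R
    rw [← k1, ← k2, ← k3]
    refine h (R.map f) (map_mono hR) ?_ ?_ fun hle => hne fun x hx =>
      (mem_centralizer_map hf).mp (hle ⟨x, hx, rfl⟩)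
    · rintro _ ⟨x, hx, rfl⟩
      rw [← map_mul]
      exact (mem_centralizer_map hf).mpr (hsq x hx)
    · rintro _ ⟨x, hx, rfl⟩ _ ⟨y, hy, rfl⟩
      rw [← map_inv, ← map_inv, ← map_mul, ← map_mul, ← map_mul]
      exact (mem_centralizer_map hf).mpr (hcm x hx y hy)
  · intro h R' hR' hsq hcm hne
    set R := R'.comap f with hR
    have hRR' : R.map f = R' := by
      refine map_comap_eq_self (hR'.trans ?_)
      exact map_le_range f T
    obtain ⟨k1, k2, k3⟩ := key R
    rw [hRR'] at k1 k2 k3
    rw [k1, k2, k3]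
    refine h R ?_ (fun x hx => (mem_centralizer_map hf).mp (by rw [map_mul]; exact hsq _ hx))
      (fun x hx y hy => (mem_centralizer_map hf).mp (by
        rw [map_mul, map_mul, map_mul, map_inv, map_inv]; exact hcm _ hx _ hy))
      fun hle => hne fun z hz => ?_
    · intro x hx
      obtain ⟨t, ht, he⟩ := hR' hx
      rwa [← hf he]
    · obtain ⟨x, hx, rfl⟩ := hRR'.ge hz
      exact (mem_centralizer_map hf).mpr (hle hx)

/-- Being an E-group is invariant under isomorphism. -/
theorem isEGroup_of_equiv [Finite G] [Finite H] (e : G ≃* H) (h : Cfsg.IsEGroup G) :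
    Cfsg.IsEGroup H := by
  rw [isEGroup_iff] at h ⊢
  intro V hVn hV hE
  set V' := V.map e.symm.toMonoidHom with hV'
  have hback : V'.map e.toMonoidHom = V := by
    rw [hV', map_map]
    simp
  have h2 := h V' (hVn.map _ e.symm.surjective) ((elem_map_iff _ e.symm.injective V).mpr hV)
    ((eProp_map_iff e.toMonoidHom e.injective V' ⊤).mp (by
      rw [hback, Subgroup.map_top_of_surjective _ e.surjective]; exact hE))
  intro v hv
  rw [Subgroup.mem_center_iff]
  intro g
  have h3 := Subgroup.mem_center_iff.mp (h2 (mem_map_of_mem _ hv : e.symm v ∈ V')) (e.symm g)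
  apply e.symm.injective
  rw [map_mul, map_mul]
  exact h3

/-- `Ĵ` of a subgroup, inside the group. -/
abbrev jH (T : Subgroup G) : Subgroup G := (Cfsg.jHat ↥T).map T.subtype

theorem map_jHat_equiv [Finite G] [Finite H] (e : G ≃* H) :
    (Cfsg.jHat G).map e.toMonoidHom = Cfsg.jHat H := by
  have key : ∀ {A B : Type u} [Group A] [Group B] [Finite A] [Finite B] (f : A ≃* B),
      (Cfsg.jHat A).map f.toMonoidHom ≤ Cfsg.jHat B := by
    intro A B _ _ _ _ f
    rw [map_le_iff_le_comap]
    refine sSup_le fun U hU => ?_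
    rw [← map_le_iff_le_comap]
    refine le_sSup ⟨isEGroup_of_equiv (U.equivMapOfInjective f.toMonoidHom f.injective) hU.1, ?_⟩
    rw [← H1.map_thompsonSubgroup 2 f]
    exact map_mono hU.2
  refine le_antisymm (key e) fun x hx => ?_
  exact ⟨e.symm x, key e.symm ⟨x, hx, rfl⟩, e.apply_symm_apply x⟩

theorem jH_le (T : Subgroup G) : jH T ≤ T := map_subtype_le _

theorem normalizer_le_normalizer_jH [Finite G] (T : Subgroup G) :
    normalizer (T : Set G) ≤ normalizer ((jH T : Subgroup G) : Set G) := by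
  haveI : (Cfsg.jHat ↥T).Characteristic := characteristic_iff_map_eq.mpr fun e => map_jHat_equiv e
  exact H83.le_normalizer_map_of_characteristic le_rfl _

theorem jH_eq_sSup [Finite G] (T : Subgroup G) :
    jH T = sSup {U : Subgroup G | U ≤ T ∧ Cfsg.IsEGroup U ∧ Cfsg.thompsonSubgroupOf 2 T ≤ U} := by
  refine le_antisymm ?_ (sSup_le ?_)
  · rw [jH, map_le_iff_le_comap]
    refine sSup_le fun U hU => ?_
    rw [← map_le_iff_le_comap]
    exact le_sSup ⟨map_subtype_le U,
      isEGroup_of_equiv (U.equivMapOfInjective T.subtype T.subtype_injective) hU.1, map_mono hU.2⟩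
  · rintro U ⟨hUT, hUE, hJU⟩
    rw [← map_subgroupOf_eq_of_le hUT]
    refine map_mono (le_sSup ⟨isEGroup_of_equiv (subgroupOfEquivOfLe hUT).symm hUE, ?_⟩)
    intro x hx
    exact hJU ⟨x, hx, rfl⟩

/-- A subgroup with the E-group property is centralized by the largest elementary abelian subgroups. -/
theorem maxFam_le_centralizer [Finite G] {V S A : Subgroup G} (hV : Elem V) (hVS : V ≤ S)
    (hE : Marg V A) (hA : A ∈ H11.maxFam (fun A : Subgroup G => Cfsg.IsElementaryAbelian 2 A) S) :
    A ≤ centralizer (V : Set G) := by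
  have hAe := Cfsg.Agent.H9.SFree.Elem.of_isElem hA.2.1
  have h1 := hE A le_rfl (fun x hx => by rw [hAe.sq x hx]; exact one_mem _)
    (fun x hx y hy => by
      rw [hAe.comm x hx y hy, mul_inv_cancel_right, mul_inv_cancel]; exact one_mem _)
  rcases h1 with h1 | h1
  · exact (relIndex_eq_one.mp h1).trans inf_le_right
  · exfalso
    have h2 := offender_bound hV hVS hA
    set c := (A ⊓ centralizer (V : Set G)).relIndex A with hc
    have hpos : 0 < c := Nat.pos_of_ne_zero index_ne_zero_of_finite
    have h3 := h1.trans_le (Nat.pow_le_pow_left h2 2)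
    exact absurd h3 (not_lt.mpr (Nat.pow_le_pow_right hpos (by norm_num)))

/-- The Thompson subgroup is an E-group. -/
theorem isEGroup_thompson [Finite G] (S : Subgroup G) :
    Cfsg.IsEGroup ↥(Cfsg.thompsonSubgroupOf 2 S) := by
  rw [isEGroup_iff]
  set J := Cfsg.thompsonSubgroupOf 2 S with hJ
  intro V hVn hV hE
  have hJS : J ≤ S := H1.thompsonSubgroupOf_le 2 S
  set V' := V.map J.subtype with hV'
  have hV'e : Elem V' := (elem_map_iff _ J.subtype_injective V).mpr hV
  have hE' : EProp V' J := by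
    have := (eProp_map_iff J.subtype J.subtype_injective V ⊤).mpr hE
    rwa [← MonoidHom.range_eq_map, range_subtype] at this
  have hle : J ≤ centralizer (V' : Set G) := by
    conv_lhs => rw [hJ, H11.thompsonSubgroupOf_eq]
    refine sSup_le fun A hA => maxFam_le_centralizer hV'e ((map_subtype_le V).trans hJS)
      ((hE'.mono ?_).marg) hA
    rw [hJ, H11.thompsonSubgroupOf_eq]
    exact le_sSup hA
  intro v hv
  rw [Subgroup.mem_center_iff]
  intro g
  exact Subtype.ext (mem_centralizer_iff.mp (hle g.2) _ ⟨v, hv, rfl⟩).symm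

theorem thompson_le_jH [Finite G] (S : Subgroup G) : Cfsg.thompsonSubgroupOf 2 S ≤ jH S := by
  rw [jH_eq_sSup]
  exact le_sSup ⟨H1.thompsonSubgroupOf_le 2 S, isEGroup_thompson S, le_rfl⟩

end H74.Pair
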