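import Mathlib
import Cfsg.Agent.H74.Pair.EGroup

/-!
Transfer and joins for the margin property of E-groups.
-/

set_option autoImplicit false
set_option linter.all false

namespace H74.Pair

open Subgroup
open Cfsg.Agent.H9.SFree (Elem cj cj_mul cj_one conj_mem)

universe u

variable {G H : Type u} [Group G] [Group H] [Finite G] [Finite H]

theorem marg_map_iff (f : G →* H) (hf : Function.Injective f) (W T : Subgroup G) :
    Marg (W.map f) (T.map f) ↔ Marg W T := by
  have key : ∀ R : Subgroup G,
      (R.map f ⊓ centralizer ((W.map f : Subgroup H) : Set H)).relIndex (R.map f) =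
        (R ⊓ centralizer (W : Set G)).relIndex R ∧
      (W.map f ⊓ centralizer ((R.map f : Subgroup H) : Set H)).relIndex (W.map f) =
        (W ⊓ centralizer (R : Set G)).relIndex W := by
    intro R
    refine ⟨?_, ?_⟩
    · rw [← H74.inf_centralizer_map R W f hf, relIndex_map_map_of_injective _ _ hf]
    · rw [← H74.inf_centralizer_map W R f hf, relIndex_map_map_of_injective _ _ hf]
  constructor
  · intro h R hR hsq hcm
    obtain ⟨k1, k2⟩ := key R
    rw [← k1, ← k2]
    refine h (R.map f) (map_mono hR) ?_ ?_
    · rintro _ ⟨x, hx, rfl⟩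
      rw [← map_mul]
      exact (mem_centralizer_map hf).mpr (hsq x hx)
    · rintro _ ⟨x, hx, rfl⟩ _ ⟨y, hy, rfl⟩
      rw [← map_inv, ← map_inv, ← map_mul, ← map_mul, ← map_mul]
      exact (mem_centralizer_map hf).mpr (hcm x hx y hy)
  · intro h R' hR' hsq hcm
    set R := R'.comap f with hR
    have hRR' : R.map f = R' := map_comap_eq_self (hR'.trans (map_le_range f T))
    obtain ⟨k1, k2⟩ := key R
    rw [hRR'] at k1 k2
    rw [k1, k2]
    refine h R ?_ (fun x hx => (mem_centralizer_map hf).mp (by rw [map_mul]; exact hsq _ hx))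
      (fun x hx y hy => (mem_centralizer_map hf).mp (by
        rw [map_mul, map_mul, map_mul, map_inv, map_inv]; exact hcm _ hx _ hy))
    intro x hx
    obtain ⟨t, ht, he⟩ := hR' hx
    rwa [← hf he]

omit [Finite G] in
theorem Marg.mono {W T T' : Subgroup G} (h : Marg W T) (hle : T' ≤ T) : Marg W T' :=
  fun R hR => h R (hR.trans hle)

theorem Marg.conj {W T : Subgroup G} (h : Marg W T) (g : G) : Marg (cj g W) (cj g T) :=
  (marg_map_iff _ (MulAut.conj g).injective W T).mpr h

/-- The margin passes to a subgroup containing `W`. -/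
theorem Marg.subgroupOf {W T K : Subgroup G} (h : Marg W T) (hWK : W ≤ K) :
    Marg (W.subgroupOf K) (T.subgroupOf K) := by
  refine (marg_map_iff K.subtype K.subtype_injective _ _).mp ?_
  rw [subgroupOf_map_subtype, subgroupOf_map_subtype, inf_eq_left.mpr hWK]
  exact h.mono inf_le_left

omit [Finite G] in
/-- The margin for a single elementary abelian subgroup. -/
theorem Marg.elem {W T D : Subgroup G} (h : Marg W T) (hDT : D ≤ T) (hD : Elem D) :
    (D ⊓ centralizer (W : Set G)).relIndex D = 1 ∨
      (D ⊓ centralizer (W : Set G)).relIndex D ^ 3 <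
        (W ⊓ centralizer (D : Set G)).relIndex W ^ 2 :=
  h D hDT (fun x hx => by rw [hD.sq x hx]; exact one_mem _)
    (fun x hx y hy => by rw [hD.comm x hx y hy, mul_inv_cancel_right, mul_inv_cancel]; exact one_mem _)

/-- The margin passes to the join of a family. -/
theorem marg_iSup {ι : Type*} {Q V : Subgroup G} (Ws : ι → Subgroup G) (hV : V = ⨆ i, Ws i)
    (hM : ∀ i, Marg (Ws i) Q) : Marg V Q := by
  intro B
  induction hn : Nat.card B using Nat.strong_induction_on generalizing B with
  | _ n ih =>
    intro hBQ hsq hcm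
    subst hn
    have hiV : ∀ i, Ws i ≤ V := fun i => hV ▸ le_iSup Ws i
    by_cases hB : B ≤ centralizer (V : Set G)
    · left
      rw [inf_eq_left.mpr hB, relIndex_self]
    obtain ⟨i, hi⟩ : ∃ i, ¬ B ≤ centralizer (Ws i : Set G) := by
      by_contra hcon
      push Not at hcon
      apply hB
      rw [le_centralizer_iff, hV]
      exact iSup_le fun i => le_centralizer_iff.mp (hcon i)
    set B' := B ⊓ centralizer (Ws i : Set G) with hB'
    have hlt : Nat.card B' < Nat.card B := by
      refine lt_of_le_of_ne (card_le_of_le inf_le_left) fun he => hi ?_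
      rw [← eq_of_le_of_card_ge (inf_le_left : B' ≤ B) he.ge]
      exact inf_le_right
    have hCV : centralizer (V : Set G) ≤ centralizer (Ws i : Set G) :=
      centralizer_le (SetLike.coe_subset_coe.mpr (hiV i))
    have h1 := (hM i B hBQ (fun x hx => hCV (hsq x hx)) (fun x hx y hy => hCV (hcm x hx y hy))).resolve_left
      fun h => hi ((relIndex_eq_one.mp h).trans inf_le_right)
    have h2 := ih _ hlt B' rfl (inf_le_left.trans hBQ) (fun x hx => hsq x hx.1)
      (fun x hx y hy => hcm x hx.1 y hy.1)
    have h3 : (B ⊓ centralizer (V : Set G)).relIndex B =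
        (B' ⊓ centralizer (V : Set G)).relIndex B' * B'.relIndex B := by
      rw [relIndex_mul_relIndex _ _ _ inf_le_left inf_le_left]
      congr 1
      rw [inf_assoc, inf_eq_right.mpr hCV]
    set U := V ⊓ centralizer (B' : Set G) with hU
    have hle : V ⊓ centralizer (B : Set G) ≤ U :=
      inf_le_inf_left _ (centralizer_le (SetLike.coe_subset_coe.mpr inf_le_left))
    have h4 : (V ⊓ centralizer (B : Set G)).relIndex V =
        (V ⊓ centralizer (B : Set G)).relIndex U * U.relIndex V :=
      (relIndex_mul_relIndex _ U V hle inf_le_left).symm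
    have h5 : (Ws i ⊓ centralizer (B : Set G)).relIndex (Ws i) ≤
        (V ⊓ centralizer (B : Set G)).relIndex U := by
      have hWU : Ws i ≤ U := le_inf (hiV i) (le_centralizer_iff.mp inf_le_right)
      refine le_trans (le_of_eq ?_) (relIndex_le_of_le_right hWU index_ne_zero_of_finite)
      rw [← inf_relIndex_right (V ⊓ centralizer (B : Set G)) (Ws i)]
      congr 1
      rw [inf_right_comm, inf_eq_right.mpr (hiV i)]
    right
    rw [h3, h4, mul_pow, mul_pow]
    have h6 := h1.trans_le (Nat.pow_le_pow_left h5 2)
    have hpos : 0 < U.relIndex V ^ 2 := pow_pos (Nat.pos_of_ne_zero index_ne_zero_of_finite) 2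
    calc (B' ⊓ centralizer (V : Set G)).relIndex B' ^ 3 * B'.relIndex B ^ 3
        ≤ U.relIndex V ^ 2 * B'.relIndex B ^ 3 := Nat.mul_le_mul_right _ (by
          rcases h2 with h2 | h2
          · rw [h2, one_pow]; exact hpos
          · exact h2.le)
      _ < U.relIndex V ^ 2 * (V ⊓ centralizer (B : Set G)).relIndex U ^ 2 :=
          Nat.mul_lt_mul_of_pos_left h6 hpos
      _ = _ := mul_comm _ _

end H74.Pair
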