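import Mathlib
import Cfsg.Agent.H9.SFreeCore
import Cfsg.Agent.H74.Pair.Basic

/-!
An element inverted by an element of `W` moves a large part of `W ∩ Q`.
-/

set_option autoImplicit false
set_option linter.all false

namespace H74.Pair

open Subgroup
open scoped commutatorElement
open Cfsg.Agent.H9.SFree

universe u

variable {G : Type u} [Group G] [Finite G]

/-- A good element inverted modulo `Q` by `w ∈ W` moves at least `k ^ 2` of the conjugate of `W ∩ Q`. -/
theorem sq_le_moved {W Q : Subgroup G} {g w : G} {k : ℕ} (hQ : IsPGroup 2 Q) (hW : Elem W)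
    (hWQ : Q ≤ normalizer (W : Set G)) (hgQ : g ∈ normalizer (Q : Set G))
    (hwQ : w ∈ normalizer (Q : Set G)) (hgood : Good k g)
    (hgc : g ∉ centralizer (Q : Set G))
    (hinv : w * g * w⁻¹ * g ∈ Q) (hwW : w ∈ W) :
    k ^ 2 ≤ (cj g (W ⊓ Q) ⊓ centralizer (W : Set G)).relIndex (cj g (W ⊓ Q)) := by
  haveI : Fact (Nat.Prime 2) := ⟨Nat.prime_two⟩
  have hodd := hgood.coprime_six
  set D := W ⊓ Q with hD
  set D' := cj g D with hD'
  have hgeq : cj g Q = Q := cj_eq_of_mem hgQ
  have hD'Q : D' ≤ Q := (map_mono inf_le_right).trans hgeq.le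
  have hinj : Function.Injective (MulAut.conj g).toMonoidHom := (MulAut.conj g).injective
  set n' := (D' ⊓ centralizer (W : Set G)).relIndex D' with hn'
  -- the Frattini quotient of `Q`
  set Φ := (frattini ↥Q).map Q.subtype with hΦ
  have hΦQ : Φ ≤ Q := map_subtype_le _
  have hnΦ : normalizer (Q : Set G) ≤ normalizer (Φ : Set G) :=
    H83.le_normalizer_map_of_characteristic le_rfl _
  have hQΦ : Q ≤ normalizer (Φ : Set G) := le_normalizer.trans hnΦ
  haveI : (Φ.subgroupOf (normalizer (Φ : Set G))).Normal := normal_in_normalizer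
  set f := QuotientGroup.mk' (Φ.subgroupOf (normalizer (Φ : Set G))) with hf
  have hfk : ∀ z, f z = 1 ↔ (z : G) ∈ Φ := fun z => QuotientGroup.eq_one_iff z
  let g' : ↥(normalizer (Φ : Set G)) := ⟨g, hnΦ hgQ⟩
  let w' : ↥(normalizer (Φ : Set G)) := ⟨w, hnΦ hwQ⟩
  set X := (Q.subgroupOf (normalizer (Φ : Set G))).map f with hX
  have hE : Elem X := by
    constructor
    · rintro _ ⟨x, hx, rfl⟩ _ ⟨y, hy, rfl⟩
      have h : f (x * y * x⁻¹ * y⁻¹) = 1 := (hfk _).mpr
        ⟨⟨x, hx⟩ * ⟨y, hy⟩ * (⟨x, hx⟩ : Q)⁻¹ * (⟨y, hy⟩ : Q)⁻¹,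
          H6.commutator_le_frattini hQ (by
            rw [commutator_def, ← commutatorElement_def]
            exact commutator_mem_commutator (mem_top _) (mem_top _)), rfl⟩
      rw [map_mul, map_mul, map_mul, map_inv, map_inv, mul_inv_eq_one, mul_inv_eq_iff_eq_mul] at h
      exact h
    · rintro _ ⟨x, hx, rfl⟩
      rw [← map_mul]
      refine (hfk _).mpr ⟨(⟨x, hx⟩ : Q) ^ 2, H6.pow_prime_mem_frattini hQ _, ?_⟩
      rw [pow_two]; rfl
  have hnorm : ∀ h : ↥(normalizer (Φ : Set G)), (h : G) ∈ normalizer (Q : Set G) →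
      f h ∈ normalizer (X : Set _) := by
    intro h hh
    apply mem_normalizer_fintype
    rintro _ ⟨x, hx, rfl⟩
    refine ⟨h * x * h⁻¹, conj_mem (X := Q) hh hx, ?_⟩
    rw [map_mul, map_mul, map_inv]
  have hgX := hnorm g' hgQ
  have hwX := hnorm w' hwQ
  have hoq : Nat.Coprime (orderOf (f g')) 6 :=
    hodd.coprime_dvd_left ((orderOf_map_dvd f g').trans (by rw [← Subgroup.orderOf_coe]))
  have hdq : f w' * f g' * (f w')⁻¹ * f g' ∈ centralizer (X : Set _) := by
    rw [← map_inv, ← map_mul, ← map_mul, ← map_mul, mem_centralizer_iff]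
    intro x hx
    exact hE.comm x hx _ ⟨_, hinv, rfl⟩
  have hw2 : f w' * f w' ∈ centralizer (X : Set _) := by
    rw [← map_mul, show w' * w' = 1 from Subtype.ext (hW.sq w hwW), map_one]
    exact one_mem _
  set K := (dispHom hE hgX).range with hK
  obtain ⟨hgK, hwK, hfix⟩ := disp_fpf hE hgX hwX hoq hdq
  have hKX : K ≤ X := dispHom_range_le hE hgX
  have hK0 : K ≠ ⊥ := by
    intro hK0
    apply hgc
    have hmap : cj g Q = Q := hgeq
    let α : MulAut Q := (Q.equivMapOfInjective (MulAut.conj g).toMonoidHom hinj).trans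
      (MulEquiv.subgroupCongr hmap)
    have hα : ∀ x : Q, (α x : G) = g * x * g⁻¹ := fun x => rfl
    have hαx : ∀ x : Q, x⁻¹ * α x ∈ frattini ↥Q := by
      intro x
      have hxN : (x : G) ∈ normalizer (Φ : Set G) := hQΦ x.2
      have hin : f g' * f ⟨x, hxN⟩ * (f g')⁻¹ * (f ⟨x, hxN⟩)⁻¹ ∈ K :=
        ⟨⟨f ⟨x, hxN⟩, ⟨_, x.2, rfl⟩⟩, rfl⟩
      rw [hK0, mem_bot, ← map_inv, ← map_inv, ← map_mul, ← map_mul, ← map_mul, hfk] at hin
      obtain ⟨y, hy, hy'⟩ := hin
      have e : y = α x * x⁻¹ := Subtype.ext (by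
        rw [Subgroup.coe_mul, hα, Subgroup.coe_inv]; exact hy')
      rw [e] at hy
      haveI := frattini_characteristic (G := ↥Q)
      have := (Subgroup.normal_of_characteristic (frattini ↥Q)).conj_mem _ hy x⁻¹
      convert this using 1
      group
    have hp := H87.isPGroup_of_trivial_mod_frattini hQ (zpowers α) (fun β hβ x => by
      let U : Subgroup (MulAut Q) :=
        { carrier := {β | ∀ x : Q, x⁻¹ * β x ∈ frattini ↥Q}
          one_mem' := fun x => by simp
          mul_mem' := fun {β γ} hb hc x => by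
            have e : x⁻¹ * (β * γ) x = (x⁻¹ * γ x) * ((γ x)⁻¹ * β (γ x)) := by
              rw [MulAut.mul_apply]; group
            rw [e]; exact mul_mem (hc x) (hb _)
          inv_mem' := fun {β} hb x => by
            have := inv_mem (hb (β⁻¹ x))
            rw [MulAut.apply_inv_self, mul_inv_rev, inv_inv] at this
            exact this }
      exact (zpowers_le.mpr (show α ∈ U from hαx) hβ) x)
    have hαn : α ^ orderOf g = 1 := by
      have hp' : ∀ i : ℕ, ∀ x : Q, ((α ^ i) x : G) = g ^ i * x * (g ^ i)⁻¹ := by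
        intro i
        induction i with
        | zero => intro x; simp
        | succ i ih => intro x; rw [pow_succ', MulAut.mul_apply, hα, ih, pow_succ']; group
      refine MulEquiv.ext fun x => Subtype.ext ?_
      rw [hp', pow_orderOf_eq_one, MulAut.one_apply]
      simp
    obtain ⟨k, hk⟩ := IsPGroup.iff_orderOf.mp hp ⟨α, mem_zpowers α⟩
    rw [Subgroup.orderOf_mk] at hk
    have hα1 : α = 1 := orderOf_eq_one_iff.mp (Nat.eq_one_of_dvd_coprimes
      (Nat.Coprime.pow_right k (hodd.coprime_dvd_right (by norm_num)))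
      (orderOf_dvd_of_pow_eq_one hαn) hk.dvd)
    rw [mem_centralizer_iff]
    intro x hx
    have := congrArg (fun β : MulAut Q => ((β ⟨x, hx⟩ : Q) : G)) hα1
    simp only [MulAut.one_apply] at this
    rw [hα] at this
    exact (mul_inv_eq_iff_eq_mul.mp this).symm
  obtain ⟨hdis, hT, -, -⟩ := fpf_structure (hE.mono hKX) hgK hwK hoq
    (centralizer_le (SetLike.coe_subset_coe.mpr hKX) hdq)
    (centralizer_le (SetLike.coe_subset_coe.mpr hKX) hw2) hfix
  set T := (dispHom (hE.mono hKX) hwK).range with hTdef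
  set T' := cj (f g') T with hT'
  have hgood' : Good k (f g') :=
    (hgood.of_pow_eq (y' := g') fun n hn => Subtype.ext hn).map f
  have hT'card : k ^ 2 ≤ Nat.card T' := by
    rw [hT', cj, card_map_of_injective (MulAut.conj (f g')).injective, hT]
    exact sq_le_card_fixed (hE.mono hKX) hgood' hgK hwK
      (centralizer_le (SetLike.coe_subset_coe.mpr hKX) hdq)
      (centralizer_le (SetLike.coe_subset_coe.mpr hKX) hw2) hfix hK0
  have hTD : T ≤ (D.subgroupOf (normalizer (Φ : Set G))).map f := by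
    rintro _ ⟨⟨_, hs⟩, rfl⟩
    obtain ⟨q, hq, rfl⟩ := hKX hs
    have hq' : (q : G) ∈ Q := hq
    refine ⟨w' * q * w'⁻¹ * q⁻¹, mem_inf.mpr (show _ ∧ _ from
      ⟨?_, (show w * (q : G) * w⁻¹ * (q : G)⁻¹ ∈ Q from mul_mem (conj_mem hwQ hq') (inv_mem hq'))⟩), ?_⟩
    · show w * (q : G) * w⁻¹ * (q : G)⁻¹ ∈ W
      rw [show w * (q : G) * w⁻¹ * (q : G)⁻¹ = w * ((q : G) * w⁻¹ * (q : G)⁻¹) by group]
      exact mul_mem hwW (conj_mem (hWQ hq') (inv_mem hwW))
    · rw [map_mul, map_mul, map_mul, map_inv, map_inv]; rfl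
  have hT'D : T' ≤ (D'.subgroupOf (normalizer (Φ : Set G))).map f := by
    rintro _ ⟨t, ht, rfl⟩
    obtain ⟨d, hd, rfl⟩ := hTD ht
    refine ⟨g' * d * g'⁻¹, conj_mem_cj hd, ?_⟩
    rw [map_mul, map_mul, map_inv]; rfl
  set Cw := centralizer ({f w'} : Set _) with hCw
  have hT'C : Cw.relIndex T' = Nat.card T' := by
    rw [← inf_relIndex_right, show Cw ⊓ T' = ⊥ from ?_, relIndex_bot_left]
    rw [eq_bot_iff]
    rintro _ ⟨hxC, t, ht, rfl⟩
    have htC : t ∈ K ⊓ centralizer ({f w'} : Set _) := hT ▸ ht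
    have := hdis t htC.1 (mem_centralizer_singleton'.mp htC.2) (mem_centralizer_singleton'.mp hxC)
    rw [this, map_one]; exact one_mem _
  have hle : Cw.relIndex T' ≤ n' := by
    refine le_trans (relIndex_le_of_le_right hT'D index_ne_zero_of_finite) ?_
    rw [← relIndex_comap, hn']
    have h3 : D' ≤ normalizer (Φ : Set G) := hD'Q.trans hQΦ
    rw [← relIndex_subgroupOf (H := D' ⊓ centralizer (W : Set G)) h3]
    refine relIndex_le_of_le_left ?_ index_ne_zero_of_finite
    intro x hx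
    rw [mem_comap, hCw, mem_centralizer_singleton_iff, ← map_mul, ← map_mul]
    congr 1
    exact Subtype.ext (mem_centralizer_iff.mp hx.2 w hwW).symm
  exact hT'card.trans (hT'C ▸ hle)

end H74.Pair
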