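import Mathlib
import Cfsg.Agent.H74.Pair.Marg
import Cfsg.Agent.H74.Pair.Step
import Cfsg.Agent.H74.Pair.Gain
import Cfsg.Agent.H74.Pair.Exists
import Cfsg.Agent.H74.Pair.Inherit
import Cfsg.Agent.H32.Sylow
import Cfsg.Agent.H1.BGDecomp
import Cfsg.Agent.S0205

/-!
A subgroup with the E-group margin centralized by the Thompson subgroup is centralized by all
conjugates of the Thompson subgroup.
-/

set_option autoImplicit false
set_option linter.all false

namespace H74.Pair

open Subgroup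
open scoped commutatorElement
open Cfsg.Agent.H9.SFree (Elem cj cj_mul cj_one cj_centralizer cj_eq_of_mem mem_cj conj_mem conj_mem'
  conj_mem_cj relIndex_cj elem_iSup le_of_le_sup_commutator offender_bound dispHom)

universe u

section structure_lemmas

variable {G : Type u} [Group G] [Finite G]

/-- The generalized Fitting condition in characteristic two. -/
abbrev Constr (G : Type u) [Group G] : Prop :=
  centralizer (Cfsg.pCore 2 G : Set G) ≤ Cfsg.pCore 2 G

/-- No section is a symmetric group of degree four. -/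
abbrev S4Free (G : Type u) [Group G] : Prop :=
  ¬ Cfsg.Involves (Equiv.Perm (Fin 4)) G

theorem constr_of_sylow_le (hc : Constr G) (S : Sylow 2 G) {K : Subgroup G}
    (hSK : (S : Subgroup G) ≤ K) : Constr K := by
  haveI := H1.pCore_normal' 2 G
  have hQK : Cfsg.pCore 2 G ≤ K := (H1.pCore_le_sylow S).trans hSK
  have hle : (Cfsg.pCore 2 G).subgroupOf K ≤ Cfsg.pCore 2 K :=
    H1.le_pCore ((H1.isPGroup_pCore 2 G).comap_of_injective K.subtype K.subtype_injective)
  intro x hx
  refine hle ?_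
  rw [mem_subgroupOf]
  refine hc (mem_centralizer_iff.mpr fun q hq => ?_)
  exact congrArg Subtype.val (mem_centralizer_iff.mp hx ⟨q, hQK hq⟩ (hle hq))

theorem constr_of_normal (hc : Constr G) (L : Subgroup G) [L.Normal] : Constr L := by
  haveI : Fact (Nat.Prime 2) := ⟨Nat.prime_two⟩
  set Q := Cfsg.pCore 2 G with hQ
  haveI := H1.pCore_normal' 2 G
  haveI := H1.pCore_normal' 2 L
  have hle : Q.subgroupOf L ≤ Cfsg.pCore 2 L :=
    H1.le_pCore ((H1.isPGroup_pCore 2 G).comap_of_injective L.subtype L.subtype_injective)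
  have h2 : IsPGroup 2 (centralizer (Cfsg.pCore 2 L : Set L)) := by
    intro x
    obtain ⟨k, hk⟩ := H75.exists_pow_coprime (p := 2) ((x : L) : G)
    refine ⟨k, ?_⟩
    set z := ((x : L) : G) ^ 2 ^ k with hz
    have hzx : (((x ^ 2 ^ k : centralizer (Cfsg.pCore 2 L : Set L)) : L) : G) = z := by simp [hz]
    have hcom : ∀ b ∈ Q ⊓ L, Commute z b := by
      intro b hb
      rw [← hzx]
      exact (congrArg Subtype.val (mem_centralizer_iff.mp (x ^ 2 ^ k).2 ⟨b, hb.2⟩ (hle hb.1))).symm
    have hzL : z ∈ L := hzx ▸ ((x ^ 2 ^ k : centralizer (Cfsg.pCore 2 L : Set L)) : L).2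
    have hall := H75.commute_of_stabilize ((H1.isPGroup_pCore 2 G).to_le (inf_le_left : Q ⊓ L ≤ Q)) hk
      (A := Q) (fun a ha => mem_inf.mpr ⟨by
        rw [commutatorElement_def]
        exact mul_mem ((inferInstance : Q.Normal).conj_mem _ ha z) (inv_mem ha), by
        rw [commutatorElement_def, mul_assoc, mul_assoc, ← mul_assoc a]
        exact mul_mem hzL ((inferInstance : L.Normal).conj_mem _ (inv_mem hzL) a)⟩) hcom
    have hzQ : z ∈ Q := hc (mem_centralizer_iff.mpr fun q hq => (hall q hq).eq.symm)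
    obtain ⟨m, hm⟩ := IsPGroup.iff_orderOf.mp (H1.isPGroup_pCore 2 G) ⟨z, hzQ⟩
    rw [Subgroup.orderOf_mk] at hm
    have h1 : z = 1 := orderOf_eq_one_iff.mp
      (Nat.eq_one_of_dvd_coprimes (Nat.Coprime.pow_right m hk) dvd_rfl hm.dvd)
    exact Subtype.ext (Subtype.ext (hzx.trans h1))
  exact H1.le_pCore h2

theorem s3free_quotient (hc : Constr G) (hfree : S4Free G) :
    haveI := H1.pCore_normal' 2 G
    ¬ Cfsg.Involves (Equiv.Perm (Fin 3)) (G ⧸ Cfsg.pCore 2 G) := by
  haveI := H1.pCore_normal' 2 G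
  intro hS3
  apply hfree
  set N := Cfsg.pCore 2 G with hN
  refine H74.S4Section.symm_four_of_automizer (H1.isPGroup_pCore 2 G) (T := N) ?_
  set U := normalizer (N : Set G) with hU
  have hle : (centralizer (N : Set G)).subgroupOf U ≤
      ((QuotientGroup.mk' N).comp U.subtype).ker := by
    intro x hx
    rw [MonoidHom.mem_ker]
    exact (QuotientGroup.eq_one_iff _).mpr (hc hx)
  haveI hn : ((centralizer (N : Set G)).subgroupOf U).Normal := normal_subgroupOf
  set φ := QuotientGroup.lift ((centralizer (N : Set G)).subgroupOf U)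
    ((QuotientGroup.mk' N).comp U.subtype) hle with hφ
  have hsurj : Function.Surjective φ := by
    intro z
    obtain ⟨x, rfl⟩ := QuotientGroup.mk'_surjective N z
    exact ⟨QuotientGroup.mk' _ ⟨x, by rw [hU, normalizer_eq_top]; exact mem_top x⟩, rfl⟩
  haveI : φ.ker.Normal := inferInstance
  exact H74.JA.involves_quotient
    (H74.JA.involves_of_equiv (QuotientGroup.quotientKerEquivOfSurjective φ hsurj).symm hS3)

theorem CompK.of_equiv {A B : Type u} [Group A] [Group B] (hc : CompK A) (e : A ≃* B) : CompK B :=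
  hc.of_surjective e.toMonoidHom e.surjective

theorem isSolvable_of_two_group {A : Type u} [Group A] [Finite A] (h : IsPGroup 2 A) :
    Group.IsSolvable A := by
  haveI : Fact (Nat.Prime 2) := ⟨Nat.prime_two⟩
  haveI := h.isNilpotent
  infer_instance

theorem compK_sup (hc : CompK G) (N : Subgroup G) [N.Normal] {T : Subgroup G} (hT : IsPGroup 2 T) :
    CompK ↥(N ⊔ T) := by
  set f := (QuotientGroup.mk' N).comp (N ⊔ T).subtype with hf
  have hker : N.subgroupOf (N ⊔ T) = f.ker := by
    rw [hf, ← MonoidHom.comap_ker, QuotientGroup.ker_mk']; rfl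
  refine compK_ext f ((hc.of_normal N).of_equiv
    ((subgroupOfEquivOfLe le_sup_left).symm.trans (MulEquiv.subgroupCongr hker))) ?_
  have hr : f.range = T.map (QuotientGroup.mk' N) := by
    rw [hf, MonoidHom.range_comp, range_subtype, Subgroup.map_sup, QuotientGroup.map_mk'_self,
      bot_sup_eq]
  haveI : Group.IsSolvable f.range := by
    rw [hr]
    exact isSolvable_of_two_group (hT.map _)
  exact compK_of_isSolvable

theorem compK_normalizer_trace (hc : CompK G) (N : Subgroup G) [N.Normal] (S : Sylow 2 G) :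
    CompK ↥(normalizer ((N ⊓ (S : Subgroup G) : Subgroup G) : Set G)) := by
  haveI : Fact (Nat.Prime 2) := ⟨Nat.prime_two⟩
  set T := N ⊓ (S : Subgroup G) with hT
  set K := normalizer (T : Set G) with hK
  set f := (QuotientGroup.mk' N).comp K.subtype with hf
  have hker : N.subgroupOf K = f.ker := by
    rw [hf, ← MonoidHom.comap_ker, QuotientGroup.ker_mk']; rfl
  have hfrat : K ⊔ N = ⊤ := by
    rw [hK, hT, inf_comm]; exact H32.frattini_inf S N
  have hrange : f.range = ⊤ := by
    rw [hf, MonoidHom.range_comp, range_subtype]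
    have := congrArg (Subgroup.map (QuotientGroup.mk' N)) hfrat
    rwa [Subgroup.map_sup, QuotientGroup.map_mk'_self, sup_bot_eq,
      Subgroup.map_top_of_surjective _ (QuotientGroup.mk'_surjective N)] at this
  set M := N ⊓ K with hM
  have hMsol : Group.IsSolvable M := by
    haveI : (T.subgroupOf M).Normal := normal_subgroupOf_of_le_normalizer inf_le_right
    have hodd : Odd (Nat.card (M ⧸ T.subgroupOf M)) := by
      rw [Nat.odd_iff]
      have h1 : T.relIndex M ∣ T.relIndex N := by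
        have hTM : T ≤ M := le_inf inf_le_left le_normalizer
        exact Dvd.intro _ (relIndex_mul_relIndex T M N hTM inf_le_left)
      have h2 : ¬ 2 ∣ T.relIndex N := by
        rw [hT, inf_relIndex_left]; exact H32.sylow_relIndex_normal_not_dvd S N
      change (T.relIndex M) % 2 = 1
      by_contra h
      exact h2 ((Nat.dvd_of_mod_eq_zero (by omega)).trans h1)
    haveI := Cfsg.Agent.S0205.result hodd
    haveI : Group.IsSolvable (T.subgroupOf M) := isSolvable_of_two_group
      ((S.isPGroup'.to_le (inf_le_right : T ≤ _)).comap_of_injective M.subtype M.subtype_injective)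
    exact Group.isSolvable_of_ker_le_range (T.subgroupOf M).subtype
      (QuotientGroup.mk' (T.subgroupOf M)) (by rw [QuotientGroup.ker_mk', range_subtype])
  haveI : Group.IsSolvable f.ker := by
    haveI := hMsol
    have hMK : M.subgroupOf K = f.ker := by rw [← hker, hM, inf_subgroupOf_right]
    exact Group.isSolvable_of_surjective (f := ((subgroupOfEquivOfLe (inf_le_right : M ≤ K)).symm.trans
      (MulEquiv.subgroupCongr hMK)).toMonoidHom) (MulEquiv.surjective _)
  refine compK_ext f compK_of_isSolvable ?_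
  exact (hc.of_surjective (QuotientGroup.mk' N) (QuotientGroup.mk'_surjective N)).of_equiv
    (Subgroup.topEquiv.symm.trans (MulEquiv.subgroupCongr hrange.symm))

omit [Finite G] in
theorem thompson_inf [Finite G] {S K : Subgroup G} (h : Cfsg.thompsonSubgroupOf 2 S ≤ K) :
    Cfsg.thompsonSubgroupOf 2 (S ⊓ K) = Cfsg.thompsonSubgroupOf 2 S := by
  rw [H11.thompsonSubgroupOf_eq] at h ⊢
  rw [H11.thompsonSubgroupOf_eq]
  obtain ⟨A0, hA0⟩ := H11.maxFam_nonempty (H11.replProp_elem (G := G) 2).bot S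
  have hin : ∀ A ∈ H11.maxFam (fun A : Subgroup G => Cfsg.IsElementaryAbelian 2 A) S, A ≤ S ⊓ K :=
    fun A hA => le_inf hA.1 ((le_sSup hA).trans h)
  congr 1
  exact Set.Subset.antisymm (H11.maxFam_subset_of_mem inf_le_left hA0 (hin A0 hA0))
    fun A hA => H11.mem_maxFam_of_mem inf_le_left hA (hin A hA)

end structure_lemmas

section steps

variable {G : Type u} [Group G] [Finite G] (hc0 : Constr G) (hfree : S4Free G) (hc : CompK G)
  (S : Sylow 2 G) {W : Subgroup G} (hW : Elem W) (hWS : W ≤ (S : Subgroup G))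
  (hSW : (S : Subgroup G) ≤ normalizer (W : Set G)) (hM : Marg W (S : Subgroup G))

include hc0 hfree hc hW hWS hSW hM in
/-- `W` lies in `O₂(G)`. -/
theorem le_pCore_of_marg : W ≤ Cfsg.pCore 2 G := by
  haveI : Fact (Nat.Prime 2) := ⟨Nat.prime_two⟩
  by_contra hnot
  set Q := Cfsg.pCore 2 G with hQdef
  haveI := H1.pCore_normal' 2 G
  set π := QuotientGroup.mk' Q with hπ
  have hπ1 : ∀ z, π z = 1 ↔ z ∈ Q := fun z => QuotientGroup.eq_one_iff z
  have hWe : Elem (W.map π) := Elem.map hW π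
  obtain ⟨B, ab, yb, hBW, haW, hy1, hBy, hinv, hgood⟩ := exists_pair H10.pCore_quotient_pCore
    (s3free_quotient hc0 hfree) (hc.of_surjective π (QuotientGroup.mk'_surjective Q)) hWe (by
      rw [Ne, Subgroup.map_eq_bot_iff, hπ, QuotientGroup.ker_mk']; exact hnot)
  obtain ⟨a, haW', rfl⟩ := haW
  set k := B.relIndex (W.map π) with hk
  -- the lift
  obtain ⟨hk2, r, hr, h5, ⟨e, he⟩, hj⟩ := id hgood
  obtain ⟨y0, hy0⟩ := QuotientGroup.mk'_surjective Q yb
  obtain ⟨i, hi⟩ : ∃ i, (y0 ^ r ^ e) ^ 2 ^ i = 1 := by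
    have hm : y0 ^ r ^ e ∈ Q := (hπ1 _).mp (by rw [map_pow, hy0, he])
    obtain ⟨i, hi⟩ := H1.isPGroup_pCore 2 G ⟨_, hm⟩
    exact ⟨i, congrArg Subtype.val hi⟩
  set y := y0 ^ 2 ^ i with hy
  have hgy : Good k y := ⟨hk2, r, hr, h5, ⟨e, by rw [hy, ← pow_mul, mul_comm, pow_mul, hi]⟩, hj⟩
  have hπy : π y = yb ^ 2 ^ i := by rw [hy, map_pow, hy0]
  have hπy1 : π y ≠ 1 := by
    rw [hπy]
    intro h
    exact hy1 (orderOf_eq_one_iff.mp (Nat.eq_one_of_dvd_coprimes
      (Nat.Coprime.pow_right i hgood.coprime_two) dvd_rfl (orderOf_dvd_of_pow_eq_one h)))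
  have hinv' : π a * π y * (π a)⁻¹ = (π y)⁻¹ := by rw [hπy, ← conj_pow, hinv, inv_pow]
  have hk1 : 2 ≤ k := by
    have hpos : 0 < k := hgood.pos
    by_contra hlt
    have hB : W.map π ≤ B := relIndex_eq_one.mp (show k = 1 by omega)
    have h1 : yb = yb⁻¹ := by
      conv_rhs => rw [← hinv, hBy _ (hB ⟨a, haW', rfl⟩), mul_inv_cancel_right]
    have h2 : yb ^ 2 = 1 := by rw [pow_two]; exact eq_inv_iff_mul_eq_one.mp h1
    exact hy1 (orderOf_eq_one_iff.mp (Nat.eq_one_of_dvd_coprimes hgood.coprime_two dvd_rfl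
      (orderOf_dvd_of_pow_eq_one h2)))
  set P := B.comap π with hP
  have hQP : Q ≤ P := fun q hq => by rw [hP, mem_comap, (hπ1 q).mpr hq]; exact one_mem _
  have hPS : P ≤ (S : Subgroup G) := by
    intro z hz
    obtain ⟨w, hw, hwe⟩ := hBW hz
    have h1 : w⁻¹ * z ∈ Q := (hπ1 _).mp (by rw [map_mul, map_inv, hwe, inv_mul_cancel])
    simpa using mul_mem (hWS hw) (H1.pCore_le_sylow S h1)
  have hnorm : ∀ h : G, (∀ b ∈ B, π h * b * (π h)⁻¹ = b) → h ∈ normalizer (P : Set G) := by
    intro h hh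
    apply mem_normalizer_fintype
    intro z hz
    show π (h * z * h⁻¹) ∈ B
    rw [map_mul, map_mul, map_inv, hh _ hz]
    exact hz
  have hyP : y ∈ normalizer (P : Set G) := hnorm y fun b hb => by
    rw [hπy, mul_inv_eq_iff_eq_mul]
    exact ((show Commute b yb from hBy b hb).pow_right _).eq.symm
  have haP : a ∈ normalizer (P : Set G) := hnorm a fun b hb => by
    rw [hWe.comm _ ⟨a, haW', rfl⟩ b (hBW hb), mul_inv_cancel_right]
  have hyc : y ∉ centralizer (P : Set G) := fun h =>
    hπy1 ((hπ1 y).mpr (hc0 (centralizer_le (SetLike.coe_subset_coe.mpr hQP) h)))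
  have hay : a * y * a⁻¹ * y ∈ P := by
    show π (a * y * a⁻¹ * y) ∈ B
    rw [map_mul, map_mul, map_mul, map_inv, hinv', inv_mul_cancel]
    exact one_mem _
  set D := W ⊓ P with hD
  set W' := cj y W with hW'
  set D' := cj y D with hD'
  have hDk : D.relIndex W = k := by rw [hD, inf_relIndex_left, hP, relIndex_comap]
  have hD'k : D'.relIndex W' = k := by rw [hD', hW', relIndex_cj, hDk]
  have hD'P : D' ≤ P := (map_mono inf_le_right).trans (cj_eq_of_mem hyP).le
  have hW'e : Elem W' := Elem.map hW _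
  set n' := (D' ⊓ centralizer (W : Set G)).relIndex D' with hn'
  set n := (D ⊓ centralizer (W' : Set G)).relIndex D with hn
  have hlow : k ^ 2 ≤ n' :=
    sq_le_moved (S.isPGroup'.to_le hPS) hW (hPS.trans hSW) hyP haP hgy hyc hay haW'
  have hMW' : Marg W' P := by
    have := (hM.mono hPS).conj y
    rwa [cj_eq_of_mem hyP] at this
  have bound : ∀ (W₁ W₂ D₁ D₂ : Subgroup G), D₁ ≤ P → Elem W₂ → D₁ ≤ W₂ → Marg W₁ P → D₂ ≤ W₁ →
      D₂.relIndex W₁ = k → (D₁ ⊓ centralizer (W₁ : Set G)).relIndex D₁ = 1 ∨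
        (D₁ ⊓ centralizer (W₁ : Set G)).relIndex D₁ ^ 3 <
          ((D₂ ⊓ centralizer (W₂ : Set G)).relIndex D₂ * k) ^ 2 := by
    intro W₁ W₂ D₁ D₂ hD₁ hE₂ hD₁W hM₁ hD₂ h2
    refine (hM₁.elem hD₁ (hE₂.mono hD₁W)).imp_right fun h => h.trans_le (Nat.pow_le_pow_left ?_ 2)
    calc (W₁ ⊓ centralizer (D₁ : Set G)).relIndex W₁
        ≤ (D₂ ⊓ centralizer (W₂ : Set G)).relIndex W₁ :=
          relIndex_le_of_le_left (inf_le_inf hD₂ (centralizer_le (SetLike.coe_subset_coe.mpr hD₁W)))
            index_ne_zero_of_finite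
      _ = (D₂ ⊓ centralizer (W₂ : Set G)).relIndex D₂ * D₂.relIndex W₁ :=
          (relIndex_mul_relIndex _ _ _ inf_le_left hD₂).symm
      _ = _ := by rw [h2]
  have hk4 : 4 ≤ k ^ 2 := by
    calc 4 = 2 ^ 2 := by norm_num
      _ ≤ _ := Nat.pow_le_pow_left hk1 2
  have hnpos : 0 < n := Nat.pos_of_ne_zero index_ne_zero_of_finite
  rcases bound W W' D' D hD'P hW'e (map_mono inf_le_left) (hM.mono hPS) inf_le_left hDk with h | h
  · rw [← hn'] at h
    omega
  rw [← hn', ← hn] at h
  -- `n' ^ 3 < (n * k) ^ 2` with `k ^ 2 ≤ n'`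
  have hnn : k ^ 2 < n ^ 2 ∧ n' ^ 2 < n ^ 2 := by
    have h1 : k ^ 2 * n' ^ 2 < k ^ 2 * n ^ 2 := by
      calc k ^ 2 * n' ^ 2 ≤ n' * n' ^ 2 := Nat.mul_le_mul_right _ hlow
        _ = n' ^ 3 := by ring
        _ < _ := h
        _ = _ := by ring
    have h2 := Nat.lt_of_mul_lt_mul_left h1
    refine ⟨lt_of_le_of_lt (Nat.pow_le_pow_left ?_ 2) h2, h2⟩
    exact le_trans (by nlinarith : k ≤ k ^ 2) hlow
  have hkn : k ^ 2 ≤ n := by
    have := lt_of_pow_lt_pow_left₀ 2 (Nat.zero_le _) hnn.2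
    omega
  rcases bound W' W D D' inf_le_right hW inf_le_left hMW' (map_mono inf_le_left) hD'k with h' | h'
  · rw [← hn] at h'
    omega
  rw [← hn', ← hn] at h'
  have hmul : (n * n') * (n * n') ^ 2 < k ^ 4 * (n * n') ^ 2 := by
    calc (n * n') * (n * n') ^ 2 = n ^ 3 * n' ^ 3 := by ring
      _ < (n' * k) ^ 2 * (n * k) ^ 2 := Nat.mul_lt_mul'' h' h
      _ = _ := by ring
  have h4 := Nat.lt_of_mul_lt_mul_right hmul
  have h5 : k ^ 4 ≤ n * n' := by
    rw [show 4 = 2 + 2 from rfl, pow_add]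
    exact Nat.mul_le_mul hkn hlow
  omega

include hW hM in
/-- Conjugates of `W` commute once they lie in `O₂(G)`. -/
theorem conj_comm_of_le_pCore (hWQ : W ≤ Cfsg.pCore 2 G) (x y : G) :
    cj x W ≤ centralizer (cj y W : Set G) := by
  haveI := H1.pCore_normal' 2 G
  suffices h : ∀ z : G, cj z W ≤ centralizer (W : Set G) by
    have h2 := map_mono (f := (MulAut.conj y).toMonoidHom) (h (y⁻¹ * x))
    change cj y (cj (y⁻¹ * x) W) ≤ cj y (centralizer (W : Set G)) at h2
    rwa [← cj_mul, mul_inv_cancel_left, cj_centralizer] at h2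
  intro z
  have hQz : cj z (Cfsg.pCore 2 G) = Cfsg.pCore 2 G := cj_eq_of_mem (by
    rw [normalizer_eq_top]; exact mem_top z)
  have hQS := H1.pCore_le_sylow S
  have h1 := hM.elem (D := cj z W) (((map_mono hWQ).trans hQz.le).trans hQS) (Elem.map hW _)
  have h2 := (hM.conj z).elem (D := W) ((hWQ.trans hQz.ge).trans (map_mono hQS)) hW
  set n := (cj z W ⊓ centralizer (W : Set G)).relIndex (cj z W)
  set m := (W ⊓ centralizer (cj z W : Set G)).relIndex W
  have hn : 0 < n := Nat.pos_of_ne_zero index_ne_zero_of_finite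
  have hn1 : n = 1 := by
    rcases h1 with h1 | h1
    · exact h1
    rcases h2 with h2 | h2
    · rw [h2, one_pow] at h1
      have := pow_pos hn 3
      omega
    · have hmul : (n * m) * (n * m) ^ 2 < 1 * (n * m) ^ 2 := by
        calc (n * m) * (n * m) ^ 2 = n ^ 3 * m ^ 3 := by ring
          _ < m ^ 2 * n ^ 2 := Nat.mul_lt_mul'' h1 h2
          _ = _ := by ring
      have h3 := Nat.lt_of_mul_lt_mul_right hmul
      have hm : 0 < m := Nat.pos_of_ne_zero index_ne_zero_of_finite
      have := Nat.mul_pos hn hm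
      omega
  exact (relIndex_eq_one.mp hn1).trans inf_le_right

include hc0 hfree hc hW hWS hSW hM in
/-- The case where every proper overgroup of `S` is controlled. -/
theorem thompson_le_of_reduced
    (hP : ∀ N : Subgroup G, N.Normal → Cfsg.pCore 2 G ≤ N → N ⊔ (S : Subgroup G) ≠ ⊤ →
      N ⊓ (S : Subgroup G) ≤ Cfsg.pCore 2 G)
    (hJW : Cfsg.thompsonSubgroupOf 2 (S : Subgroup G) ≤ centralizer (W : Set G)) :
    ∀ x : G, cj x (Cfsg.thompsonSubgroupOf 2 (S : Subgroup G)) ≤ centralizer (W : Set G) := by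
  haveI : Fact (Nat.Prime 2) := ⟨Nat.prime_two⟩
  set Q := Cfsg.pCore 2 G with hQdef
  haveI := H1.pCore_normal' 2 G
  have hQS : Q ≤ (S : Subgroup G) := H1.pCore_le_sylow S
  have hWQ : W ≤ Q := le_pCore_of_marg hc0 hfree hc S hW hWS hSW hM
  have hQc : ∀ x : G, cj x Q = Q := fun x => cj_eq_of_mem (by rw [normalizer_eq_top]; exact mem_top x)
  set J := Cfsg.thompsonSubgroupOf 2 (S : Subgroup G) with hJ
  set V := ⨆ x : G, cj x W with hVdef
  have hV : Elem V := elem_iSup _ (fun x => Elem.map hW _)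
    (conj_comm_of_le_pCore S hW hM hWQ)
  have hWV : W ≤ V := le_trans (by rw [cj_one]) (le_iSup (fun x : G => cj x W) 1)
  have hVQ : V ≤ Q := iSup_le fun x => (map_mono hWQ).trans (hQc x).le
  have hVc : ∀ g : G, cj g V ≤ V := by
    intro g
    rw [cj, hVdef, Subgroup.map_iSup]
    refine iSup_le fun x => le_trans ?_ (le_iSup (fun x : G => cj x W) (g * x))
    rw [cj_mul]
  haveI hVn : V.Normal := ⟨fun v hv g => hVc g (conj_mem_cj hv)⟩
  have hMV : Marg V Q := marg_iSup (fun x : G => cj x W) hVdef fun x => by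
    refine (hM.conj x).mono ?_
    rw [← hQc x]
    exact map_mono hQS
  suffices h : J ≤ centralizer (V : Set G) by
    intro x
    refine le_trans ?_ (centralizer_le (SetLike.coe_subset_coe.mpr hWV))
    exact (map_mono h).trans (cj_eq_of_mem (by rw [normalizer_eq_top]; exact mem_top x)).le
  rw [hJ, H11.thompsonSubgroupOf_eq]
  refine sSup_le fun A hA => ?_
  have hAJ : A ≤ J := by rw [hJ, H11.thompsonSubgroupOf_eq]; exact le_sSup hA
  have hAe := Cfsg.Agent.H9.SFree.Elem.of_isElem hA.2.1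
  have hAS : A ≤ (S : Subgroup G) := hA.1
  set k := (A ⊓ Q).relIndex A with hk
  set c := (A ⊓ centralizer (V : Set G)).relIndex A with hcdef
  set c1 := ((A ⊓ Q) ⊓ centralizer (V : Set G)).relIndex (A ⊓ Q) with hc1
  set i := (V ⊓ centralizer (A : Set G)).relIndex V with hidef
  have hic : i ≤ c := offender_bound hV (hVQ.trans hQS) hA
  have hck : c ≤ c1 * k := by
    calc c ≤ ((A ⊓ Q) ⊓ centralizer (V : Set G)).relIndex A :=
          relIndex_le_of_le_left (inf_le_inf_right _ inf_le_left) index_ne_zero_of_finite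
      _ = c1 * k := (relIndex_mul_relIndex _ _ _ inf_le_left inf_le_left).symm
  have hc1b : c1 = 1 ∨ c1 ^ 3 < i ^ 2 := by
    refine (hMV.elem inf_le_right (hAe.mono inf_le_left)).imp_right fun h =>
      h.trans_le (Nat.pow_le_pow_left ?_ 2)
    exact relIndex_le_of_le_left (inf_le_inf_left _ (centralizer_le (SetLike.coe_subset_coe.mpr inf_le_left)))
      index_ne_zero_of_finite
  have hcpos : 0 < c := Nat.pos_of_ne_zero index_ne_zero_of_finite
  have hc1pos : 0 < c1 := Nat.pos_of_ne_zero index_ne_zero_of_finite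
  have hkpos : 0 < k := Nat.pos_of_ne_zero index_ne_zero_of_finite
  have hc1k : c1 = 1 ∨ c1 < k ^ 2 := by
    refine hc1b.imp_right fun h => ?_
    have h1 : c1 * c1 ^ 2 < k ^ 2 * c1 ^ 2 := by
      calc c1 * c1 ^ 2 = c1 ^ 3 := by ring
        _ < i ^ 2 := h
        _ ≤ (c1 * k) ^ 2 := Nat.pow_le_pow_left (hic.trans hck) 2
        _ = _ := by ring
    exact Nat.lt_of_mul_lt_mul_right h1
  rcases Nat.lt_or_ge k 2 with hk2 | hk2
  · -- `A ≤ Q`
    have hk1 : k = 1 := by omega
    rw [hk1, mul_one] at hck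
    have hc11 : c1 = 1 := by
      rcases hc1k with h | h
      · exact h
      · rw [hk1, one_pow] at h; omega
    exact (relIndex_eq_one.mp (show c = 1 by omega)).trans inf_le_right
  have hk4 : 4 ≤ k ^ 2 := by
    calc 4 = 2 ^ 2 := by norm_num
      _ ≤ _ := Nat.pow_le_pow_left hk2 2
  have hc1lt : c1 < k ^ 2 := by
    rcases hc1k with h | h
    · omega
    · exact h
  set V1 := ⁅V, Q⁆ with hV1
  haveI hV1n : V1.Normal := Subgroup.commutator_normal V Q
  have hV1V : V1 ≤ V := commutator_le_left V Q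
  set O := Cfsg.pResidual 2 G with hO
  have hOS : O ⊔ (S : Subgroup G) = ⊤ := H5.pResidual_sup_sylow S
  haveI hOn : O.Normal := inferInstance
  have hdec : ∀ x : G, ∃ o ∈ O, ∃ s ∈ (S : Subgroup G), x = o * s := fun x =>
    H1.exists_mul_of_mem_sup (fun s _ => by rw [normalizer_eq_top]; exact mem_top s)
      (show x ∈ O ⊔ (S : Subgroup G) from hOS.symm ▸ mem_top x)
  have hcjW : ∀ x : G, ∃ o ∈ O, cj x W = cj o W := by
    intro x
    obtain ⟨o, ho, s, hs, rfl⟩ := hdec x
    exact ⟨o, ho, by rw [cj_mul, cj_eq_of_mem (hSW hs)]⟩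
  rcases layer_gain hfree hc S hP hAS hAe V1 V hV1V hVQ with htriv | ⟨-, t2⟩
  · -- `W` is normal
    have hle : V ≤ W ⊔ V1 := iSup_le fun x => by
      obtain ⟨o, ho, he⟩ := hcjW x
      rw [he]
      rintro _ ⟨w, hw, rfl⟩
      show o * w * o⁻¹ ∈ W ⊔ V1
      have h1 : o * w * o⁻¹ * w⁻¹ ∈ V1 := by
        have := inv_mem (htriv o ho w (hWV hw))
        rwa [commutatorElement_inv, commutatorElement_def] at this
      have h2 := mul_mem (mem_sup_right h1 : _ ∈ W ⊔ V1) (mem_sup_left hw)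
      rwa [inv_mul_cancel_right] at h2
    have hVW : V ≤ W := le_of_le_sup_commutator (H1.isPGroup_pCore 2 G) hV
      (fun q _ => by rw [normalizer_eq_top]; exact mem_top q) hWV (hQS.trans hSW) hle
    exact (hAJ.trans hJW).trans (centralizer_le (SetLike.coe_subset_coe.mpr hVW))
  exfalso
  set M := V ⊓ centralizer (A : Set G) with hMdef
  have hMfix : M ≤ fixMod V V1 A := fun v hv => mem_fixMod.mpr ⟨hv.1, fun a ha => by
    rw [mem_centralizer_iff.mp hv.2 a ha, mul_inv_cancel_right, mul_inv_cancel]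
    exact one_mem _⟩
  rcases layer_gain hfree hc S hP hAS hAe ⊥ V1 bot_le (hV1V.trans hVQ) with hcen | ⟨-, t2'⟩
  swap
  · -- both layers
    set X := M ⊔ V1 with hX
    have hXfix : X ≤ fixMod V V1 A := sup_le hMfix fun v hv => mem_fixMod.mpr ⟨hV1V hv, fun a _ =>
      mul_mem (hV1n.conj_mem v hv a) (inv_mem hv)⟩
    have h1 : k ^ 2 ≤ X.relIndex V :=
      t2.trans (relIndex_le_of_le_left hXfix index_ne_zero_of_finite)
    have h2 : k ^ 2 ≤ M.relIndex X := by
      refine t2'.trans (le_trans (le_of_eq ?_)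
        (relIndex_le_of_le_right (le_sup_right : V1 ≤ X) index_ne_zero_of_finite))
      rw [← inf_relIndex_left V1 M, hMdef, ← inf_assoc, inf_eq_left.mpr hV1V]
      congr 1
      ext v
      rw [mem_fixMod, mem_inf, mem_centralizer_iff]
      refine and_congr_right fun _ => forall₂_congr fun a _ => ?_
      rw [mem_bot, mul_inv_eq_one, mul_inv_eq_iff_eq_mul]
    have h3 : k ^ 2 * k ^ 2 ≤ i := by
      rw [hidef, ← relIndex_mul_relIndex M X V le_sup_left (sup_le inf_le_left hV1V)]
      exact Nat.mul_le_mul h2 h1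
    have h4 : c1 * k < k ^ 2 * k ^ 2 := by
      calc c1 * k < k ^ 2 * k := Nat.mul_lt_mul_of_pos_right hc1lt hkpos
        _ ≤ _ := Nat.mul_le_mul_left _ (Nat.le_self_pow (by norm_num) k)
    omega
  -- `[V, Q]` lies in `W`
  have hOV1 : ∀ o ∈ O, ∀ v ∈ V1, o * v * o⁻¹ = v := by
    intro o ho v hv
    have h := hcen o ho v hv
    rw [mem_bot, commutatorElement_eq_one_iff_mul_comm] at h
    rw [← h, mul_inv_cancel_right]
  have hWQW : ∀ w ∈ W, ∀ q ∈ Q, ⁅q, w⁆ ∈ W := fun w hw q hq => by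
    rw [commutatorElement_def]
    exact mul_mem (conj_mem (hSW (hQS hq)) hw) (inv_mem hw)
  have hWQV1 : ∀ w ∈ W, ∀ q ∈ Q, ⁅q, w⁆ ∈ V1 := fun w hw q hq => by
    rw [hV1, commutator_comm]
    exact commutator_mem_commutator hq (hWV hw)
  have hV1W : V1 ≤ W := by
    rw [hV1, commutator_le]
    intro v hv q hq
    rw [← commutatorElement_inv]
    refine inv_mem ?_
    have hqV : q ∈ normalizer (V : Set G) := by rw [normalizer_eq_top]; exact mem_top q
    have hle : V ≤ (W.comap (dispHom hV hqV)).map V.subtype := iSup_le fun x => by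
      obtain ⟨o, ho, he⟩ := hcjW x
      rw [he]
      rintro _ ⟨w, hw, rfl⟩
      refine ⟨⟨o * w * o⁻¹, hVn.conj_mem w (hWV hw) o⟩, ?_, rfl⟩
      show q * (o * w * o⁻¹) * q⁻¹ * (o * w * o⁻¹)⁻¹ ∈ W
      set q' := o⁻¹ * q * o with hq'
      have hq'Q : q' ∈ Q := by
        have := (inferInstance : Q.Normal).conj_mem q hq o⁻¹
        rwa [inv_inv] at this
      have e : q * (o * w * o⁻¹) * q⁻¹ * (o * w * o⁻¹)⁻¹ = o * ⁅q', w⁆ * o⁻¹ := by
        rw [hq', commutatorElement_def]; group
      rw [e, hOV1 o ho _ (hWQV1 w hw q' hq'Q)]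
      exact hWQW w hw q' hq'Q
    obtain ⟨v', hv', rfl⟩ := hle hv
    exact hv'
  have hAW : A ≤ centralizer (W : Set G) := hAJ.trans hJW
  have hV1M : V1 ≤ M := le_inf hV1V (le_centralizer_iff.mp
    (hAW.trans (centralizer_le (SetLike.coe_subset_coe.mpr hV1W))))
  have hQM : ∀ q ∈ Q, ∀ m ∈ M, q * m * q⁻¹ ∈ M := fun q hq m hm => by
    have h1 : q * m * q⁻¹ * m⁻¹ ∈ M := hV1M (by
      rw [hV1, commutator_comm, ← commutatorElement_def]
      exact commutator_mem_commutator hq hm.1)
    have h2 := mul_mem h1 hm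
    rwa [inv_mul_cancel_right] at h2
  set E := ⁅Q, A⁆ ⊔ (A ⊓ Q) with hE
  have hEQ : E ≤ Q := sup_le (commutator_le_left Q A) inf_le_right
  have hEM : E ≤ centralizer (M : Set G) := by
    refine sup_le ?_ ?_
    · rw [commutator_le]
      intro q hq a ha
      rw [mem_centralizer_iff]
      intro m hm
      have hfix : ∀ m ∈ M, a * m * a⁻¹ = m := fun m hm => by
        rw [mem_centralizer_iff.mp hm.2 a ha, mul_inv_cancel_right]
      have hfix' : ∀ m ∈ M, a⁻¹ * m * a = m := fun m hm => by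
        conv_lhs => rw [← hfix m hm]
        group
      have h1 : q⁻¹ * m * q ∈ M := by
        have := hQM q⁻¹ (inv_mem hq) m hm
        rwa [inv_inv] at this
      have h2 : ⁅q, a⁆ * m * ⁅q, a⁆⁻¹ = m := by
        calc ⁅q, a⁆ * m * ⁅q, a⁆⁻¹ = q * (a * (q⁻¹ * (a⁻¹ * m * a) * q) * a⁻¹) * q⁻¹ := by
              rw [commutatorElement_def]; group
          _ = q * (q⁻¹ * m * q) * q⁻¹ := by rw [hfix' m hm, hfix _ h1]
          _ = m := by group
      exact (mul_inv_eq_iff_eq_mul.mp h2).symm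
    · exact inf_le_left.trans (le_centralizer_iff.mp inf_le_right)
  have hEV : ∀ r ∈ E, ∀ v ∈ V, ∃ m ∈ V1, r * v * r⁻¹ = m * v := fun r hr v hv =>
    ⟨r * v * r⁻¹ * v⁻¹, by
      rw [hV1, commutator_comm, ← commutatorElement_def]
      exact commutator_mem_commutator (hEQ hr) hv, by group⟩
  have hEfix : ∀ r ∈ E, ∀ m ∈ V1, r * m * r⁻¹ = m := fun r hr m hm => by
    rw [← mem_centralizer_iff.mp (hEM hr) m (hV1M hm), mul_inv_cancel_right]
  set n := (E ⊓ centralizer (V : Set G)).relIndex E with hn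
  have hnb : n = 1 ∨ n ^ 3 < i ^ 2 := by
    refine (hMV E hEQ ?_ ?_).imp_right fun h => h.trans_le (Nat.pow_le_pow_left ?_ 2)
    · intro r hr
      rw [mem_centralizer_iff]
      intro v hv
      obtain ⟨m, hm, e⟩ := hEV r hr v hv
      have e2 : r * r * v * (r * r)⁻¹ = v := by
        calc r * r * v * (r * r)⁻¹ = r * (r * v * r⁻¹) * r⁻¹ := by group
          _ = r * (m * v) * r⁻¹ := by rw [e]
          _ = (r * m * r⁻¹) * (r * v * r⁻¹) := by group
          _ = v := by rw [hEfix r hr m hm, e, ← mul_assoc, hV.sq m (hV1V hm), one_mul]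
      exact (mul_inv_eq_iff_eq_mul.mp e2).symm
    · intro r hr s hs
      rw [mem_centralizer_iff]
      intro v hv
      have hz : (r * s) * ((s * r)⁻¹ * (r * s)) * (r * s)⁻¹ ∈ centralizer (V : Set G) :=
        (inferInstance : (centralizer (V : Set G)).Normal).conj_mem _
          (mem_centralizer_iff.mpr fun u hu => by
            obtain ⟨m', hm', eu⟩ := hEV r hr u hu
            obtain ⟨l', hl', eu'⟩ := hEV s hs u hu
            have g1 : r * s * u * (r * s)⁻¹ = l' * m' * u := by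
              calc r * s * u * (r * s)⁻¹ = r * (s * u * s⁻¹) * r⁻¹ := by group
                _ = r * (l' * u) * r⁻¹ := by rw [eu']
                _ = (r * l' * r⁻¹) * (r * u * r⁻¹) := by group
                _ = _ := by rw [hEfix r hr l' hl', eu, mul_assoc]
            have g2 : s * r * u * (s * r)⁻¹ = l' * m' * u := by
              calc s * r * u * (s * r)⁻¹ = s * (r * u * r⁻¹) * s⁻¹ := by group
                _ = s * (m' * u) * s⁻¹ := by rw [eu]
                _ = (s * m' * s⁻¹) * (s * u * s⁻¹) := by group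
                _ = _ := by
                  rw [hEfix s hs m' hm', eu', ← mul_assoc, hV.comm m' (hV1V hm') l' (hV1V hl')]
            have g3 : (s * r)⁻¹ * (r * s) * u * ((s * r)⁻¹ * (r * s))⁻¹ = u := by
              calc (s * r)⁻¹ * (r * s) * u * ((s * r)⁻¹ * (r * s))⁻¹
                  = (s * r)⁻¹ * (r * s * u * (r * s)⁻¹) * (s * r) := by group
                _ = (s * r)⁻¹ * (s * r * u * (s * r)⁻¹) * (s * r) := by rw [g1, g2]
                _ = u := by group
            exact (mul_inv_eq_iff_eq_mul.mp g3).symm) (r * s)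
      have e3 : (r * s) * ((s * r)⁻¹ * (r * s)) * (r * s)⁻¹ = r * s * r⁻¹ * s⁻¹ := by group
      rw [e3] at hz
      exact mem_centralizer_iff.mp hz v hv
    · refine relIndex_le_of_le_left ?_ index_ne_zero_of_finite
      exact le_inf inf_le_left (le_centralizer_iff.mp hEM)
  haveI : (Q ⊓ centralizer (V : Set G)).Normal := inferInstance
  rcases layer_gain hfree hc S hP hAS hAe (Q ⊓ centralizer (V : Set G)) Q inf_le_left le_rfl with
    hst | ⟨t1, -⟩
  · -- `A ∩ Q` centralizes `V`
    have hAQV : A ⊓ Q ≤ centralizer (V : Set G) := by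
      rw [le_centralizer_iff, hVdef]
      refine iSup_le fun x => ?_
      obtain ⟨o, ho, he⟩ := hcjW x
      rw [he, ← le_centralizer_iff]
      intro b hb
      rw [mem_centralizer_iff]
      rintro _ ⟨w, hw, rfl⟩
      show o * w * o⁻¹ * b = b * (o * w * o⁻¹)
      have h1 : ⁅b⁻¹, o⁻¹⁆ ∈ centralizer (V : Set G) :=
        (mem_inf.mp (hst o⁻¹ (inv_mem ho) b⁻¹ (inv_mem (mem_inf.mp hb).2))).2
      have h2 : o⁻¹ * b * o ∈ centralizer (W : Set G) := by
        have e : o⁻¹ * b * o = b * ⁅b⁻¹, o⁻¹⁆ := by rw [commutatorElement_def]; group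
        rw [e]
        exact mul_mem (hAW (mem_inf.mp hb).1) (centralizer_le (SetLike.coe_subset_coe.mpr hWV) h1)
      calc o * w * o⁻¹ * b = o * (w * (o⁻¹ * b * o)) * o⁻¹ := by group
        _ = o * ((o⁻¹ * b * o) * w) * o⁻¹ := by rw [mem_centralizer_iff.mp h2 w hw]
        _ = _ := by group
    have hc11 : c1 = 1 := by rw [hc1, inf_eq_left.mpr hAQV, relIndex_self]
    have h1 : k ^ 2 ≤ i := t2.trans (relIndex_le_of_le_left hMfix index_ne_zero_of_finite)
    rw [hc11, one_mul] at hck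
    have : k ^ 2 ≤ k := by omega
    nlinarith
  have hn2 : k ^ 2 ≤ n := by
    refine t1.trans (le_trans (relIndex_le_of_le_right (le_sup_left : _ ≤ E) index_ne_zero_of_finite)
      (le_of_eq ?_))
    rw [← inf_relIndex_left E, ← inf_assoc, inf_eq_left.mpr hEQ]
  have hn1 : c1 ≤ n := by
    rw [hc1, hn, inf_relIndex_left, inf_relIndex_left]
    exact relIndex_le_of_le_right (le_sup_right : _ ≤ E) index_ne_zero_of_finite
  rcases hnb with h | h
  · omega
  have h1 : n * n ^ 2 < k ^ 2 * n ^ 2 := by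
    calc n * n ^ 2 = n ^ 3 := by ring
      _ < i ^ 2 := h
      _ ≤ (n * k) ^ 2 := Nat.pow_le_pow_left ((hic.trans hck).trans (Nat.mul_le_mul_right _ hn1)) 2
      _ = _ := by ring
  exact absurd (Nat.lt_of_mul_lt_mul_right h1) (not_lt.mpr hn2)

end steps

section claim

/-- The induction for the centralizer of `W`. -/
theorem claim_aux : ∀ (n : ℕ) (G : Type u) [Group G] [Finite G], Nat.card G = n → Constr G →
    S4Free G → CompK G → ∀ (S : Sylow 2 G) (W : Subgroup G), Elem W → W ≤ (S : Subgroup G) →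
    (S : Subgroup G) ≤ normalizer (W : Set G) → Marg W (S : Subgroup G) →
    Cfsg.thompsonSubgroupOf 2 (S : Subgroup G) ≤ centralizer (W : Set G) →
    ∀ x : G, cj x (Cfsg.thompsonSubgroupOf 2 (S : Subgroup G)) ≤ centralizer (W : Set G) := by
  intro n
  induction n using Nat.strong_induction_on with
  | _ n ih =>
  intro G _ _ hn hc0 hfree hc S W hW hWS hSW hM hJW
  haveI : Fact (Nat.Prime 2) := ⟨Nat.prime_two⟩
  subst hn
  set J := Cfsg.thompsonSubgroupOf 2 (S : Subgroup G) with hJ
  have hJS : J ≤ (S : Subgroup G) := H1.thompsonSubgroupOf_le 2 _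
  have hWJ : W ≤ J := by
    obtain ⟨A, hA⟩ := H11.maxFam_nonempty (H11.replProp_elem (G := G) 2).bot (S : Subgroup G)
    have hAJ : A ≤ J := by rw [hJ, H11.thompsonSubgroupOf_eq]; exact le_sSup hA
    have he : Cfsg.IsElementaryAbelian 2 (W ⊔ A : Subgroup G) :=
      H10.elementaryAbelian_sup hW.isElem hA.2.1 fun w hw a ha =>
        mem_centralizer_iff.mp (hJW (hAJ ha)) w hw
    have h := hA.2.2 _ (sup_le hWS hA.1) he
    exact le_trans le_sup_left ((eq_of_le_of_card_ge le_sup_right h).ge.trans hAJ)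
  have hsub : ∀ K : Subgroup G, K ≠ ⊤ → J ≤ K → ∀ S' : Sylow 2 K,
      (S' : Subgroup K) = (S : Subgroup G).subgroupOf K → Constr K → CompK K →
      ∀ h ∈ K, cj h J ≤ centralizer (W : Set G) := by
    intro K hK hJK S' hS' hK0 hKc h hh
    have hlt : Nat.card K < Nat.card G :=
      lt_of_le_of_ne (card_le_card_group K) fun e => hK (eq_top_of_card_eq K e)
    have hWK : W ≤ K := hWJ.trans hJK
    set W' := W.subgroupOf K with hW'
    have hmapW : W'.map K.subtype = W := by rw [hW', subgroupOf_map_subtype, inf_eq_left.mpr hWK]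
    have hJ' : (Cfsg.thompsonSubgroupOf 2 (S' : Subgroup K)).map K.subtype = J := by
      rw [H1.map_thompsonSubgroupOf 2 K.subtype _ (by rw [K.ker_subtype]; exact disjoint_bot_right),
        hS', subgroupOf_map_subtype, thompson_inf hJK]
    have h1 := ih _ hlt K rfl hK0 (fun e => hfree (H74.JA.involves_subgroup e)) hKc S' W'
      ((elem_map_iff K.subtype K.subtype_injective W').mp (hmapW.symm ▸ hW))
      (by rw [hS']; exact fun x hx => hWS hx)
      (by
        rw [hS']
        intro x hx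
        apply mem_normalizer_fintype
        intro w hw
        show ((x * w * x⁻¹ : K) : G) ∈ W
        exact conj_mem (hSW (show (x : G) ∈ (S : Subgroup G) from hx)) (show (w : G) ∈ W from hw))
      (by rw [hS']; exact hM.subgroupOf hWK)
      (fun x hx => (mem_centralizer_map K.subtype_injective).mp (by
        rw [hmapW]; exact hJW (hJ' ▸ mem_map_of_mem _ hx)))
      ⟨h, hh⟩
    rintro _ ⟨j, hj, rfl⟩
    rw [← hJ'] at hj
    obtain ⟨j', hj', rfl⟩ := hj
    have h2 := (mem_centralizer_map (f := K.subtype) K.subtype_injective).mpr (h1 ⟨j', hj', rfl⟩)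
    rw [hmapW] at h2
    exact h2
  have hQS : Cfsg.pCore 2 G ≤ (S : Subgroup G) := H1.pCore_le_sylow S
  haveI := H1.pCore_normal' 2 G
  set L := normalClosure (J : Set G) with hL
  haveI hLn : L.Normal := normalClosure_normal
  have hJL : J ≤ L := subset_normalClosure
  by_cases hLtop : L = ⊤
  swap
  · intro x
    have hLsub := hsub L hLtop hJL (H32.sylowInf S L) (H32.coe_sylowInf S L)
      (constr_of_normal hc0 L) (hc.of_normal L)
    set T := (S : Subgroup G) ⊓ L with hT
    have hx : x ∈ L ⊔ normalizer (T : Set G) := by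
      rw [sup_comm, hT, H32.frattini_inf]; exact mem_top x
    obtain ⟨l, hl, m, hm, rfl⟩ :=
      H1.exists_mul_of_mem_sup (fun z _ => by rw [normalizer_eq_top]; exact mem_top z) hx
    have hmJ : m ∈ normalizer (J : Set G) := by
      have := H1.normalizer_le_normalizer_thompsonSubgroupOf 2 T hm
      rwa [hT, thompson_inf hJL] at this
    rw [cj_mul, cj_eq_of_mem hmJ]
    exact hLsub l hl
  by_contra hcon
  refine hcon (thompson_le_of_reduced hc0 hfree hc S hW hWS hSW hM ?_ hJW)
  intro N hN hQN hne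
  haveI := hN
  by_contra hNS
  apply hcon
  set K2 := normalizer ((N ⊓ (S : Subgroup G) : Subgroup G) : Set G) with hK2
  have hSK2 : (S : Subgroup G) ≤ K2 := by
    intro s hs
    apply mem_normalizer_fintype
    intro z hz
    exact ⟨hN.conj_mem z hz.1 s, (show s * z * s⁻¹ ∈ (S : Subgroup G) from mul_mem (mul_mem hs hz.2) (inv_mem hs))⟩
  have hK2ne : K2 ≠ ⊤ := by
    intro e
    apply hNS
    haveI : (N ⊓ (S : Subgroup G)).Normal := normalizer_eq_top_iff.mp e
    exact H1.le_pCore (S.isPGroup'.to_le inf_le_right)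
  have h1 := hsub (N ⊔ (S : Subgroup G)) hne (hJS.trans le_sup_right) (S.subtype le_sup_right)
    (S.coe_subtype _) (constr_of_sylow_le hc0 S le_sup_right) (compK_sup hc N S.isPGroup')
  have h2 := hsub K2 hK2ne (hJS.trans hSK2) (S.subtype hSK2) (S.coe_subtype _)
    (constr_of_sylow_le hc0 S hSK2) (compK_normalizer_trace hc N S)
  have hfr : K2 ⊔ N = ⊤ := by rw [hK2, inf_comm]; exact H32.frattini_inf S N
  have htop : centralizer (W : Set G) ⊔ N = ⊤ := by
    rw [eq_top_iff, ← hLtop, hL, normalClosure, closure_le]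
    intro z hz
    obtain ⟨j, hj, hjz⟩ := Group.mem_conjugatesOfSet_iff.mp hz
    obtain ⟨g, rfl⟩ := isConj_iff.mp hjz
    obtain ⟨h, hh, m, hm, rfl⟩ := H1.exists_mul_of_mem_sup'
      (fun z _ => by rw [normalizer_eq_top]; exact mem_top z) (hfr.symm ▸ mem_top g : g ∈ K2 ⊔ N)
    have e : h * m * j * (h * m)⁻¹ = (h * (m * j * m⁻¹ * j⁻¹) * h⁻¹) * (h * j * h⁻¹) := by group
    rw [SetLike.mem_coe, e]
    refine mul_mem (mem_sup_right (hN.conj_mem _ ?_ h)) (mem_sup_left (h2 h hh (conj_mem_cj hj)))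
    rw [show m * j * m⁻¹ * j⁻¹ = m * (j * m⁻¹ * j⁻¹) by group]
    exact mul_mem hm (hN.conj_mem _ (inv_mem hm) j)
  intro x
  obtain ⟨c, hc', m, hm, rfl⟩ := H1.exists_mul_of_mem_sup'
    (fun z _ => by rw [normalizer_eq_top]; exact mem_top z)
    (htop.symm ▸ mem_top x : x ∈ centralizer (W : Set G) ⊔ N)
  rw [cj_mul]
  refine (map_mono (h1 m (mem_sup_left hm))).trans ?_
  rintro _ ⟨z, hz, rfl⟩
  exact mul_mem (mul_mem hc' hz) (inv_mem hc')

/-- A subgroup with the margin property centralized by the Thompson subgroup is centralized by all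
its conjugates. -/
theorem claim {G : Type u} [Group G] [Finite G] (hc0 : Constr G) (hfree : S4Free G) (hc : CompK G)
    (S : Sylow 2 G) {W : Subgroup G} (hW : Elem W) (hWS : W ≤ (S : Subgroup G))
    (hSW : (S : Subgroup G) ≤ normalizer (W : Set G)) (hM : Marg W (S : Subgroup G))
    (hJW : Cfsg.thompsonSubgroupOf 2 (S : Subgroup G) ≤ centralizer (W : Set G)) (x : G) :
    cj x (Cfsg.thompsonSubgroupOf 2 (S : Subgroup G)) ≤ centralizer (W : Set G) :=
  claim_aux _ G rfl hc0 hfree hc S W hW hWS hSW hM hJW x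

end claim

end H74.Pair
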