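import Mathlib
import Cfsg.Agent.H74.Pair.Claim

/-!
The three factorizations of a constrained group without `S₄` section.
-/

set_option autoImplicit false
set_option linter.all false

namespace H74.Pair

open Subgroup
open scoped commutatorElement
open Cfsg.Agent.H9.SFree (Elem cj cj_mul cj_one cj_eq_of_mem conj_mem conj_mem_cj)

universe u

variable {G : Type u} [Group G] [Finite G]

theorem le_thompson_of_centralized {S W : Subgroup G} (hW : Elem W) (hWS : W ≤ S)
    (hJW : Cfsg.thompsonSubgroupOf 2 S ≤ centralizer (W : Set G)) :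
    W ≤ Cfsg.thompsonSubgroupOf 2 S := by
  obtain ⟨A, hA⟩ := H11.maxFam_nonempty (H11.replProp_elem (G := G) 2).bot S
  have hAJ : A ≤ Cfsg.thompsonSubgroupOf 2 S := by rw [H11.thompsonSubgroupOf_eq]; exact le_sSup hA
  have he : Cfsg.IsElementaryAbelian 2 (W ⊔ A : Subgroup G) :=
    H10.elementaryAbelian_sup hW.isElem hA.2.1 fun w hw a ha =>
      mem_centralizer_iff.mp (hJW (hAJ ha)) w hw
  have h := hA.2.2 _ (sup_le hWS hA.1) he
  exact le_trans le_sup_left ((eq_of_le_of_card_ge le_sup_right h).ge.trans hAJ)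

/-- An element of order two commuting with the Thompson subgroup lies in it. -/
theorem mem_thompson_of_commute {S : Subgroup G} {x : G} (hxS : x ∈ S) (hx : x ^ 2 = 1)
    (hc : x ∈ centralizer (Cfsg.thompsonSubgroupOf 2 S : Set G)) :
    x ∈ Cfsg.thompsonSubgroupOf 2 S := by
  refine le_thompson_of_centralized (W := zpowers x) ⟨fun a ha b hb => ?_, fun a ha => ?_⟩
    (zpowers_le.mpr hxS) (le_centralizer_iff.mp (zpowers_le.mpr hc)) (mem_zpowers x)
  · obtain ⟨i, rfl⟩ := mem_zpowers_iff.mp ha
    obtain ⟨j, rfl⟩ := mem_zpowers_iff.mp hb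
    exact (Commute.zpow_zpow_self x i j).eq
  · obtain ⟨i, rfl⟩ := mem_zpowers_iff.mp ha
    rw [← zpow_add, ← two_mul, zpow_mul, zpow_ofNat, hx, one_zpow]

theorem jH_map {H : Type u} [Group H] [Finite H] (f : G →* H) (hf : Function.Injective f)
    (T : Subgroup G) : (jH T).map f = jH (T.map f) := by
  have h : jH (T.map f) = ((Cfsg.jHat ↥T).map (T.equivMapOfInjective f hf).toMonoidHom).map
      (T.map f).subtype := by rw [map_jHat_equiv]
  rw [h, jH, map_map, map_map]
  rfl

theorem jH_le_of_eq {S T : Subgroup G} (hTS : T ≤ S)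
    (hJ : Cfsg.thompsonSubgroupOf 2 T = Cfsg.thompsonSubgroupOf 2 S) : jH T ≤ jH S := by
  rw [jH_eq_sSup, jH_eq_sSup, hJ]
  exact sSup_le_sSup fun U ⟨h1, h2, h3⟩ => ⟨h1.trans hTS, h2, h3⟩

/-- The normal subgroup controlling the first two factorizations. -/
theorem exists_reduced (hc0 : Constr G) (hfree : S4Free G) (hc : CompK G) (S : Sylow 2 G) :
    ∃ C : Subgroup G, C.Normal ∧
      C ≤ centralizer (((S : Subgroup G) ⊓ centralizer ((S : Subgroup G) : Set G) : Subgroup G) : Set G) ∧
      Cfsg.thompsonSubgroupOf 2 (S : Subgroup G) ≤ C ∧ jH (S : Subgroup G) ≤ C := by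
  haveI : Fact (Nat.Prime 2) := ⟨Nat.prime_two⟩
  set Q := Cfsg.pCore 2 G with hQdef
  haveI := H1.pCore_normal' 2 G
  have hQS : Q ≤ (S : Subgroup G) := H1.pCore_le_sylow S
  set Z := (S : Subgroup G) ⊓ centralizer ((S : Subgroup G) : Set G) with hZ
  have hZQ : Z ≤ Q ⊓ centralizer (Q : Set G) := by
    have h : Z ≤ centralizer (Q : Set G) :=
      inf_le_right.trans (centralizer_le (SetLike.coe_subset_coe.mpr hQS))
    exact le_inf (h.trans hc0) h
  set V := normalClosure (Z : Set G) with hV
  haveI hVn : V.Normal := normalClosure_normal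
  have hZV : Z ≤ V := subset_normalClosure
  have hVQ : V ≤ Q ⊓ centralizer (Q : Set G) := normalClosure_le_normal hZQ
  have hVc : ∀ x ∈ V, ∀ y ∈ V, x * y = y * x := fun x hx y hy =>
    mem_centralizer_iff.mp (mem_inf.mp (hVQ hy)).2 x (mem_inf.mp (hVQ hx)).1
  set C := centralizer (V : Set G) with hC
  haveI hCn : C.Normal := inferInstance
  have hCZ : C ≤ centralizer (Z : Set G) := centralizer_le (SetLike.coe_subset_coe.mpr hZV)
  set f := QuotientGroup.mk' C with hf
  have hfs : Function.Surjective f := QuotientGroup.mk'_surjective C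
  have hO : Cfsg.pCore 2 (G ⧸ C) = ⊥ := by
    haveI := H1.pCore_normal' 2 (G ⧸ C)
    set P := (Cfsg.pCore 2 (G ⧸ C)).comap f with hP
    have hPle : P ≤ centralizer (Z : Set G) := by
      have h : P ≤ ((S : Subgroup G).map f).comap f := comap_mono (by
        have := H1.pCore_le_sylow (S.mapSurjective hfs)
        rwa [Sylow.coe_mapSurjective] at this)
      refine h.trans ?_
      rw [comap_map_eq, hf, QuotientGroup.ker_mk']
      exact sup_le (le_centralizer_iff.mp inf_le_right) hCZ
    have hPC : P ≤ C := by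
      rw [hC, le_centralizer_iff, hV]
      exact normalClosure_le_normal (le_centralizer_iff.mp hPle)
    rw [eq_bot_iff]
    intro q hq
    obtain ⟨x, rfl⟩ := hfs q
    rw [mem_bot, hf, QuotientGroup.mk'_apply, QuotientGroup.eq_one_iff]
    exact hPC hq
  let W : Subgroup G :=
    { carrier := {x | x ∈ V ∧ x * x = 1}
      one_mem' := ⟨one_mem _, one_mul 1⟩
      mul_mem' := by
        rintro x y ⟨hx, hx2⟩ ⟨hy, hy2⟩
        refine ⟨mul_mem hx hy, ?_⟩
        calc x * y * (x * y) = x * (y * x) * y := by group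
          _ = x * (x * y) * y := by rw [hVc y hy x hx]
          _ = (x * x) * (y * y) := by group
          _ = 1 := by rw [hx2, hy2, one_mul]
      inv_mem' := by
        rintro x ⟨hx, hx2⟩
        exact ⟨inv_mem hx, by rw [← mul_inv_rev, hx2, inv_one]⟩ }
  have hWV : W ≤ V := fun x hx => hx.1
  have hW : Elem W := ⟨fun x hx y hy => hVc x hx.1 y hy.1, fun x hx => hx.2⟩
  haveI hWn : W.Normal := ⟨fun x hx g => ⟨hVn.conj_mem x hx.1 g, by
    calc g * x * g⁻¹ * (g * x * g⁻¹) = g * (x * x) * g⁻¹ := by group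
      _ = 1 := by rw [hx.2, mul_one, mul_inv_cancel]⟩⟩
  haveI : (centralizer (W : Set G)).Normal := inferInstance
  have hCW : centralizer (W : Set G) = C := by
    refine le_antisymm ?_ (centralizer_le (SetLike.coe_subset_coe.mpr hWV))
    have hodd : ∀ x ∈ centralizer (W : Set G), (orderOf x).Coprime 2 → x ∈ C := by
      intro x hx hx2
      rw [hC, mem_centralizer_iff]
      suffices h : ∀ e : ℕ, ∀ v ∈ V, v ^ 2 ^ e = 1 → x * v * x⁻¹ = v by
        intro v hv
        obtain ⟨e, he⟩ := H1.isPGroup_pCore 2 G ⟨v, (mem_inf.mp (hVQ hv)).1⟩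
        exact (mul_inv_eq_iff_eq_mul.mp (h e v hv (congrArg Subtype.val he))).symm
      intro e
      induction e with
      | zero =>
        intro v _ hv
        rw [pow_zero, pow_one] at hv
        rw [hv, mul_one, mul_inv_cancel]
      | succ e ih =>
        intro v hv hv1
        have h2 := ih (v * v) (mul_mem hv hv) (by rw [← pow_two, ← pow_mul, ← pow_succ']; exact hv1)
        have hxv : x * v * x⁻¹ ∈ V := hVn.conj_mem v hv x
        set m := x * v * x⁻¹ * v⁻¹ with hm
        have hmW : m ∈ W := by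
          refine ⟨mul_mem hxv (inv_mem hv), ?_⟩
          have hc2 := hVc _ hxv _ (inv_mem hv)
          calc m * m = (x * v * x⁻¹) * (v⁻¹ * (x * v * x⁻¹)) * v⁻¹ := by rw [hm]; group
            _ = (x * v * x⁻¹) * ((x * v * x⁻¹) * v⁻¹) * v⁻¹ := by rw [← hc2]
            _ = (x * (v * v) * x⁻¹) * (v * v)⁻¹ := by group
            _ = 1 := by rw [h2, mul_inv_cancel]
        have hxm : x * m * x⁻¹ = m := by
          rw [← mem_centralizer_iff.mp hx m hmW, mul_inv_cancel_right]
        have h : ∀ i : ℕ, x ^ i * v * (x ^ i)⁻¹ = m ^ i * v := by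
          intro i
          induction i with
          | zero => simp
          | succ i ih' =>
            calc x ^ (i + 1) * v * (x ^ (i + 1))⁻¹ = x * (x ^ i * v * (x ^ i)⁻¹) * x⁻¹ := by
                  rw [pow_succ']; group
              _ = (x * m * x⁻¹) ^ i * (x * v * x⁻¹) := by rw [ih', conj_pow]; group
              _ = m ^ i * (m * v) := by rw [hxm, hm, inv_mul_cancel_right]
              _ = _ := by rw [← mul_assoc, ← pow_succ]
        have h3 := h (orderOf x)
        rw [pow_orderOf_eq_one, one_mul, inv_one, mul_one, right_eq_mul] at h3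
        have h4 : orderOf m ∣ Nat.gcd (orderOf x) 2 :=
          Nat.dvd_gcd (orderOf_dvd_of_pow_eq_one h3)
            (orderOf_dvd_of_pow_eq_one (by rw [pow_two]; exact hmW.2))
        rw [hx2.gcd_eq_one, Nat.dvd_one, orderOf_eq_one_iff] at h4
        rwa [hm, mul_inv_eq_one] at h4
    have hp : IsPGroup 2 ((centralizer (W : Set G)).map f) := by
      rintro ⟨_, x, hx, rfl⟩
      obtain ⟨k, hk⟩ := H75.exists_pow_coprime (p := 2) x
      refine ⟨k, Subtype.ext ?_⟩
      show f x ^ 2 ^ k = 1
      rw [← map_pow, hf, QuotientGroup.mk'_apply, QuotientGroup.eq_one_iff]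
      exact hodd _ (pow_mem hx _) hk
    haveI : ((centralizer (W : Set G)).map f).Normal := Subgroup.Normal.map inferInstance f hfs
    have h := H1.le_pCore hp
    rw [hO, le_bot_iff, Subgroup.map_eq_bot_iff, hf, QuotientGroup.ker_mk'] at h
    exact h
  have hO' : Cfsg.pCore 2 (G ⧸ centralizer (W : Set G)) = ⊥ := by
    rw [← H1.map_pCore_equiv 2 (QuotientGroup.quotientMulEquivOfEq hCW.symm), hO, Subgroup.map_bot]
  have hE : EProp W (⊤ : Subgroup G) := by
    intro R _ hsq hcm hR
    obtain ⟨b1, b2⟩ := reduced_bounds hfree hc W hW hO' R hsq hcm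
    set c := (R ⊓ centralizer (W : Set G)).relIndex R
    have hc2 : 2 ≤ c := by
      have hpos : 0 < c := Nat.pos_of_ne_zero index_ne_zero_of_finite
      by_contra hlt
      exact hR ((relIndex_eq_one.mp (show c = 1 by omega)).trans inf_le_right)
    refine ⟨?_, lt_of_lt_of_le (lt_of_lt_of_le (Nat.lt_mul_self_iff.mpr hc2) (le_of_eq (pow_two c).symm)) b2⟩
    calc c ^ 3 < c ^ 4 := Nat.pow_lt_pow_right hc2 (by norm_num)
      _ = (c ^ 2) ^ 2 := by ring
      _ ≤ _ := Nat.pow_le_pow_left b1 2
  set J := Cfsg.thompsonSubgroupOf 2 (S : Subgroup G) with hJ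
  have hWS : W ≤ (S : Subgroup G) := (hWV.trans (hVQ.trans inf_le_left)).trans hQS
  have hJW : J ≤ centralizer (W : Set G) := by
    rw [hJ, H11.thompsonSubgroupOf_eq]
    exact sSup_le fun A hA => maxFam_le_centralizer hW hWS (hE.mono le_top).marg hA
  have hWJ : W ≤ J := le_thompson_of_centralized hW hWS hJW
  refine ⟨C, hCn, hCZ, hCW ▸ hJW, ?_⟩
  rw [jH_eq_sSup, ← hCW]
  refine sSup_le ?_
  rintro U ⟨hUS, hUE, hJU⟩
  have hWU : W ≤ U := hWJ.trans hJU
  have hmap : (W.subgroupOf U).map U.subtype = W := by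
    rw [subgroupOf_map_subtype, inf_eq_left.mpr hWU]
  have hcen := isEGroup_iff.mp hUE (W.subgroupOf U) normal_subgroupOf
    ((elem_map_iff U.subtype U.subtype_injective _).mp (hmap.symm ▸ hW))
    ((eProp_map_iff U.subtype U.subtype_injective _ ⊤).mp (by rw [hmap]; exact hE.mono le_top))
  intro u hu
  rw [mem_centralizer_iff]
  intro w hw
  exact (congrArg Subtype.val (Subgroup.mem_center_iff.mp
    (hcen (show (⟨w, hWU hw⟩ : U) ∈ W.subgroupOf U from hw)) ⟨u, hu⟩)).symm

/-- Frattini argument for a normal subgroup containing a subgroup determined by its Sylow trace. -/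
theorem exists_mul_normalizer {C : Subgroup G} [C.Normal] (S : Sylow 2 G) (g : G) :
    ∃ c ∈ C, ∃ n ∈ normalizer (((S : Subgroup G) ⊓ C : Subgroup G) : Set G), g = c * n := by
  haveI : Fact (Nat.Prime 2) := ⟨Nat.prime_two⟩
  exact H1.exists_mul_of_mem_sup (fun z _ => by rw [normalizer_eq_top]; exact mem_top z)
    (show g ∈ C ⊔ normalizer (((S : Subgroup G) ⊓ C : Subgroup G) : Set G) by
      rw [sup_comm, H32.frattini_inf]; exact mem_top g)

theorem normalizer_trace_le {C : Subgroup G} (S : Sylow 2 G)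
    (hJ : Cfsg.thompsonSubgroupOf 2 (S : Subgroup G) ≤ C) :
    normalizer (((S : Subgroup G) ⊓ C : Subgroup G) : Set G) ≤
      normalizer (Cfsg.thompsonSubgroupOf 2 (S : Subgroup G) : Set G) := by
  have h := H1.normalizer_le_normalizer_thompsonSubgroupOf 2 ((S : Subgroup G) ⊓ C)
  rwa [thompson_inf hJ] at h

/-- The first factorization. -/
theorem factor_thompson (hc0 : Constr G) (hfree : S4Free G) (hc : CompK G) (S : Sylow 2 G) (g : G) :
    ∃ c ∈ centralizer (((S : Subgroup G) ⊓ centralizer ((S : Subgroup G) : Set G) : Subgroup G) : Set G),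
      ∃ n ∈ normalizer (Cfsg.thompsonSubgroupOf 2 (S : Subgroup G) : Set G), g = c * n := by
  obtain ⟨C, hCn, hCZ, hJC, -⟩ := exists_reduced hc0 hfree hc S
  haveI := hCn
  obtain ⟨c, hc', n, hn, e⟩ := exists_mul_normalizer (C := C) S g
  exact ⟨c, hCZ hc', n, normalizer_trace_le S hJC hn, e⟩

/-- The second factorization. -/
theorem factor_jHat (hc0 : Constr G) (hfree : S4Free G) (hc : CompK G) (S : Sylow 2 G) (g : G) :
    ∃ c ∈ centralizer (((S : Subgroup G) ⊓ centralizer ((S : Subgroup G) : Set G) : Subgroup G) : Set G),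
      ∃ n ∈ normalizer ((jH (S : Subgroup G) : Subgroup G) : Set G), g = c * n := by
  obtain ⟨C, hCn, hCZ, hJC, hjC⟩ := exists_reduced hc0 hfree hc S
  haveI := hCn
  obtain ⟨c, hc', n, hn, e⟩ := exists_mul_normalizer (C := C) S g
  refine ⟨c, hCZ hc', n, ?_, e⟩
  have h := normalizer_le_normalizer_jH ((S : Subgroup G) ⊓ C) hn
  have he : jH ((S : Subgroup G) ⊓ C) = jH (S : Subgroup G) := by
    refine le_antisymm (jH_le_of_eq inf_le_left (thompson_inf hJC)) ?_
    rw [jH_eq_sSup (S : Subgroup G)]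
    refine sSup_le ?_
    rintro U ⟨hUS, hUE, hJU⟩
    have hUC : U ≤ C := le_trans (by rw [jH_eq_sSup]; exact le_sSup ⟨hUS, hUE, hJU⟩) hjC
    rw [jH_eq_sSup, thompson_inf hJC]
    exact le_sSup ⟨le_inf hUS hUC, hUE, hJU⟩
  rwa [he] at h

/-- `Ω₁(Z(Ĵ(T)))`. -/
abbrev zJH (T : Subgroup G) : Subgroup G :=
  Cfsg.omegaOne 2 (jH T ⊓ centralizer ((jH T : Subgroup G) : Set G))

theorem factor_zJH_aux : ∀ (n : ℕ) (G : Type u) [Group G] [Finite G], Nat.card G = n → Constr G →
    S4Free G → CompK G → ∀ (S : Sylow 2 G) (g : G),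
    ∃ c ∈ centralizer ((zJH (S : Subgroup G) : Subgroup G) : Set G),
      ∃ n ∈ normalizer (Cfsg.thompsonSubgroupOf 2 (S : Subgroup G) : Set G), g = c * n := by
  intro n
  induction n using Nat.strong_induction_on with
  | _ n ih =>
  intro G _ _ hn hc0 hfree hc S g
  haveI : Fact (Nat.Prime 2) := ⟨Nat.prime_two⟩
  subst hn
  set J := Cfsg.thompsonSubgroupOf 2 (S : Subgroup G) with hJ
  have hJS : J ≤ (S : Subgroup G) := H1.thompsonSubgroupOf_le 2 _
  have hJj : J ≤ jH (S : Subgroup G) := thompson_le_jH _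
  set L := normalClosure (J : Set G) with hL
  haveI hLn : L.Normal := normalClosure_normal
  have hJL : J ≤ L := subset_normalClosure
  by_cases hLtop : L = ⊤
  · -- `S` is an E-group
    have hSE : Cfsg.IsEGroup ↥(S : Subgroup G) := by
      rw [isEGroup_iff]
      intro V hVn hV hE
      set W := V.map (S : Subgroup G).subtype with hW
      have hWe : Elem W := (elem_map_iff _ (S : Subgroup G).subtype_injective V).mpr hV
      have hWS : W ≤ (S : Subgroup G) := map_subtype_le V
      have hE' : EProp W (S : Subgroup G) := by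
        have := (eProp_map_iff _ (S : Subgroup G).subtype_injective V ⊤).mpr hE
        rwa [← MonoidHom.range_eq_map, range_subtype] at this
      have hJW : J ≤ centralizer (W : Set G) := by
        rw [hJ, H11.thompsonSubgroupOf_eq]
        exact sSup_le fun A hA => maxFam_le_centralizer hWe hWS (hE'.mono hA.1).marg hA
      have hSW : (S : Subgroup G) ≤ normalizer (W : Set G) := by
        intro s hs
        apply mem_normalizer_fintype
        rintro _ ⟨v, hv, rfl⟩
        exact ⟨⟨s, hs⟩ * v * ⟨s, hs⟩⁻¹, hVn.conj_mem v hv _, rfl⟩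
      have hall : L ≤ centralizer (W : Set G) := by
        rw [hL, normalClosure, closure_le]
        intro z hz
        obtain ⟨j, hj, hjz⟩ := Group.mem_conjugatesOfSet_iff.mp hz
        obtain ⟨x, rfl⟩ := isConj_iff.mp hjz
        exact claim hc0 hfree hc S hWe hWS hSW hE'.marg hJW x (conj_mem_cj hj)
      intro v hv
      rw [Subgroup.mem_center_iff]
      intro s
      exact Subtype.ext (mem_centralizer_iff.mp (hall (hLtop.symm ▸ mem_top (s : G))) _ ⟨v, hv, rfl⟩).symm
    have hjS : jH (S : Subgroup G) = (S : Subgroup G) := by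
      refine le_antisymm (jH_le _) ?_
      rw [jH_eq_sSup]
      exact le_sSup ⟨le_rfl, hSE, hJS⟩
    obtain ⟨C, hCn, hCZ, hJC, -⟩ := exists_reduced hc0 hfree hc S
    haveI := hCn
    refine ⟨g, ?_, 1, one_mem _, (mul_one g).symm⟩
    have hgC : g ∈ C := normalClosure_le_normal (N := C) hJC (show g ∈ L by rw [hLtop]; exact mem_top g)
    refine centralizer_le ?_ (hCZ hgC)
    rw [SetLike.coe_subset_coe, zJH, hjS, Cfsg.omegaOne, closure_le]
    exact fun x hx => hx.1
  · set S' := H32.sylowInf S L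
    have hlt : Nat.card L < Nat.card G :=
      lt_of_le_of_ne (card_le_card_group L) fun e => hLtop (eq_top_of_card_eq L e)
    have hmapS : ((S' : Subgroup L)).map L.subtype = (S : Subgroup G) ⊓ L := H32.map_sylowInf S L
    have hmapJ : (Cfsg.thompsonSubgroupOf 2 (S' : Subgroup L)).map L.subtype = J := by
      rw [H1.map_thompsonSubgroupOf 2 L.subtype _ (by rw [L.ker_subtype]; exact disjoint_bot_right),
        hmapS, thompson_inf hJL]
    obtain ⟨l, hl, m, hm, rfl⟩ := exists_mul_normalizer (C := L) S g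
    obtain ⟨c, hc', n', hn', e⟩ := ih _ hlt L rfl (constr_of_normal hc0 L)
      (fun e => hfree (H74.JA.involves_subgroup e)) (hc.of_normal L) S' ⟨l, hl⟩
    have hnJ : (n' : G) ∈ normalizer (J : Set G) := by
      apply mem_normalizer_fintype
      intro j hj
      rw [← hmapJ] at hj ⊢
      obtain ⟨j', hj', rfl⟩ := hj
      exact ⟨n' * j' * n'⁻¹, conj_mem hn' hj', rfl⟩
    refine ⟨c, ?_, (n' : G) * m, mul_mem hnJ (normalizer_trace_le S hJL hm), ?_⟩
    · rw [zJH, Cfsg.omegaOne, centralizer_closure, mem_centralizer_iff]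
      rintro x ⟨hx, hx2⟩
      obtain ⟨hxj, hxc⟩ := mem_inf.mp hx
      have hxJ : x ∈ J := mem_thompson_of_commute (jH_le _ hxj) hx2
        (centralizer_le (SetLike.coe_subset_coe.mpr hJj) hxc)
      have hle : (jH (S' : Subgroup L)).map L.subtype ≤ jH (S : Subgroup G) := by
        rw [jH_map L.subtype L.subtype_injective, hmapS]
        exact jH_le_of_eq inf_le_left (thompson_inf hJL)
      rw [← hmapJ] at hxJ
      obtain ⟨x', hx', rfl⟩ := hxJ
      have hx'Z : x' ∈ zJH (S' : Subgroup L) := by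
        refine subset_closure ⟨mem_inf.mpr ⟨thompson_le_jH _ hx', mem_centralizer_iff.mpr fun y hy => ?_⟩,
          L.subtype_injective (by rw [map_pow, map_one]; exact hx2)⟩
        exact Subtype.ext (mem_centralizer_iff.mp hxc _ (hle ⟨y, hy, rfl⟩))
      exact congrArg Subtype.val (mem_centralizer_iff.mp hc' x' hx'Z)
    · have e' : l = (c : G) * (n' : G) := congrArg Subtype.val e
      rw [e', mul_assoc]

/-- The third factorization. -/
theorem factor_zJH (hc0 : Constr G) (hfree : S4Free G) (hc : CompK G) (S : Sylow 2 G) (g : G) :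
    ∃ c ∈ centralizer ((zJH (S : Subgroup G) : Subgroup G) : Set G),
      ∃ n ∈ normalizer (Cfsg.thompsonSubgroupOf 2 (S : Subgroup G) : Set G), g = c * n :=
  factor_zJH_aux _ G rfl hc0 hfree hc S g

end H74.Pair
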