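import Mathlib
import Cfsg.Prelude.Def_ConjugacyFunctors
import Cfsg.Agent.H74.Pair.Factor

/-!
The two functors `J_e` and `Ω₁(Z(Ĵ))` in every section of a group without `S₄` section.
-/

set_option autoImplicit false
set_option linter.all false

namespace H74.Pair

open Subgroup

universe u

/-- `Ω₁(Z(Ĵ(Q)))` as a functor. -/
def zJFun (Q : Type u) [Group Q] : Subgroup Q :=
  Cfsg.omegaOne 2 (Cfsg.jHat Q ⊓ centralizer ((Cfsg.jHat Q : Subgroup Q) : Set Q))

/-- `J_e(Q)` as a functor. -/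
def jFun (Q : Type u) [Group Q] : Subgroup Q :=
  Cfsg.thompsonSubgroup 2 Q

theorem thompsonSubgroup_eq_top {Q : Type u} [Group Q] :
    Cfsg.thompsonSubgroup 2 Q = Cfsg.thompsonSubgroupOf 2 (⊤ : Subgroup Q) := by
  rw [← H1.map_thompsonSubgroup 2 (Subgroup.topEquiv (G := Q))]
  rfl

theorem thompson_le_jHat {Q : Type u} [Group Q] [Finite Q] :
    Cfsg.thompsonSubgroup 2 Q ≤ Cfsg.jHat Q := by
  refine le_sSup ⟨?_, le_rfl⟩
  rw [thompsonSubgroup_eq_top]
  exact isEGroup_thompson _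

theorem isCharPFunctor_jFun : Cfsg.IsCharPFunctor.{u} 2 jFun.{u} := by
  haveI : Fact (Nat.Prime 2) := ⟨Nat.prime_two⟩
  refine ⟨fun Q _ _ hQ hne => ?_, fun Q R _ _ _ _ φ => H1.map_thompsonSubgroup 2 φ⟩
  rw [jFun, thompsonSubgroup_eq_top]
  exact H1.thompsonSubgroupOf_ne_bot' (hQ.to_subgroup _) top_ne_bot

theorem map_zJFun {Q R : Type u} [Group Q] [Group R] [Finite Q] [Finite R] (φ : Q ≃* R) :
    (zJFun Q).map φ.toMonoidHom = zJFun R := by
  have key : ∀ {A B : Type u} [Group A] [Group B] [Finite A] [Finite B] (f : A ≃* B),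
      (zJFun A).map f.toMonoidHom ≤ zJFun B := by
    intro A B _ _ _ _ f
    rw [zJFun, Cfsg.omegaOne, MonoidHom.map_closure, closure_le]
    rintro _ ⟨x, ⟨hx, hx2⟩, rfl⟩
    refine subset_closure ⟨⟨?_, ?_⟩, by rw [← map_pow, hx2, map_one]⟩
    · rw [← map_jHat_equiv f]
      exact mem_map_of_mem _ (mem_inf.mp hx).1
    · show f.toMonoidHom x ∈ centralizer _
      rw [mem_centralizer_iff, ← map_jHat_equiv f]
      rintro _ ⟨y, hy, rfl⟩
      rw [← map_mul, ← map_mul, mem_centralizer_iff.mp (mem_inf.mp hx).2 y hy]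
  refine le_antisymm (key φ) fun x hx => ?_
  exact ⟨φ.symm x, key φ.symm ⟨x, hx, rfl⟩, φ.apply_symm_apply x⟩

theorem isCharPFunctor_zJFun : Cfsg.IsCharPFunctor.{u} 2 zJFun.{u} := by
  haveI : Fact (Nat.Prime 2) := ⟨Nat.prime_two⟩
  refine ⟨fun Q _ _ hQ hne h => ?_, fun Q R _ _ _ _ φ => ?_⟩
  · set Z := Cfsg.jHat Q ⊓ centralizer ((Cfsg.jHat Q : Subgroup Q) : Set Q)
    have hZ : Z ≠ ⊥ := H1.inf_centralizer_ne_bot (hQ.to_subgroup _) (ne_bot_of_le_ne_bot
      (isCharPFunctor_jFun.1 Q hQ hne) thompson_le_jHat)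
    haveI : Nontrivial Z := (nontrivial_iff_ne_bot Z).mpr hZ
    obtain ⟨x, hx⟩ := exists_prime_orderOf_dvd_card' (G := Z) 2
      (((hQ.to_subgroup Z).card_eq_or_dvd).resolve_left Finite.one_lt_card.ne')
    have hmem : (x : Q) ∈ zJFun Q := subset_closure ⟨x.2, by
      rw [← hx, ← Subgroup.orderOf_coe, pow_orderOf_eq_one]⟩
    rw [h, mem_bot] at hmem
    rw [← Subgroup.orderOf_coe, hmem, orderOf_one] at hx
    omega
  · haveI : Finite R := Finite.of_equiv Q φ.toEquiv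
    exact map_zJFun φ

variable {G : Type u} [Group G] [Finite G]

theorem inducedFunctor_zJFun (T : Subgroup G) :
    Cfsg.inducedFunctor (G := G) zJFun.{u} T = zJH T := by
  refine le_antisymm ?_ ?_
  · rw [Cfsg.inducedFunctor, zJFun, Cfsg.omegaOne, MonoidHom.map_closure, closure_le]
    rintro _ ⟨x, ⟨hx, hx2⟩, rfl⟩
    refine subset_closure ⟨⟨mem_map_of_mem _ (mem_inf.mp hx).1, ?_⟩, by rw [← map_pow, hx2, map_one]⟩
    show T.subtype x ∈ centralizer _
    rw [mem_centralizer_iff]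
    rintro _ ⟨y, hy, rfl⟩
    rw [← map_mul, ← map_mul, mem_centralizer_iff.mp (mem_inf.mp hx).2 y hy]
  · rw [zJH, Cfsg.omegaOne, closure_le]
    rintro z ⟨hz, hz2⟩
    obtain ⟨⟨x, hx, rfl⟩, hzc⟩ := mem_inf.mp hz
    refine ⟨x, subset_closure ⟨⟨hx, ?_⟩, T.subtype_injective (by rw [map_pow, map_one]; exact hz2)⟩, rfl⟩
    show x ∈ centralizer _
    rw [mem_centralizer_iff]
    intro y hy
    exact T.subtype_injective (mem_centralizer_iff.mp hzc _ ⟨y, hy, rfl⟩)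

theorem normalizer_jH_le_normalizer_zJH (T : Subgroup G) :
    normalizer ((jH T : Subgroup G) : Set G) ≤ normalizer ((zJH T : Subgroup G) : Set G) := by
  intro n hn
  apply Subgroup.mem_normalizer_fintype
  have h : zJH T ≤ (zJH T).comap (MulAut.conj n).toMonoidHom := by
    rw [zJH, Cfsg.omegaOne, closure_le]
    rintro x ⟨hx, hx2⟩
    refine subset_closure ⟨⟨Cfsg.Agent.H9.SFree.conj_mem hn (mem_inf.mp hx).1, ?_⟩, ?_⟩
    · show n * x * n⁻¹ ∈ centralizer _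
      rw [mem_centralizer_iff]
      intro y hy
      have h := mem_centralizer_iff.mp (mem_inf.mp hx).2 _ (Cfsg.Agent.H9.SFree.conj_mem' hn hy)
      calc y * (n * x * n⁻¹) = n * ((n⁻¹ * y * n) * x) * n⁻¹ := by group
        _ = n * (x * (n⁻¹ * y * n)) * n⁻¹ := by rw [h]
        _ = _ := by group
    · show (n * x * n⁻¹) ^ 2 = 1
      rw [conj_pow, hx2, mul_one, mul_inv_cancel]
  exact fun x hx => h hx

theorem omegaOne_center_le (S : Subgroup G) :
    Cfsg.omegaOne 2 (S ⊓ centralizer (S : Set G)) ≤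
      Cfsg.thompsonSubgroupOf 2 S ⊓ zJH S := by
  refine (closure_le _).mpr ?_
  rintro x ⟨hx, hx2⟩
  obtain ⟨hxS, hxc⟩ := mem_inf.mp hx
  have hxJ : x ∈ Cfsg.thompsonSubgroupOf 2 S := mem_thompson_of_commute hxS hx2
    (centralizer_le (SetLike.coe_subset_coe.mpr (H1.thompsonSubgroupOf_le 2 S)) hxc)
  exact ⟨hxJ, subset_closure ⟨mem_inf.mpr ⟨thompson_le_jH S hxJ,
    centralizer_le (SetLike.coe_subset_coe.mpr (jH_le S)) hxc⟩, hx2⟩⟩

end H74.Pair
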